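import Cfsg.Agent.Lib.JankoFourTwo.Local

/-!
# The lift of the hexad group and the large elementary 2-subgroups
-/

set_option autoImplicit false

namespace CfsgLib.JankoFourTwo

variable {Γ W M : Type*} [Group Γ] [CommGroup W] [Group M]

namespace Acting

variable {ρ : Γ →* MulAut W} {p : Γ} {ψ : ↥(Subgroup.centralizer ({p} : Set Γ)) →* M}
  (h : Acting ρ p ψ) {S A R : Subgroup M} (hx : Hexad S A R)
include h hx

theorem lift_commute {a b : ↥(Subgroup.centralizer ({p} : Set Γ))} (ha : a * a = 1) (hb : b * b = 1)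
    (hA : ψ a ∈ A) (hB : ψ b ∈ A) : a * b = b * a := by
  have hab : ψ a * ψ b = ψ b * ψ a := by
    have e : ψ a * ψ b * (ψ a * ψ b) = 1 := hx.sq _ (mul_mem hA hB)
    calc ψ a * ψ b = (ψ a * ψ b)⁻¹ := (inv_eq_of_mul_eq_one_left e).symm
      _ = ψ b * ψ a := by
        rw [mul_inv_rev, inv_eq_of_mul_eq_one_left (hx.sq _ hA),
          inv_eq_of_mul_eq_one_left (hx.sq _ hB)]
  have h1 := h.lift_unique (l := a * b * a⁻¹) (l' := b)
    (by calc a * b * a⁻¹ * (a * b * a⁻¹) = a * (b * b) * a⁻¹ := by group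
          _ = 1 := by rw [hb]; group) hb
    (by rw [map_mul, map_mul, map_inv, hab, mul_inv_cancel_right])
  exact (mul_inv_eq_iff_eq_mul.1 h1)

/-- The lift of the hexad group, as a subgroup. -/
def liftSub : Subgroup Γ where
  carrier := h.lift A
  one_mem' := ⟨one_mem _, one_mul 1, by
    rw [show (⟨1, one_mem _⟩ : ↥(Subgroup.centralizer ({p} : Set Γ))) = 1 from rfl, map_one]
    exact one_mem A⟩
  mul_mem' := by
    rintro a b ⟨ha, ha2, haA⟩ ⟨hb, hb2, hbA⟩
    refine ⟨mul_mem ha hb, ?_, ?_⟩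
    · have e : a * b = b * a := congrArg Subtype.val
        (h.lift_commute hx (a := ⟨a, ha⟩) (b := ⟨b, hb⟩) (Subtype.ext ha2) (Subtype.ext hb2) haA hbA)
      calc a * b * (a * b) = a * b * (b * a) := by rw [e]
        _ = a * (b * b) * a := by group
        _ = 1 := by rw [hb2, mul_one, ha2]
    · rw [show (⟨a * b, mul_mem ha hb⟩ : ↥(Subgroup.centralizer ({p} : Set Γ))) =
        ⟨a, ha⟩ * ⟨b, hb⟩ from rfl, map_mul]
      exact mul_mem haA hbA
  inv_mem' := by
    rintro a ⟨ha, ha2, haA⟩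
    refine ⟨inv_mem ha, by rw [← mul_inv_rev, ha2, inv_one], ?_⟩
    rw [show (⟨a⁻¹, inv_mem ha⟩ : ↥(Subgroup.centralizer ({p} : Set Γ))) = ⟨a, ha⟩⁻¹ from rfl,
      map_inv]
    exact inv_mem haA

theorem mem_liftSub {a : ↥(Subgroup.centralizer ({p} : Set Γ))} :
    (a : Γ) ∈ h.liftSub hx ↔ a * a = 1 ∧ ψ a ∈ A :=
  ⟨fun ⟨_, h2, hA⟩ => ⟨Subtype.ext h2, hA⟩, fun ⟨h2, hA⟩ => ⟨a.2, congrArg Subtype.val h2, hA⟩⟩

theorem liftSub_le : h.liftSub hx ≤ Subgroup.centralizer ({p} : Set Γ) := fun _ ⟨ha, _⟩ => ha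

theorem liftSub_sq {a : Γ} (ha : a ∈ h.liftSub hx) : a * a = 1 := ha.2.1

theorem card_liftSub : Nat.card (h.liftSub hx) = 16 := by
  rw [← hx.card_A]
  refine Nat.card_congr (Equiv.ofBijective
    (fun a => (⟨ψ ⟨a, a.2.1⟩, a.2.2.2⟩ : A)) ⟨fun a b e => ?_, fun m => ?_⟩)
  · have := h.lift_unique (l := ⟨a, a.2.1⟩) (l' := ⟨b, b.2.1⟩) (Subtype.ext a.2.2.1)
      (Subtype.ext b.2.2.1) (congrArg Subtype.val e)
    exact Subtype.ext (by simpa using this)
  · obtain ⟨l, hl2, hl⟩ := h.lift_exists (hx.sq _ m.2)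
    exact ⟨⟨l, (h.mem_liftSub hx).2 ⟨hl2, hl ▸ m.2⟩⟩, Subtype.ext hl⟩

theorem conj_liftSub {g : ↥(Subgroup.centralizer ({p} : Set Γ))}
    (hg : ψ g ∈ Subgroup.normalizer (A : Set M)) {a : Γ} (ha : a ∈ h.liftSub hx) :
    (g : Γ) * a * (g : Γ)⁻¹ ∈ h.liftSub hx := by
  obtain ⟨hL, h2, hA⟩ := ha
  refine (h.mem_liftSub hx (a := g * ⟨a, hL⟩ * g⁻¹)).2 ⟨Subtype.ext ?_, ?_⟩
  · show (g : Γ) * a * (g : Γ)⁻¹ * ((g : Γ) * a * (g : Γ)⁻¹) = 1
    calc (g : Γ) * a * (g : Γ)⁻¹ * ((g : Γ) * a * (g : Γ)⁻¹) = g * (a * a) * (g : Γ)⁻¹ := by group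
      _ = 1 := by rw [h2]; group
  · rw [map_mul, map_mul, map_inv]
    exact (Subgroup.mem_normalizer_iff.1 hg _).1 hA

/-- The fixed subgroup of the lift is invariant under the lifted normaliser. -/
theorem apply_mem_fix_lift {g : ↥(Subgroup.centralizer ({p} : Set Γ))}
    (hg : ψ g ∈ Subgroup.normalizer (A : Set M)) {v : W}
    (hv : v ∈ fixG ρ (h.liftSub hx : Set Γ)) : ρ (g : Γ) v ∈ fixG ρ (h.liftSub hx : Set Γ) := by
  intro a ha
  have ha' : ((g⁻¹ : ↥(Subgroup.centralizer ({p} : Set Γ))) : Γ) * a *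
      ((g⁻¹ : ↥(Subgroup.centralizer ({p} : Set Γ))) : Γ)⁻¹ ∈ h.liftSub hx :=
    h.conj_liftSub hx (by rw [map_inv]; exact inv_mem hg) ha
  rw [← apply_mul, show a * (g : Γ) = (g : Γ) * ((g : Γ)⁻¹ * a * g) by group, apply_mul]
  congr 1
  rw [Subgroup.coe_inv, inv_inv] at ha'
  exact hv _ ha'

theorem p_mem_fix_lift {v : W} (hv : v ∈ fixG ρ (h.liftSub hx : Set Γ)) :
    ρ p v ∈ fixG ρ (h.liftSub hx : Set Γ) :=
  h.fixG_inv_p (fun g hg => Subgroup.mem_centralizer_singleton_iff.1 (h.liftSub_le hx hg)) hv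

/-- An involution of the Sylow 2-part of the centralizer fixes at most 256 elements. -/
theorem fix_le {t : ↥(Subgroup.centralizer ({p} : Set Γ))} (ht : t * t = 1) (ht1 : t ≠ 1)
    (htS : ψ t ∈ S) : Nat.card (fixG ρ {(t : Γ)}) ≤ 256 :=
  h.card_fix_le ht ht1 (hx.eleven _ htS
    (fun e => ht1 (h.lift_unique ht (one_mul 1) (e.trans (map_one ψ).symm)))
    (by rw [← map_mul, ht, map_one]))

/-- An involution outside the hexad group in `S` or a subgroup of involutions in it: rank at most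
four, and a subgroup of order sixteen meets the hexad group in at least four elements. -/
theorem small_rank [Finite M] {B : Subgroup M} (hBS : B ≤ S) (hsq : ∀ b ∈ B, b * b = 1) :
    Nat.card B ≤ 16 ∧ (Nat.card B = 16 → B = A ∨ (4 ≤ Nat.card ↥(B ⊓ A) ∧ ¬ B ≤ A)) := by
  classical
  haveI hn : (A.subgroupOf S).Normal := Subgroup.normal_subgroupOf_of_le_normalizer hx.S_norm
  let π : ↥B →* ↥S ⧸ A.subgroupOf S :=
    (QuotientGroup.mk' (A.subgroupOf S)).comp (Subgroup.inclusion hBS)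
  have hker : Nat.card π.ker = Nat.card ↥(B ⊓ A) := by
    refine Nat.card_congr
      { toFun := fun b => ⟨((b : ↥B) : M), (b : ↥B).2, ?_⟩
        invFun := fun b => ⟨⟨b, b.2.1⟩, (QuotientGroup.eq_one_iff _).2 b.2.2⟩
        left_inv := fun _ => rfl
        right_inv := fun _ => rfl }
    exact (QuotientGroup.eq_one_iff (Subgroup.inclusion hBS (b : ↥B))).1 b.2
  have hQ : Nat.card (↥S ⧸ A.subgroupOf S) = 8 := by
    have := Subgroup.card_eq_card_quotient_mul_card_subgroup (A.subgroupOf S)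
    rw [hx.card_S, Nat.card_congr (Subgroup.subgroupOfEquivOfLe hx.le).toEquiv, hx.card_A] at this
    omega
  have hr : Nat.card π.range ≤ 4 := by
    have hd := Subgroup.card_subgroup_dvd_card π.range
    rw [hQ] at hd
    have hne : Nat.card π.range ≠ 8 := fun e => by
      obtain ⟨x, hxS, hxA⟩ := hx.square_out
      have htop : π.range = ⊤ := Subgroup.eq_top_of_card_eq _ (by rw [e, hQ])
      obtain ⟨b, hb⟩ : (QuotientGroup.mk' (A.subgroupOf S) ⟨x, hxS⟩) ∈ π.range :=
        htop ▸ Subgroup.mem_top _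
      have e2 : π (b * b) = QuotientGroup.mk' (A.subgroupOf S) (⟨x, hxS⟩ * ⟨x, hxS⟩) := by
        rw [map_mul, map_mul, hb]
      rw [show b * b = 1 from Subtype.ext (hsq _ b.2), map_one] at e2
      exact hxA ((QuotientGroup.eq_one_iff (N := A.subgroupOf S) _).1 e2.symm)
    have hle := Nat.le_of_dvd (by norm_num) hd
    interval_cases Nat.card π.range <;> omega
  have hB : Nat.card B = Nat.card ↥(B ⊓ A) * Nat.card π.range := by
    rw [Subgroup.card_eq_card_quotient_mul_card_subgroup π.ker, hker,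
      Nat.card_congr (QuotientGroup.quotientKerEquivRange π).toEquiv, mul_comm]
  by_cases hBA : B ≤ A
  · refine ⟨(Subgroup.card_le_of_le hBA).trans hx.card_A.le, fun e => Or.inl ?_⟩
    exact Subgroup.eq_of_le_of_card_ge hBA (by rw [e, hx.card_A])
  · obtain ⟨b, hbB, hbA⟩ := SetLike.not_le_iff_exists.1 hBA
    have hk : Nat.card ↥(B ⊓ A) ≤ 4 := by
      refine le_trans (Subgroup.card_le_of_le fun a ha => ?_)
        (hx.few b (hBS hbB) hbA (hsq b hbB))
      refine ⟨ha.2, Subgroup.mem_centralizer_singleton_iff.2 ?_⟩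
      have e : a * b * (a * b) = 1 := hsq _ (mul_mem ha.1 hbB)
      calc a * b = (a * b)⁻¹ := (inv_eq_of_mul_eq_one_left e).symm
        _ = b * a := by
          rw [mul_inv_rev, inv_eq_of_mul_eq_one_left (hsq _ ha.1),
            inv_eq_of_mul_eq_one_left (hsq _ hbB)]
    refine ⟨hB ▸ (Nat.mul_le_mul hk hr).trans (by norm_num), fun e => Or.inr ⟨?_, hBA⟩⟩
    rw [hB] at e
    have := Nat.mul_le_mul_left (Nat.card ↥(B ⊓ A)) hr
    omega

variable [Finite Γ] [Finite M] (hM : ∀ U : Subgroup M, ∀ k, Nat.card U = 3 ^ k → k ≤ 2)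
include hM

theorem card_fix_lift : Nat.card (fixG ρ (h.liftSub hx : Set Γ)) = 64 := by
  classical
  haveI := h.finite_W
  obtain ⟨x, y, hxR, hyR, hx3, hy⟩ := h.exists_xy hM hx.card_R hx.R_cube hx.R_comm
  set U := fixG ρ (h.liftSub hx : Set Γ) with hU
  have hcube := card_eq_cube h.exp_W h.cube h.free hx3 (h.comm x) (h.comm y).symm hy (U := U)
    (fun v hv => h.p_mem_fix_lift hx hv)
    (fun v hv => h.apply_mem_fix_lift hx (hx.R_norm hxR) hv)
    (fun v hv => h.apply_mem_fix_lift hx (hx.R_norm hyR) hv)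
  obtain ⟨k, hk⟩ := card_four_pow h.exp_W h.cube h.free (U := U ⊓ fixG ρ {(x : Γ)})
    (fun v hv => ⟨h.p_mem_fix_lift hx hv.1,
      h.fixG_inv_p (fun g hg => by rw [Set.mem_singleton_iff.1 hg]; exact h.comm x) hv.2⟩)
  rw [hk] at hcube
  have hle : Nat.card U ≤ 4096 := h.card_W ▸ Subgroup.card_le_card_group _
  rw [hcube, ← pow_mul] at hle
  have hk2 : k * 3 ≤ 6 := (Nat.pow_le_pow_iff_right (a := 4) (by norm_num)).1 (hle.trans (by norm_num))
  have hbot : U ≠ ⊥ := by
    have hA := inf_fixG_ne_bot (ρ := ρ) h.exp_W (h.liftSub hx : Set Γ).toFinite.toFinset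
      (fun a ha b hb => by
        rw [Set.Finite.mem_toFinset] at ha hb
        obtain ⟨haL, ha2, haA⟩ := ha
        obtain ⟨hbL, hb2, hbA⟩ := hb
        exact congrArg Subtype.val
          (h.lift_commute hx (a := ⟨a, haL⟩) (b := ⟨b, hbL⟩) (Subtype.ext ha2) (Subtype.ext hb2)
            haA hbA))
      (fun a ha => h.liftSub_sq hx ((Set.Finite.mem_toFinset _).1 ha)) ⊤
      (by
        intro e
        have := h.card_W
        rw [← Subgroup.card_top, e, Subgroup.card_bot] at this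
        norm_num at this)
      (fun _ _ _ _ => Subgroup.mem_top _)
    rwa [top_inf_eq, Set.Finite.coe_toFinset] at hA
  have hk1 : k ≠ 0 := fun e => hbot (Subgroup.card_eq_one.1 (by rw [hcube, e]; norm_num))
  have hk3 : k ≠ 2 := fun e => by
    have htop : U = ⊤ := Subgroup.eq_top_of_card_eq _ (by rw [hcube, e, h.card_W]; norm_num)
    have h16 := h.card_liftSub hx
    have hb : h.liftSub hx = ⊥ := (Subgroup.eq_bot_iff_forall _).2 fun a ha =>
      h.inj (MulEquiv.ext fun v => by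
        rw [map_one, MulAut.one_apply]
        exact (htop ▸ Subgroup.mem_top v : v ∈ U) a ha)
    rw [hb, Subgroup.card_bot] at h16
    omega
  rw [hcube, show k = 1 by omega]
  norm_num

/-- A subgroup of the fixed subgroup invariant under the lifted normaliser is trivial or
everything. -/
theorem sub_fix_lift {U : Subgroup W} (hU : U ≤ fixG ρ (h.liftSub hx : Set Γ))
    (hinv : ∀ g : ↥(Subgroup.centralizer ({p} : Set Γ)), ψ g ∈ Subgroup.normalizer (A : Set M) →
      ∀ v ∈ U, ρ (g : Γ) v ∈ U) :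
    U = ⊥ ∨ U = fixG ρ (h.liftSub hx : Set Γ) := by
  haveI := h.finite_W
  obtain ⟨x, y, hxR, hyR, hx3, hy⟩ := h.exists_xy hM hx.card_R hx.R_cube hx.R_comm
  have hp : ∀ v ∈ U, ρ p v ∈ U := fun v hv =>
    hinv ⟨p, Subgroup.mem_centralizer_singleton_iff.2 rfl⟩
      (by rw [(h.ker _).2 (Subgroup.mem_zpowers p)]; exact one_mem _) v hv
  have hcube := card_eq_cube h.exp_W h.cube h.free hx3 (h.comm x) (h.comm y).symm hy (U := U)
    hp (hinv x (hx.R_norm hxR)) (hinv y (hx.R_norm hyR))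
  obtain ⟨k, hk⟩ := card_four_pow h.exp_W h.cube h.free (U := U ⊓ fixG ρ {(x : Γ)})
    (fun v hv => ⟨hp v hv.1,
      h.fixG_inv_p (fun g hg => by rw [Set.mem_singleton_iff.1 hg]; exact h.comm x) hv.2⟩)
  rw [hk] at hcube
  rcases Nat.eq_zero_or_pos k with rfl | hk0
  · exact Or.inl (Subgroup.card_eq_one.1 (by rw [hcube]; norm_num))
  · refine Or.inr (Subgroup.eq_of_le_of_card_ge hU ?_)
    rw [h.card_fix_lift hx hM, hcube, ← pow_mul]
    calc 64 = 4 ^ 3 := by norm_num
      _ ≤ 4 ^ (k * 3) := Nat.pow_le_pow_right (by norm_num) (by omega)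

/-- An element outside the hexad group in `S` does not fix the fixed subgroup of the lift. -/
theorem not_fix {t : ↥(Subgroup.centralizer ({p} : Set Γ))} (htS : ψ t ∈ S) (htA : ψ t ∉ A)
    (hfix : ∀ v ∈ fixG ρ (h.liftSub hx : Set Γ), ρ (t : Γ) v = v) : False := by
  classical
  haveI := h.finite_W
  set W₀ := fixG ρ (h.liftSub hx : Set Γ) with hW₀
  let K₀ : Subgroup ↥(Subgroup.centralizer ({p} : Set Γ)) :=
    { carrier := {l | ∀ v ∈ W₀, ρ (l : Γ) v = v}
      one_mem' := fun v _ => by rw [Subgroup.coe_one, map_one]; rfl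
      mul_mem' := fun {a b} ha hb v hv => by rw [Subgroup.coe_mul, apply_mul, hb v hv, ha v hv]
      inv_mem' := fun {a} ha v hv => by rw [Subgroup.coe_inv]; exact inv_apply_of_fixed (ha v hv) }
  have hnorm : ∀ g : ↥(Subgroup.centralizer ({p} : Set Γ)),
      ψ g ∈ Subgroup.normalizer (A : Set M) → ∀ l ∈ K₀, g * l * g⁻¹ ∈ K₀ := fun g hg l hl v hv => by
    show ρ ((g : Γ) * l * (g : Γ)⁻¹) v = v
    have hv' : ρ ((g⁻¹ : ↥(Subgroup.centralizer ({p} : Set Γ))) : Γ) v ∈ W₀ :=
      h.apply_mem_fix_lift hx (by rw [map_inv]; exact inv_mem hg) hv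
    rw [Subgroup.coe_inv] at hv'
    rw [apply_mul, apply_mul, hl _ hv', ← apply_mul, mul_inv_cancel, map_one]
    rfl
  obtain ⟨r, hr, hr1, hrK⟩ := hx.fuse _ htS htA (K₀.map ψ)
    (fun a ha => by
      obtain ⟨l, hl2, hl⟩ := h.lift_exists (hx.sq _ ha)
      exact ⟨l, fun v hv => hv _ ((h.mem_liftSub hx).2 ⟨hl2, hl ▸ ha⟩), hl⟩)
    ⟨t, hfix, rfl⟩
    (fun n hn k hk => by
      obtain ⟨l, hl, rfl⟩ := hk
      obtain ⟨g, rfl⟩ := h.surj n
      exact ⟨_, hnorm g hn l hl, by rw [map_mul, map_mul, map_inv]⟩)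
  obtain ⟨c, hc, rfl⟩ := hrK
  obtain ⟨x, y, hxR, hyR, hx3, hy⟩ := h.exists_xy hM hx.card_R hx.R_cube hx.R_comm
  have hxy : (y : Γ) * x ≠ x * y := fun e => by
    rcases hy with e' | e' <;> rw [e, mul_inv_cancel_right, left_eq_mul] at e'
    · exact h.ne_one e'
    · have := h.cube
      rw [pow_succ', pow_two, e', mul_one] at this
      exact h.ne_one this
  -- the kernel of the action on `W₀` meets the centre trivially
  have hcen : ∀ g : ↥(Subgroup.centralizer ({p} : Set Γ)), ψ g ∈ R → Commute (c : Γ) g := by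
    intro g hg
    have hd : g * c * g⁻¹ * c⁻¹ ∈ K₀ := K₀.mul_mem (hnorm g (hx.R_norm hg) c hc) (K₀.inv_mem hc)
    have hz := (h.ker (g * c * g⁻¹ * c⁻¹)).1 (by
      rw [map_mul, map_mul, map_mul, map_inv, map_inv, hx.R_comm _ hg _ hr, mul_inv_cancel_right,
        mul_inv_cancel])
    have hW1 : ∃ v ∈ W₀, v ≠ 1 := by
      by_contra hcon
      push_neg at hcon
      have := h.card_fix_lift hx hM
      rw [show fixG ρ (h.liftSub hx : Set Γ) = ⊥ from (Subgroup.eq_bot_iff_forall _).2 hcon,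
        Subgroup.card_bot] at this
      omega
    obtain ⟨v, hv, hv1⟩ := hW1
    rcases h.mem_zpowers hz with e | e | e
    · have : (g : Γ) * c * (g : Γ)⁻¹ * (c : Γ)⁻¹ = 1 := e
      rw [mul_inv_eq_one, mul_inv_eq_iff_eq_mul] at this
      exact this.symm
    · exact absurd (h.free v (e ▸ hd v hv)) hv1
    · refine absurd (h.free v ?_) hv1
      have := hd v hv
      rw [e] at this
      conv_lhs => rw [← this]
      rw [← apply_mul, show p * (p * p) = 1 by rw [← h.cube, pow_succ', pow_two], map_one]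
      rfl
  -- all lifts commuting with a fixed one
  let D : ↥(Subgroup.centralizer ({p} : Set Γ)) → Subgroup M := fun u =>
    (Subgroup.centralizer ({u} : Set _)).map ψ
  have hD : ∀ u g : ↥(Subgroup.centralizer ({p} : Set Γ)), ψ g ∈ D u → Commute (g : Γ) u := by
    rintro u g ⟨l, hl, e⟩
    have hz := (h.ker (g * l⁻¹)).1 (by rw [map_mul, map_inv, e, mul_inv_cancel])
    obtain ⟨k, hk⟩ := Subgroup.mem_zpowers_iff.1 hz
    have e1 : (g : Γ) = p ^ k * l := by rw [hk, Subgroup.coe_mul, Subgroup.coe_inv, inv_mul_cancel_right]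
    rw [e1]
    exact (Commute.zpow_left (h.comm u).symm k).mul_left
      (congrArg Subtype.val (Subgroup.mem_centralizer_singleton_iff.1 hl))
  have hmemD : ∀ u g : ↥(Subgroup.centralizer ({p} : Set Γ)), Commute (g : Γ) u → ψ g ∈ D u := fun u g hgu =>
    ⟨g, Subgroup.mem_centralizer_singleton_iff.2 (Subtype.ext hgu.eq), rfl⟩
  haveI : Fact (Nat.Prime 3) := ⟨Nat.prime_three⟩
  have horder : ∀ m ∈ R, m ≠ 1 → orderOf m = 3 := fun m hm h1 =>
    orderOf_eq_prime (by rw [pow_succ, pow_two]; exact hx.R_cube m hm) h1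
  by_cases hcx : ψ c ∈ Subgroup.zpowers (ψ x)
  · have hx1 : ψ x ≠ 1 := fun e => by
      rw [e, Subgroup.zpowers_one_eq_bot, Subgroup.mem_bot] at hcx
      exact hr1 hcx
    have hle : Subgroup.zpowers (ψ c) = Subgroup.zpowers (ψ x) :=
      Subgroup.eq_of_le_of_card_ge (Subgroup.zpowers_le.2 hcx)
        (by rw [Nat.card_zpowers, Nat.card_zpowers, horder _ hxR hx1, horder _ hr hr1])
    have : ψ x ∈ D y :=
      (Subgroup.zpowers_le.2 (hmemD y c (hcen y hyR))) (hle ▸ Subgroup.mem_zpowers _)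
    exact hxy (hD y x this).eq.symm
  · set K2 := Subgroup.closure ({ψ x, ψ c} : Set M) with hK2
    have hK2R : K2 ≤ R := (Subgroup.closure_le _).2 (by
      rintro m (rfl | rfl)
      · exact hxR
      · exact hr)
    have hK2D : K2 ≤ D x := (Subgroup.closure_le _).2 (by
      rintro m (rfl | rfl)
      · exact hmemD x x (Commute.refl _)
      · exact hmemD x c (hcen x hxR))
    have hlt : Subgroup.zpowers (ψ x) < K2 := lt_of_le_of_ne
      (Subgroup.zpowers_le.2 (Subgroup.subset_closure (Set.mem_insert _ _)))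
      fun e => hcx (e ▸ Subgroup.subset_closure (Set.mem_insert_of_mem _ rfl))
    by_cases hx1 : ψ x = 1
    · -- then `x` is central
      have hz := (h.ker x).1 hx1
      obtain ⟨k, hk⟩ := Subgroup.mem_zpowers_iff.1 hz
      refine hxy ?_
      rw [← hk]
      exact ((Commute.zpow_left (h.comm y).symm k).eq).symm
    have h3 : 3 < Nat.card K2 := by
      have : Nat.card (Subgroup.zpowers (ψ x)) < Nat.card K2 := by
        by_contra hc'
        exact hlt.ne (Subgroup.eq_of_le_of_card_ge hlt.le (not_lt.1 hc'))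
      rwa [Nat.card_zpowers, horder _ hxR hx1] at this
    have hd := Subgroup.card_dvd_of_le hK2R
    rw [hx.card_R] at hd
    have hle9 := Nat.le_of_dvd (by norm_num) hd
    have hK2eq : K2 = R := Subgroup.eq_of_le_of_card_ge hK2R (by
      rw [hx.card_R]
      interval_cases Nat.card K2 <;> omega)
    exact hxy (hD x y (hK2D (hK2eq ▸ hyR))).eq

/-- The only elementary 2-subgroup with a large fixed subgroup is the lift of the hexad group. -/
theorem classify {B : Subgroup Γ} (hsq : ∀ b ∈ B, b * b = 1)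
    (hS : ∀ (b : Γ) (hb : b ∈ Subgroup.centralizer ({p} : Set Γ)), b ∈ B → ψ ⟨b, hb⟩ ∈ S)
    {X : Subgroup W} (hX : X ≤ fixG ρ (B : Set Γ)) (hX64 : Nat.card X ≤ 64)
    (hbig : 1024 ≤ Nat.card B * Nat.card X) :
    B = h.liftSub hx ∧ X = fixG ρ (h.liftSub hx : Set Γ) := by
  classical
  haveI := h.finite_W
  let Bm : Subgroup M := (B.subgroupOf (Subgroup.centralizer ({p} : Set Γ))).map ψ
  have hBmS : Bm ≤ S := by
    rintro _ ⟨l, hl, rfl⟩
    exact hS l l.2 hl
  have hBmsq : ∀ m ∈ Bm, m * m = 1 := by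
    rintro _ ⟨l, hl, rfl⟩
    rw [← map_mul, show l * l = 1 from Subtype.ext (hsq _ hl), map_one]
  have hcardB0 : Nat.card ↥(B ⊓ (Subgroup.centralizer ({p} : Set Γ))) = Nat.card Bm := by
    refine Nat.card_congr (Equiv.ofBijective
      (fun b => (⟨ψ ⟨b, b.2.2⟩, ⟨⟨b, b.2.2⟩, b.2.1, rfl⟩⟩ : Bm)) ⟨fun a b e => ?_, fun m => ?_⟩)
    · have := h.lift_unique (l := ⟨a, a.2.2⟩) (l' := ⟨b, b.2.2⟩) (Subtype.ext (hsq _ a.2.1))
        (Subtype.ext (hsq _ b.2.1)) (congrArg Subtype.val e)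
      exact Subtype.ext (by simpa using this)
    · obtain ⟨m, l, hl, rfl⟩ := m
      exact ⟨⟨l, hl, l.2⟩, rfl⟩
  obtain ⟨hrank, h16⟩ := h.small_rank hx hBmS hBmsq
  set F := fixG ρ (B : Set Γ) with hF
  by_cases hlin : B ≤ (Subgroup.centralizer ({p} : Set Γ))
  · have hBB : B ⊓ (Subgroup.centralizer ({p} : Set Γ)) = B := inf_eq_left.2 hlin
    rw [hBB] at hcardB0
    have hBc : Nat.card B = 16 := by
      have := Nat.mul_le_mul (hcardB0 ▸ hrank) hX64
      have h1 := Nat.mul_le_mul_left (Nat.card B) hX64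
      omega
    have hXc : Nat.card X = 64 := by rw [hBc] at hbig; omega
    have hAl : Bm = A → B = h.liftSub hx := fun e => by
      refine Subgroup.eq_of_le_of_card_ge (fun b hb => ?_) (by rw [h.card_liftSub hx, hBc])
      exact (h.mem_liftSub hx (a := ⟨b, hlin hb⟩)).2
        ⟨Subtype.ext (hsq b hb), e ▸ ⟨⟨b, hlin hb⟩, hb, rfl⟩⟩
    rcases h16 (hcardB0 ▸ hBc) with e | ⟨hk, hnle⟩
    · refine ⟨hAl e, Subgroup.eq_of_le_of_card_ge ?_ (by rw [h.card_fix_lift hx hM, hXc])⟩
      rw [← hAl e]; exact hX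
    exfalso
    set W₀ := fixG ρ (h.liftSub hx : Set Γ)
    have hW := h.card_fix_lift hx hM
    have hFp : ∀ v ∈ F, ρ p v ∈ F := fun v hv =>
      h.fixG_inv_p (fun g hg => Subgroup.mem_centralizer_singleton_iff.1 (hlin hg)) hv
    have hF64 : 64 ≤ Nat.card F := hXc ▸ Subgroup.card_le_of_le hX
    by_cases hFW : F ≤ W₀
    · have e : F = W₀ := Subgroup.eq_of_le_of_card_ge hFW (by rw [hW]; exact hF64)
      obtain ⟨m, ⟨l, hl, rfl⟩, hmA⟩ := SetLike.not_le_iff_exists.1 hnle
      exact h.not_fix hx hM (hS l l.2 hl) hmA fun v hv => (e.ge hv : v ∈ F) _ hl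
    -- two involutions of the hexad group with the same fixed subgroup
    set J := W₀ ⊔ F with hJ
    have hJp : ∀ v ∈ J, ρ p v ∈ J := by
      intro v hv
      obtain ⟨a, ha, b, hb, rfl⟩ := Subgroup.mem_sup.1 hv
      rw [map_mul]
      exact Subgroup.mul_mem_sup (h.p_mem_fix_lift hx ha) (hFp b hb)
    obtain ⟨k, hk'⟩ := card_four_pow h.exp_W h.cube h.free hJp
    have hJ256 : 256 ≤ Nat.card J := by
      have hlt : 64 < Nat.card J := by
        by_contra hc
        exact hFW ((Subgroup.eq_of_le_of_card_ge (le_sup_left : W₀ ≤ J)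
          (by rw [hW]; exact not_lt.1 hc)).symm ▸ le_sup_right)
      rw [hk'] at hlt ⊢
      have : 3 < k := by
        by_contra hc
        have := Nat.pow_le_pow_right (show 1 ≤ 4 by norm_num) (not_lt.1 hc)
        omega
      calc 256 = 4 ^ 4 := by norm_num
        _ ≤ 4 ^ k := Nat.pow_le_pow_right (by norm_num) this
    have hfixJ : ∀ m ∈ Bm ⊓ A, m ≠ 1 → ∃ l : ↥(Subgroup.centralizer ({p} : Set Γ)), l * l = 1 ∧ ψ l = m ∧
        fixG ρ {(l : Γ)} = J ∧ Nat.card J = 256 := by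
      rintro m ⟨⟨l, hl, rfl⟩, hmA⟩ hm1
      have hl2 : l * l = 1 := Subtype.ext (hsq _ hl)
      have hle : J ≤ fixG ρ {(l : Γ)} := sup_le
        (fixG_anti (Set.singleton_subset_iff.2 ((h.mem_liftSub hx).2 ⟨hl2, hmA⟩)))
        (fixG_anti (Set.singleton_subset_iff.2 hl))
      have hub := h.fix_le hx hl2 (fun e => hm1 (by rw [e, map_one])) (hBmS ⟨l, hl, rfl⟩)
      refine ⟨l, hl2, rfl, (Subgroup.eq_of_le_of_card_ge hle (hub.trans hJ256)).symm, ?_⟩
      exact le_antisymm ((Subgroup.card_le_of_le hle).trans hub) hJ256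
    let KA : Subgroup M :=
      { carrier := {m | m ∈ A ∧ ∀ l : ↥(Subgroup.centralizer ({p} : Set Γ)), l * l = 1 → ψ l = m → J ≤ fixG ρ {(l : Γ)}}
        one_mem' := ⟨one_mem A, fun l hl e => by
          rw [h.lift_unique hl (one_mul 1) (e.trans (map_one ψ).symm)]
          intro v _
          rw [mem_fixG_one, Subgroup.coe_one, map_one]; rfl⟩
        mul_mem' := fun {m n} hm hn => by
          refine ⟨mul_mem hm.1 hn.1, fun l hl e v hv => ?_⟩
          obtain ⟨a, ha, ha'⟩ := h.lift_exists (hx.sq _ hm.1)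
          obtain ⟨b, hb, hb'⟩ := h.lift_exists (hx.sq _ hn.1)
          have hab := h.lift_commute hx ha hb (ha' ▸ hm.1) (hb' ▸ hn.1)
          have hlab : l = a * b := h.lift_unique hl
            (by calc a * b * (a * b) = a * b * (b * a) := by rw [hab]
                  _ = a * (b * b) * a := by group
                  _ = 1 := by rw [hb, mul_one, ha])
            (by rw [e, map_mul, ha', hb'])
          rw [mem_fixG_one, hlab, Subgroup.coe_mul, apply_mul, mem_fixG_one.1 (hn.2 b hb hb' hv),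
            mem_fixG_one.1 (hm.2 a ha ha' hv)]
        inv_mem' := fun {m} hm => by rwa [inv_eq_of_mul_eq_one_left (hx.sq _ hm.1)] }
    have hfixK : ∀ m ∈ KA, m ≠ 1 → ∀ l : ↥(Subgroup.centralizer ({p} : Set Γ)), l * l = 1 → ψ l = m → fixG ρ {(l : Γ)} = J := by
      intro m hm hm1 l hl e
      refine (Subgroup.eq_of_le_of_card_ge (hm.2 l hl e) ?_).symm
      exact (h.fix_le hx hl (fun e' => hm1 (by rw [← e, e', map_one]))
        (e ▸ hx.le hm.1)).trans hJ256
    have hclosed : A ≤ KA := by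
      refine hx.closed KA (fun m hm => hm.1) ?_ ?_
      · rintro n hn ⟨m, hm, hm1, hnm⟩ m' hm'
        obtain ⟨g, rfl⟩ := h.surj n
        obtain ⟨l, hl, rfl⟩ := h.lift_exists (hx.sq _ hm.1)
        have hconj2 : g * l * g⁻¹ * (g * l * g⁻¹) = 1 := by
          calc g * l * g⁻¹ * (g * l * g⁻¹) = g * (l * l) * g⁻¹ := by group
            _ = 1 := by rw [hl]; group
        have e1 : fixG ρ {(l : Γ)} = J := hfixK _ hm hm1 l hl rfl
        have e2 : fixG ρ {((g * l * g⁻¹ : ↥(Subgroup.centralizer ({p} : Set Γ))) : Γ)} = J :=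
          hfixK _ hnm (fun e => hm1 (conj_eq_one_iff.1 e)) _ hconj2 (by rw [map_mul, map_mul, map_inv])
        refine ⟨(Subgroup.mem_normalizer_iff.1 hn _).1 hm'.1, fun l' hl' e' v hv => ?_⟩
        have hv' : ρ (g : Γ)⁻¹ v ∈ J := by
          rw [← e1, mem_fixG_one]
          have hvv : ρ ((g : Γ) * l * (g : Γ)⁻¹) v = v := by
            rw [← e2] at hv
            exact mem_fixG_one.1 hv
          conv_rhs => rw [← hvv]
          rw [← apply_mul, ← apply_mul]
          congr 2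
          group
        have hsq' : g⁻¹ * l' * g * (g⁻¹ * l' * g) = 1 := by
          calc g⁻¹ * l' * g * (g⁻¹ * l' * g) = g⁻¹ * (l' * l') * g := by group
            _ = 1 := by rw [hl']; group
        have := mem_fixG_one.1 (hm'.2 (g⁻¹ * l' * g) hsq'
          (by rw [map_mul, map_mul, map_inv, e']; group) hv')
        rw [mem_fixG_one]
        have h2 := congrArg (ρ (g : Γ)) this
        rw [Subgroup.coe_mul, Subgroup.coe_mul, Subgroup.coe_inv, ← apply_mul, ← apply_mul,
          ← apply_mul] at h2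
        convert h2 using 2
        · group
        · simp
      · have : ∃ a b : ↥(Bm ⊓ A), a ≠ 1 ∧ b ≠ 1 ∧ a ≠ b := by
          haveI : Fintype ↥(Bm ⊓ A) := Fintype.ofFinite _
          rw [Nat.card_eq_fintype_card] at hk
          obtain ⟨a, ha⟩ := Fintype.exists_ne_of_one_lt_card (by omega) (1 : ↥(Bm ⊓ A))
          obtain ⟨b, hb⟩ : ∃ b, b ∉ ({1, a} : Finset ↥(Bm ⊓ A)) := by
            by_contra hc
            push_neg at hc
            have := Finset.card_le_card (fun z (_ : z ∈ Finset.univ) => hc z)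
            rw [Finset.card_univ] at this
            have := this.trans Finset.card_le_two
            omega
          simp only [Finset.mem_insert, Finset.mem_singleton, not_or] at hb
          exact ⟨a, b, ha, hb.1, Ne.symm hb.2⟩
        obtain ⟨a, b, ha1, hb1, hab⟩ := this
        have key : ∀ m : ↥(Bm ⊓ A), m ≠ 1 → (m : M) ∈ KA := fun m hm1 => by
          obtain ⟨l, hl, hlm, hfix, -⟩ := hfixJ m m.2 fun e => hm1 (Subtype.ext e)
          exact ⟨m.2.2, fun l' hl' e' => by rw [h.lift_unique hl' hl (e'.trans hlm.symm), hfix]⟩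
        exact ⟨a, key a ha1, b, key b hb1, fun e => ha1 (Subtype.ext e),
          fun e => hb1 (Subtype.ext e), fun e => hab (Subtype.ext e)⟩
    have hJW : J ≤ W₀ := by
      intro v hv a ha
      obtain ⟨haL, ha2, haA⟩ := ha
      exact mem_fixG_one.1 ((hclosed haA).2 ⟨a, haL⟩ (Subtype.ext ha2) rfl hv)
    have := (Subgroup.card_le_of_le hJW).trans hW.le
    omega
  · exfalso
    obtain ⟨σ, hσB, hσ⟩ := SetLike.not_le_iff_exists.1 hlin
    have hinv := h.inverts σ hσ
    have hBle : Nat.card B ≤ 2 * Nat.card ↥(B ⊓ (Subgroup.centralizer ({p} : Set Γ))) := by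
      rw [mul_comm, ← Subgroup.card_mul_index ((B ⊓ (Subgroup.centralizer ({p} : Set Γ))).subgroupOf B),
        Nat.card_congr (Subgroup.subgroupOfEquivOfLe (inf_le_left : B ⊓ (Subgroup.centralizer ({p} : Set Γ)) ≤ B)).toEquiv]
      refine Nat.mul_le_mul_left _ (Subgroup.index_eq_two_iff.2 ⟨⟨σ, hσB⟩, fun b => ?_⟩).le
      simp only [Subgroup.mem_subgroupOf, Subgroup.mem_inf, Subgroup.coe_mul]
      by_cases hb : (b : Γ) ∈ (Subgroup.centralizer ({p} : Set Γ))
      · exact Or.inr ⟨⟨b.2, hb⟩, fun hc => hσ (((Subgroup.centralizer ({p} : Set Γ)).mul_mem_cancel_left hb).1 hc.2)⟩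
      · refine Or.inl ⟨⟨mul_mem b.2 hσB, Subgroup.mem_centralizer_singleton_iff.2 ?_⟩, fun hc => hb hc.2⟩
        have hb' := h.inverts b hb
        have : (b : Γ) * σ * p * ((b : Γ) * σ)⁻¹ = p := by
          calc (b : Γ) * σ * p * ((b : Γ) * σ)⁻¹ = b * (σ * p * σ⁻¹) * (b : Γ)⁻¹ := by group
            _ = b * p⁻¹ * (b : Γ)⁻¹ := by rw [hinv]
            _ = (b * p * (b : Γ)⁻¹)⁻¹ := by group
            _ = p := by rw [hb', inv_inv]
        exact mul_inv_eq_iff_eq_mul.1 this
    set F0 := fixG ρ ((B ⊓ (Subgroup.centralizer ({p} : Set Γ)) : Subgroup Γ) : Set Γ)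
    have hsq2 : Nat.card F * Nat.card F ≤ Nat.card F0 := by
      rw [← Nat.card_prod]
      have hmem : ∀ v ∈ F, ∀ w ∈ F, v * ρ p w ∈ F0 := fun v hv w hw g hg => by
        rw [map_mul, hv g hg.1, ← apply_mul, Subgroup.mem_centralizer_singleton_iff.1 hg.2,
          apply_mul, hw g hg.1]
      refine Nat.card_le_card_of_injective
        (fun t : F × F => (⟨t.1 * ρ p t.2, hmem _ t.1.2 _ t.2.2⟩ : F0)) ?_
      rintro ⟨a, b⟩ ⟨a', b'⟩ e
      have e : (a : W) * ρ p b = a' * ρ p b' := congrArg Subtype.val e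
      set u := (a : W)⁻¹ * a' with hu
      set w := (b : W) * (b' : W)⁻¹
      have hw : w ∈ F := F.mul_mem b.2 (F.inv_mem b'.2)
      have huw : u = ρ p w := by
        rw [hu, map_mul, map_inv, eq_mul_inv_iff_mul_eq, mul_assoc, inv_mul_eq_iff_eq_mul]
        exact e.symm
      have hσu : ρ σ u = u := (F.mul_mem (F.inv_mem a.2) a'.2) σ hσB
      have hσw : ρ σ w = w := hw σ hσB
      rw [huw, ← apply_mul, show σ * p = p⁻¹ * σ by rw [← hinv]; group, apply_mul, hσw] at hσu
      have hw1 : w = 1 := by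
        refine h.free w ?_
        have h2 := congrArg (ρ p) hσu
        rw [← apply_mul, mul_inv_cancel, map_one, MulAut.one_apply] at h2
        -- `w` is fixed by `p²`, hence by `p`
        have hppp : ρ p (ρ p (ρ p w)) = w := by
          rw [← apply_mul, ← apply_mul, mul_assoc, show p * (p * p) = 1 by
            rw [← h.cube, pow_succ', pow_two], map_one, MulAut.one_apply]
        rw [← h2] at hppp
        exact hppp
      rw [hw1, map_one] at huw
      exact Prod.ext (Subtype.ext (inv_mul_eq_one.1 huw))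
        (Subtype.ext (mul_inv_eq_one.1 hw1))
    have hXF := Subgroup.card_le_of_le hX
    have hB0 : Nat.card ↥(B ⊓ (Subgroup.centralizer ({p} : Set Γ))) ≤ 16 := hcardB0 ▸ hrank
    by_cases hb : B ⊓ (Subgroup.centralizer ({p} : Set Γ)) = ⊥
    · rw [hb, Subgroup.card_bot] at hBle
      have := Nat.mul_le_mul hBle hX64
      omega
    · obtain ⟨⟨t, htB⟩, ht1⟩ := (Subgroup.ne_bot_iff_exists_ne_one).1 hb
      have ht1' : (⟨t, htB.2⟩ : ↥(Subgroup.centralizer ({p} : Set Γ))) ≠ 1 := fun e => ht1 (Subtype.ext (show t = 1 by simpa using e))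
      have h256 : Nat.card F0 ≤ 256 := le_trans
        (Subgroup.card_le_of_le (fixG_anti (Set.singleton_subset_iff.2 htB)))
        (h.fix_le hx (t := ⟨t, htB.2⟩) (Subtype.ext (hsq t htB.1)) ht1' (hS t htB.2 htB.1))
      have hF16 : Nat.card F ≤ 16 := by
        by_contra hc
        have := Nat.mul_le_mul (not_le.1 hc).le (not_le.1 hc).le
        have h17 := Nat.mul_le_mul (not_le.1 hc) (not_le.1 hc)
        simp only [Nat.succ_eq_add_one] at h17
        omega
      have := Nat.mul_le_mul hBle (hXF.trans hF16)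
      omega

end Acting

end CfsgLib.JankoFourTwo
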