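import Cfsg.Prelude.Def_JankoFourType
import Cfsg.Agent.Lib.PGroups.Extraspecial
import Cfsg.Agent.Lib.Sporadic.MathieuTwoTwoAut
import Cfsg.Agent.Lib.JankoFourTwo.Classify

/-!
# From the centralizer of the involution to the action on `E/⟨z⟩`
-/

set_option autoImplicit false

namespace CfsgLib.JankoFourTwo

open Cfsg

variable {H : Type*} [Group H]

/-- The structure of the centralizer of the involution in a group of Janko-four type. -/
structure Setting (H : Type*) [Group H] (z g : H) (E N : Subgroup H) [E.Normal] [N.Normal] : Prop where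
  hz : orderOf z = 2
  central : ∀ h : H, h * z = z * h
  hE : IsExtraspecial 2 E
  card_E : Nat.card E = 2 ^ 13
  cent : Subgroup.centralizer (E : Set H) ≤ E
  le : E ≤ N
  card_N : Nat.card N = 3 * Nat.card E
  iso : Nonempty (H ⧸ N ≃* MulAut ↥Spor.M22)
  g_mem : g ∈ N
  hg : orderOf g = 3
  fix : ∀ e ∈ E, e * g = g * e ↔ e ∈ Subgroup.zpowers z
  outer : ∃ h : H, h * g * h⁻¹ ∈ Subgroup.zpowers g ∧ h * g ≠ g * h
  perfect : g ∈ ⁅Subgroup.centralizer ({g} : Set H), Subgroup.centralizer ({g} : Set H)⁆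

namespace Setting

variable {z g : H} {E N : Subgroup H} [E.Normal] [N.Normal] (s : Setting H z g E N)

theorem card_aut : Nat.card (MulAut ↥Spor.M22) = 887040 ∧
    (Inn ↥Spor.M22).index = 2 := by
  have h := CfsgLib.Sporadic.M22Aut.card_out
  have hinj : Function.Injective (MulAut.conj : ↥Spor.M22 →* MulAut ↥Spor.M22) := by
    haveI := CfsgLib.Sporadic.sporM22_isSimple
    rw [← MonoidHom.ker_eq_bot_iff]
    refine (IsSimpleGroup.eq_bot_or_eq_top_of_normal _ (MonoidHom.normal_ker _)).resolve_right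
      fun e => ?_
    have hcomm : ∀ a b : ↥Spor.M22, a * b = b * a := fun a b => by
      have : a ∈ (MulAut.conj : ↥Spor.M22 →* MulAut ↥Spor.M22).ker := e ▸ Subgroup.mem_top a
      have h1 := congrArg (fun f : MulAut ↥Spor.M22 => f b) (MonoidHom.mem_ker.1 this)
      exact mul_inv_eq_iff_eq_mul.1 h1
    letI : CommGroup ↥Spor.M22 := { mul_comm := hcomm }
    have hp := IsSimpleGroup.prime_card (α := ↥Spor.M22)
    rw [CfsgLib.Sporadic.card_sporM22] at hp
    norm_num at hp
  have hi : (Inn ↥Spor.M22).index = 2 := h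
  refine ⟨?_, hi⟩
  rw [← Subgroup.card_mul_index (Inn ↥Spor.M22), hi, Inn,
    ← Nat.card_congr (MonoidHom.ofInjective hinj).toEquiv, CfsgLib.Sporadic.card_sporM22]

include s

theorem z_mem : z ∈ E := by
  have hzE : z ∈ Subgroup.centralizer (E : Set H) :=
    Subgroup.mem_centralizer_iff.2 fun e _ => s.central e
  exact s.cent hzE

theorem z_ne_one : z ≠ 1 := fun e => by
  have := s.hz
  rw [e, orderOf_one] at this
  omega

theorem z_sq : z * z = 1 := by rw [← pow_two, ← s.hz, pow_orderOf_eq_one]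

theorem mem_zpowers_z {x : H} (hx : x ∈ Subgroup.zpowers z) : x = 1 ∨ x = z := by
  obtain ⟨k, hk⟩ := Subgroup.mem_zpowers_iff.1 hx
  rcases Int.emod_two_eq_zero_or_one k with h | h
  · left; rw [← hk, ← zpow_mod_orderOf, s.hz]; simp [h]
  · right; rw [← hk, ← zpow_mod_orderOf, s.hz]; simp [h]

theorem mem_center_iff (x : E) : x ∈ Subgroup.center E ↔ (x : H) ∈ Subgroup.zpowers z := by
  have hle : (Subgroup.zpowers z).subgroupOf E ≤ Subgroup.center E := fun y hy => by
    refine Subgroup.mem_center_iff.2 fun w => Subtype.ext ?_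
    rcases s.mem_zpowers_z (Subgroup.mem_subgroupOf.1 hy) with e | e
    · show (w : H) * y = y * w
      rw [e, mul_one, one_mul]
    · show (w : H) * y = y * w
      rw [e]; exact s.central w
  have heq : (Subgroup.zpowers z).subgroupOf E = Subgroup.center E := by
    haveI : Finite E := Nat.finite_of_card_ne_zero (by rw [s.card_E]; norm_num)
    refine Subgroup.eq_of_le_of_card_ge hle ?_
    rw [Nat.card_congr (Subgroup.subgroupOfEquivOfLe (Subgroup.zpowers_le.2 s.z_mem)).toEquiv,
      Nat.card_zpowers, s.hz, s.hE.2]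
  rw [← heq]
  rfl

theorem g_cube : g ^ 3 = 1 := by rw [← s.hg, pow_orderOf_eq_one]

theorem g_notMem : g ∉ E := fun h => by
  haveI : Finite E := Nat.finite_of_card_ne_zero (by rw [s.card_E]; norm_num)
  have := Subgroup.orderOf_dvd_natCard E h
  rw [s.hg, s.card_E] at this
  norm_num at this

/-- Abelianizing `E` loses exactly its centre. -/
theorem of_eq_one (x : E) : Abelianization.of x = 1 ↔ (x : H) ∈ Subgroup.zpowers z := by
  rw [← s.mem_center_iff, ← CfsgLib.PGroups.IsExtraspecial.commutator_eq s.hE]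
  exact QuotientGroup.eq_one_iff x

theorem card_W : Nat.card (Abelianization E) = 4096 := by
  have h := Subgroup.card_mul_index (commutator E)
  rw [Subgroup.index_eq_card, CfsgLib.PGroups.IsExtraspecial.commutator_eq s.hE, s.hE.2,
    s.card_E] at h
  show Nat.card (E ⧸ commutator E) = 4096
  rw [CfsgLib.PGroups.IsExtraspecial.commutator_eq s.hE]
  omega

end Setting

theorem exists_of {E : Subgroup H} (w : Abelianization E) : ∃ x : E, Abelianization.of x = w :=
  QuotientGroup.mk_surjective w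

/-- The action on the abelianization of a normal subgroup. -/
noncomputable def conjW (E : Subgroup H) [E.Normal] : H →* MulAut (Abelianization E) where
  toFun h := (MulAut.conjNormal h : MulAut E).abelianizationCongr
  map_one' := MulEquiv.ext fun w => by
    obtain ⟨x, rfl⟩ := exists_of w
    exact congrArg Abelianization.of (Subtype.ext (show (1 : H) * x * 1⁻¹ = x by group))
  map_mul' a b := MulEquiv.ext fun w => by
    obtain ⟨x, rfl⟩ := exists_of w
    exact congrArg Abelianization.of (Subtype.ext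
      (show a * b * x * (a * b)⁻¹ = a * (b * x * b⁻¹) * a⁻¹ by group))

theorem conjW_of (E : Subgroup H) [E.Normal] (h : H) (x : E) :
    conjW E h (Abelianization.of x) = Abelianization.of (MulAut.conjNormal h x) := rfl

theorem le_ker_conjW (E : Subgroup H) [E.Normal] : E ≤ (conjW E).ker := fun e he => by
  refine MonoidHom.mem_ker.2 (MulEquiv.ext fun w => ?_)
  obtain ⟨x, rfl⟩ := exists_of w
  show Abelianization.of (MulAut.conjNormal e x) = Abelianization.of x
  rw [show MulAut.conjNormal e x = (⟨e, he⟩ : E) * x * (⟨e, he⟩ : E)⁻¹ from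
    Subtype.ext (MulAut.conjNormal_apply e x), map_mul, map_mul, map_inv, mul_comm
      (Abelianization.of (⟨e, he⟩ : E)), mul_inv_cancel_right]

/-- The action of `H/E`. -/
noncomputable def actQ (E : Subgroup H) [E.Normal] : H ⧸ E →* MulAut (Abelianization E) :=
  QuotientGroup.lift E (conjW E) (le_ker_conjW E)

theorem actQ_mk (E : Subgroup H) [E.Normal] (h : H) : actQ E (h : H ⧸ E) = conjW E h := rfl

namespace Setting

variable {z g : H} {E N : Subgroup H} [E.Normal] [N.Normal] (s : Setting H z g E N)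
include s

/-- If `K` moves the elements of `D ≥ ⟨z⟩` at most by `z`, then `2|K| ≤ |C_K(D)| |D|`. -/
theorem growth [Finite H] {K D : Subgroup H} (hzD : z ∈ D) (hD : D ≤ E)
    (hmv : ∀ k ∈ K, ∀ v ∈ D, k * v * k⁻¹ = v ∨ k * v * k⁻¹ = z * v) :
    2 * Nat.card K ≤ Nat.card ↥(K ⊓ Subgroup.centralizer (D : Set H)) * Nat.card D := by
  classical
  let Good : Set (Subgroup H) := {D' | z ∈ D' ∧ D' ≤ D ∧
    2 * Nat.card K ≤ Nat.card ↥(K ⊓ Subgroup.centralizer (D' : Set H)) * Nat.card D'}
  have hne : Good.Nonempty := by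
    refine ⟨Subgroup.zpowers z, Subgroup.mem_zpowers z, Subgroup.zpowers_le.2 hzD, le_of_eq ?_⟩
    have e : K ⊓ Subgroup.centralizer ((Subgroup.zpowers z : Subgroup H) : Set H) = K := by
      refine inf_eq_left.2 fun k _ => Subgroup.mem_centralizer_iff.2 fun x hx => ?_
      rcases s.mem_zpowers_z hx with e | e
      · rw [e, one_mul, mul_one]
      · rw [e]; exact (s.central k).symm
    rw [e, Nat.card_zpowers, s.hz, mul_comm]
  obtain ⟨D', ⟨hz', hle', hcard'⟩, hmax⟩ := (Set.toFinite Good).exists_maximal hne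
  have hDD : D' = D := by
    by_contra hne'
    obtain ⟨v, hvD, hv⟩ := SetLike.not_le_iff_exists.1 fun h => hne' (le_antisymm hle' h)
    -- adjoin `v`
    have hv2 : v * v ∈ D' := by
      haveI : Fact (Nat.Prime 2) := ⟨Nat.prime_two⟩
      haveI : Finite E := Subtype.finite
      have h0 := (s.mem_center_iff _).1
        (CfsgLib.PGroups.IsExtraspecial.pow_mem_center s.hE (⟨v, hD hvD⟩ : E))
      rw [SubmonoidClass.coe_pow, pow_two] at h0
      exact Subgroup.zpowers_le.2 hz' h0
    have hconj : ∀ d ∈ D', v * d * v⁻¹ ∈ D' := fun d hd => by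
      have h0 := (s.mem_center_iff _).1 (CfsgLib.PGroups.IsExtraspecial.comm_mem s.hE
        (⟨v, hD hvD⟩ : E) ⟨d, hD (hle' hd)⟩)
      have h1 : v * d * v⁻¹ * d⁻¹ ∈ D' := Subgroup.zpowers_le.2 hz' h0
      simpa using D'.mul_mem h1 hd
    let D2 : Subgroup H :=
      { carrier := {x | x ∈ D' ∨ v⁻¹ * x ∈ D'}
        one_mem' := Or.inl (one_mem _)
        mul_mem' := fun {a b} ha hb => by
          have hconj' : ∀ d ∈ D', v⁻¹ * d * v ∈ D' := fun d hd => by
            have h0 := D'.mul_mem (D'.mul_mem (D'.inv_mem hv2) (hconj d hd)) hv2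
            simpa [mul_assoc] using h0
          rcases ha with ha | ha <;> rcases hb with hb | hb
          · exact Or.inl (mul_mem ha hb)
          · right
            rw [show v⁻¹ * (a * b) = v⁻¹ * a * v * (v⁻¹ * b) by group]
            exact mul_mem (hconj' a ha) hb
          · right
            rw [← mul_assoc]
            exact mul_mem ha hb
          · left
            rw [show a * b = v * (v⁻¹ * a) * v⁻¹ * (v * v) * (v⁻¹ * b) by group]
            exact mul_mem (mul_mem (hconj _ ha) hv2) hb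
        inv_mem' := fun {a} ha => by
          rcases ha with ha | ha
          · exact Or.inl (inv_mem ha)
          · right
            rw [show v⁻¹ * a⁻¹ = (v * v)⁻¹ * (v * (v⁻¹ * a)⁻¹ * v⁻¹) by group]
            exact mul_mem (inv_mem hv2) (hconj _ (inv_mem ha)) }
    have hle2 : D' ≤ D2 := fun x hx => Or.inl hx
    have hlt : D' < D2 := lt_of_le_of_ne hle2 fun e => hv (e ▸ (Or.inr (by simp [one_mem]) : v ∈ D2))
    have h2D : D2 ≤ D := by
      rintro x (hx | hx)
      · exact hle' hx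
      · rw [show x = v * (v⁻¹ * x) by group]; exact mul_mem hvD (hle' hx)
    have hcard2 : 2 * Nat.card D' ≤ Nat.card D2 := by
      have hix : 2 ≤ (D'.subgroupOf D2).index := by
        by_contra hc
        have h0 := Subgroup.index_ne_zero_of_finite (H := D'.subgroupOf D2)
        have h1 : (D'.subgroupOf D2).index = 1 := by omega
        exact hlt.not_ge (Subgroup.subgroupOf_eq_top.1 (Subgroup.index_eq_one.1 h1))
      rw [← Subgroup.card_mul_index (D'.subgroupOf D2),
        Nat.card_congr (Subgroup.subgroupOfEquivOfLe hle2).toEquiv, mul_comm]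
      exact Nat.mul_le_mul_left _ hix
    set C' := K ⊓ Subgroup.centralizer (D' : Set H) with hC'
    have hmv' : ∀ k : C', (k : H) * v * (k : H)⁻¹ * v⁻¹ ∈ Subgroup.zpowers z := fun k => by
      rcases hmv k k.2.1 v hvD with e | e
      · rw [e, mul_inv_cancel]; exact one_mem _
      · rw [e, mul_inv_cancel_right]; exact Subgroup.mem_zpowers z
    let χ : C' →* Subgroup.zpowers z :=
      { toFun := fun k => ⟨_, hmv' k⟩
        map_one' := Subtype.ext (by simp)
        map_mul' := fun a b => Subtype.ext (by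
          show ((a : H) * b) * v * ((a : H) * b)⁻¹ * v⁻¹ =
            (a : H) * v * (a : H)⁻¹ * v⁻¹ * ((b : H) * v * (b : H)⁻¹ * v⁻¹)
          have hcb : Commute ((b : H) * v * (b : H)⁻¹ * v⁻¹) ((a : H) * v * (a : H)⁻¹ * v⁻¹) := by
            rcases s.mem_zpowers_z (hmv' b) with e | e <;> rw [e]
            · exact Commute.one_left _
            · exact (s.central _).symm
          have hca : (a : H) * ((b : H) * v * (b : H)⁻¹ * v⁻¹) =
              ((b : H) * v * (b : H)⁻¹ * v⁻¹) * a := by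
            rcases s.mem_zpowers_z (hmv' b) with e | e <;> rw [e]
            · rw [one_mul, mul_one]
            · exact s.central _
          rw [← hcb.eq]
          calc _ = ((a : H) * ((b : H) * v * (b : H)⁻¹ * v⁻¹)) * v * (a : H)⁻¹ * v⁻¹ := by group
            _ = _ := by rw [hca]; group) }
    have hker : Nat.card C' ≤ Nat.card ↥(K ⊓ Subgroup.centralizer (D2 : Set H)) * 2 := by
      rw [Subgroup.card_eq_card_quotient_mul_card_subgroup χ.ker, mul_comm]
      refine Nat.mul_le_mul ?_ ?_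
      · refine Nat.card_le_card_of_injective (fun k => ⟨((k : C') : H), (k : C').2.1, ?_⟩)
          fun a b e => Subtype.ext (Subtype.ext (Subtype.mk.inj e))
        have hk : ((k : C') : H) * v * ((k : C') : H)⁻¹ * v⁻¹ = 1 :=
          congrArg Subtype.val (MonoidHom.mem_ker.1 k.2)
        rw [mul_inv_eq_one, mul_inv_eq_iff_eq_mul] at hk
        have hc := Subgroup.mem_centralizer_iff.1 (k : C').2.2
        refine Subgroup.mem_centralizer_iff.2 ?_
        rintro x (hx | hx)
        · exact hc x hx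
        · rw [show x = v * (v⁻¹ * x) by group, mul_assoc, hc _ hx, ← mul_assoc, ← hk, mul_assoc]
      · rw [Nat.card_congr (QuotientGroup.quotientKerEquivRange χ).toEquiv]
        refine (Subgroup.card_le_card_group _).trans ?_
        rw [Nat.card_zpowers, s.hz]
    refine hlt.not_ge (hmax ⟨hle2 hz', h2D, ?_⟩ hle2)
    calc 2 * Nat.card K ≤ Nat.card C' * Nat.card D' := hcard'
      _ ≤ Nat.card ↥(K ⊓ Subgroup.centralizer (D2 : Set H)) * 2 * Nat.card D' :=
          Nat.mul_le_mul_right _ hker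
      _ ≤ _ := by rw [mul_assoc]; exact Nat.mul_le_mul_left _ hcard2
  exact hDD ▸ hcard'

theorem ker_conjW [Finite H] : (conjW E).ker = E := by
  refine (Subgroup.eq_of_le_of_card_ge (le_ker_conjW E) ?_).symm
  have hmv : ∀ k ∈ (conjW E).ker, ∀ v ∈ E, k * v * k⁻¹ = v ∨ k * v * k⁻¹ = z * v := by
    intro k hk v hv
    have h0 : Abelianization.of (MulAut.conjNormal k ⟨v, hv⟩ * (⟨v, hv⟩ : E)⁻¹) = 1 := by
      rw [map_mul, map_inv, ← conjW_of, MonoidHom.mem_ker.1 hk, MulAut.one_apply, mul_inv_cancel]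
    have h1 := (s.of_eq_one _).1 h0
    rw [Subgroup.coe_mul, Subgroup.coe_inv, MulAut.conjNormal_apply] at h1
    rcases s.mem_zpowers_z h1 with e | e
    · exact Or.inl (mul_inv_eq_one.1 e)
    · exact Or.inr (mul_inv_eq_iff_eq_mul.1 e)
  have h := s.growth (K := (conjW E).ker) s.z_mem le_rfl hmv
  have hle : (conjW E).ker ⊓ Subgroup.centralizer (E : Set H) ≤ Subgroup.zpowers z := by
    rintro k ⟨-, hkc⟩
    refine (s.mem_center_iff ⟨k, s.cent hkc⟩).1 (Subgroup.mem_center_iff.2 fun w => Subtype.ext ?_)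
    exact Subgroup.mem_centralizer_iff.1 hkc w w.2
  have h2 := Subgroup.card_le_of_le hle
  rw [Nat.card_zpowers, s.hz] at h2
  have := Nat.mul_le_mul_right (Nat.card E) h2
  omega

theorem map_N [Finite H] : N.map (QuotientGroup.mk' E) = Subgroup.zpowers (g : H ⧸ E) := by
  haveI : Fact (Nat.Prime 3) := ⟨Nat.prime_three⟩
  have hp : orderOf (g : H ⧸ E) = 3 := orderOf_eq_prime
    (by rw [← QuotientGroup.mk_pow, s.g_cube]; rfl)
    (fun e => s.g_notMem ((QuotientGroup.eq_one_iff g).1 e))
  refine (Subgroup.eq_of_le_of_card_ge (Subgroup.zpowers_le.2 (show (g : H ⧸ E) ∈ N.map (QuotientGroup.mk' E) from ⟨g, s.g_mem, rfl⟩)) ?_).symm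
  have hcard : Nat.card (N.map (QuotientGroup.mk' E)) * Nat.card E = Nat.card N := by
    have h := Subgroup.card_eq_card_quotient_mul_card_subgroup
      ((QuotientGroup.mk' E).subgroupMap N).ker
    rw [Nat.card_congr (QuotientGroup.quotientKerEquivOfSurjective _
      ((QuotientGroup.mk' E).subgroupMap_surjective N)).toEquiv] at h
    rw [h]
    congr 1
    refine Nat.card_congr
      { toFun := fun e => ⟨⟨e, s.le e.2⟩, Subtype.ext ((QuotientGroup.eq_one_iff _).2 e.2)⟩
        invFun := fun k => ⟨((k : N) : H), (QuotientGroup.eq_one_iff _).1 (congrArg Subtype.val k.2)⟩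
        left_inv := fun _ => rfl
        right_inv := fun _ => rfl }
  rw [s.card_N] at hcard
  rw [Nat.card_zpowers, hp]
  exact (Nat.eq_of_mul_eq_mul_right Nat.card_pos hcard).le

/-- The action of `H/E` satisfies the hypotheses of `Acting`, with the cover map onto M22. -/
theorem exists_acting [Finite H] :
    ∃ ψ : ↥(Subgroup.centralizer ({(g : H ⧸ E)} : Set (H ⧸ E))) →* ↥Spor.M22,
      Acting (actQ E) (g : H ⧸ E) ψ ∧ Nat.card (H ⧸ E) = 2661120 := by
  classical
  obtain ⟨ε⟩ := s.iso
  haveI : Fact (Nat.Prime 3) := ⟨Nat.prime_three⟩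
  haveI : Fact (Nat.Prime 2) := ⟨Nat.prime_two⟩
  set p := (g : H ⧸ E) with hpdef
  set φ : H ⧸ E →* MulAut ↥Spor.M22 :=
    ε.toMonoidHom.comp (QuotientGroup.map E N (MonoidHom.id H) s.le) with hφ
  have hφmk : ∀ h : H, φ (h : H ⧸ E) = ε (h : H ⧸ N) := fun h => rfl
  have hφs : Function.Surjective φ := fun a => by
    obtain ⟨h, hh⟩ := QuotientGroup.mk_surjective (ε.symm a)
    exact ⟨h, by rw [hφmk, hh, MulEquiv.apply_symm_apply]⟩
  have hφk : φ.ker = Subgroup.zpowers p := by
    rw [hpdef, ← s.map_N]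
    ext q
    obtain ⟨h, rfl⟩ := QuotientGroup.mk_surjective q
    rw [MonoidHom.mem_ker, hφmk, map_eq_one_iff _ ε.injective, QuotientGroup.eq_one_iff]
    refine ⟨fun hh => ⟨h, hh, rfl⟩, ?_⟩
    rintro ⟨n, hn, e⟩
    have h1 : n⁻¹ * h ∈ E := QuotientGroup.eq.1 e
    have := N.mul_mem hn (s.le h1)
    rwa [mul_inv_cancel_left] at this
  have hp3 : p ^ 3 = 1 := by rw [hpdef, ← QuotientGroup.mk_pow, s.g_cube]; rfl
  have hp1 : p ≠ 1 := fun e => s.g_notMem ((QuotientGroup.eq_one_iff g).1 e)
  have hord : orderOf p = 3 := orderOf_eq_prime hp3 hp1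
  have hcardΓ : Nat.card (H ⧸ E) = 2661120 := by
    rw [Subgroup.card_eq_card_quotient_mul_card_subgroup φ.ker,
      Nat.card_congr (QuotientGroup.quotientKerEquivOfSurjective φ hφs).toEquiv, card_aut.1, hφk,
      Nat.card_zpowers, hord]
  set L := Subgroup.centralizer ({p} : Set (H ⧸ E)) with hL
  have hpL : p ∈ L := Subgroup.mem_centralizer_singleton_iff.2 rfl
  have hinv : ∀ q : H ⧸ E, q ∉ L → q * p * q⁻¹ = p⁻¹ := by
    intro q hq
    have hmem : q * p * q⁻¹ ∈ Subgroup.zpowers p := by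
      rw [← hφk]
      exact (MonoidHom.normal_ker φ).conj_mem p (hφk ▸ Subgroup.mem_zpowers p) q
    obtain ⟨k, hk⟩ := Subgroup.mem_zpowers_iff.1 hmem
    have h0 := Int.emod_nonneg k (by norm_num : (3 : ℤ) ≠ 0)
    have h1 := Int.emod_lt_of_pos k (by norm_num : (0 : ℤ) < 3)
    rw [← zpow_mod_orderOf, hord] at hk
    rcases (show k % (3 : ℕ) = 0 ∨ k % (3 : ℕ) = 1 ∨ k % (3 : ℕ) = 2 by push_cast; omega) with e | e | e <;>
      rw [e] at hk
    · rw [zpow_zero, eq_comm, conj_eq_one_iff] at hk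
      exact absurd hk hp1
    · rw [zpow_one, eq_comm, mul_inv_eq_iff_eq_mul] at hk
      exact absurd (Subgroup.mem_centralizer_singleton_iff.2 hk) hq
    · rw [← hk, eq_inv_iff_mul_eq_one, show (2 : ℤ) = ((2 : ℕ) : ℤ) from rfl, zpow_natCast,
        ← pow_succ, hp3]
  obtain ⟨h₀, hh0, hh1⟩ := s.outer
  have hout : (h₀ : H ⧸ E) ∉ L := fun hc => by
    refine hh1 (mul_inv_eq_iff_eq_mul.1 ?_)
    have hc' : ((h₀ * g * h₀⁻¹ : H) : H ⧸ E) = (g : H ⧸ E) := by
      rw [QuotientGroup.mk_mul, QuotientGroup.mk_mul, QuotientGroup.mk_inv,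
        Subgroup.mem_centralizer_singleton_iff.1 hc, mul_inv_cancel_right]
    have hE' : (h₀ * g * h₀⁻¹)⁻¹ * g ∈ E := QuotientGroup.eq.1 hc'
    have hP : (h₀ * g * h₀⁻¹)⁻¹ * g ∈ Subgroup.zpowers g :=
      mul_mem (inv_mem hh0) (Subgroup.mem_zpowers g)
    by_contra hne
    have hx1 : (h₀ * g * h₀⁻¹)⁻¹ * g ≠ 1 := fun e => hne (inv_mul_eq_one.1 e)
    have hle : Subgroup.zpowers ((h₀ * g * h₀⁻¹)⁻¹ * g) = Subgroup.zpowers g := by
      refine Subgroup.eq_of_le_of_card_ge (Subgroup.zpowers_le.2 hP) ?_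
      rw [Nat.card_zpowers, Nat.card_zpowers, s.hg]
      have hd : orderOf ((h₀ * g * h₀⁻¹)⁻¹ * g) ∣ 3 := by
        rw [← s.hg, ← Nat.card_zpowers g]
        exact Subgroup.orderOf_dvd_natCard _ hP
      rcases (Nat.dvd_prime Nat.prime_three).1 hd with e | e
      · exact absurd (orderOf_eq_one_iff.1 e) hx1
      · exact e.ge
    exact s.g_notMem (Subgroup.zpowers_le.2 hE' (hle ▸ Subgroup.mem_zpowers g))
  have hidx : L.index = 2 := by
    refine Subgroup.index_eq_two_iff.2 ⟨(h₀ : H ⧸ E), fun q => ?_⟩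
    by_cases hq : q ∈ L
    · exact Or.inr ⟨hq, fun hc => hout ((L.mul_mem_cancel_left hq).1 hc)⟩
    · refine Or.inl ⟨Subgroup.mem_centralizer_singleton_iff.2 ?_, hq⟩
      have : q * h₀ * p * (q * h₀)⁻¹ = p := by
        calc q * h₀ * p * (q * h₀)⁻¹ = q * ((h₀ : H ⧸ E) * p * (h₀ : H ⧸ E)⁻¹) * q⁻¹ := by group
          _ = q * p⁻¹ * q⁻¹ := by rw [hinv _ hout]
          _ = (q * p * q⁻¹)⁻¹ := by group
          _ = p := by rw [hinv q hq, inv_inv]
      exact mul_inv_eq_iff_eq_mul.1 this
  have hkL : φ.ker ≤ L := by rw [hφk]; exact Subgroup.zpowers_le.2 hpL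
  have hmap2 : (L.map φ).index = 2 := by rw [Subgroup.index_map_eq _ hφs hkL, hidx]
  haveI : (L.map φ).Normal := Subgroup.normal_of_index_eq_two hmap2
  have hinn : L.map φ = Inn ↥Spor.M22 := by
    have hle : Inn ↥Spor.M22 ≤ L.map φ := by
      haveI := CfsgLib.Sporadic.sporM22_isSimple
      rcases IsSimpleGroup.eq_bot_or_eq_top_of_normal
        ((L.map φ).comap (MulAut.conj : ↥Spor.M22 →* MulAut ↥Spor.M22))
        (Subgroup.Normal.comap inferInstance _) with e | e
      · exfalso
        have h1 := congrArg Subgroup.index e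
        rw [Subgroup.index_comap, Subgroup.index_bot, CfsgLib.Sporadic.card_sporM22] at h1
        have h2 := Subgroup.relIndex_dvd_index_of_normal (L.map φ)
          (MulAut.conj : ↥Spor.M22 →* MulAut ↥Spor.M22).range
        rw [hmap2, h1] at h2
        norm_num at h2
      · rintro _ ⟨m, rfl⟩
        exact Subgroup.mem_comap.1 (e ▸ Subgroup.mem_top m)
    refine (Subgroup.eq_of_le_of_card_ge hle ?_).symm
    have a := (L.map φ).card_mul_index
    have b := (Inn ↥Spor.M22).card_mul_index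
    rw [hmap2] at a
    rw [card_aut.2] at b
    omega
  have hcinj : Function.Injective (MulAut.conj : ↥Spor.M22 →* MulAut ↥Spor.M22) := by
    have b := (Inn ↥Spor.M22).card_mul_index
    rw [card_aut.2, card_aut.1] at b
    rw [← MonoidHom.ker_eq_bot_iff, ← Subgroup.card_eq_one]
    have h := Subgroup.card_eq_card_quotient_mul_card_subgroup
      (MulAut.conj : ↥Spor.M22 →* MulAut ↥Spor.M22).ker
    rw [Nat.card_congr (QuotientGroup.quotientKerEquivRange _).toEquiv,
      CfsgLib.Sporadic.card_sporM22] at h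
    have hI : Nat.card (Inn ↥Spor.M22) = 443520 := by omega
    rw [show Nat.card (MulAut.conj : ↥Spor.M22 →* MulAut ↥Spor.M22).range = 443520 from hI] at h
    omega
  let e1 := MonoidHom.ofInjective hcinj
  have hmemI : ∀ l : ↥L, φ (l : H ⧸ E) ∈ Inn ↥Spor.M22 := fun l => hinn ▸ ⟨l, l.2, rfl⟩
  let f : ↥L →* ↥(Inn ↥Spor.M22) := (φ.comp L.subtype).codRestrict _ hmemI
  refine ⟨e1.symm.toMonoidHom.comp f, ?_, hcardΓ⟩
  refine ⟨s.card_W, ?_, ?_, hp3, hp1, ?_, hinv, ?_, ?_, ?_⟩
  · intro w
    obtain ⟨x, rfl⟩ := exists_of w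
    rw [← map_mul, s.of_eq_one, ← s.mem_center_iff, ← pow_two]
    exact CfsgLib.PGroups.IsExtraspecial.pow_mem_center s.hE x
  · rw [← MonoidHom.ker_eq_bot_iff]
    refine (Subgroup.eq_bot_iff_forall _).2 fun q hq => ?_
    obtain ⟨h, rfl⟩ := QuotientGroup.mk_surjective q
    refine (QuotientGroup.eq_one_iff h).2 ?_
    rw [← s.ker_conjW]
    exact MonoidHom.mem_ker.2 hq
  · intro w hw
    obtain ⟨x, rfl⟩ := exists_of w
    rw [hpdef, actQ_mk, conjW_of, ← mul_inv_eq_one, ← map_inv, ← map_mul, s.of_eq_one] at hw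
    rw [Subgroup.coe_mul, Subgroup.coe_inv, MulAut.conjNormal_apply] at hw
    refine (s.of_eq_one x).2 ((s.fix x x.2).1 ?_)
    rcases s.mem_zpowers_z hw with e | e
    · exact (mul_inv_eq_iff_eq_mul.1 (mul_inv_eq_one.1 e)).symm
    · exfalso
      have e' : g * (x : H) * g⁻¹ = z * x := mul_inv_eq_iff_eq_mul.1 e
      refine s.z_ne_one ?_
      have hg3 : g * g * g = 1 := by rw [← pow_two, ← pow_succ, s.g_cube]
      have cz : ∀ w : H, g * (z * w) * g⁻¹ = z * (g * w * g⁻¹) := fun w => by
        rw [← mul_assoc g z, s.central g]; group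
      have h3 : (x : H) = z * (z * (z * x)) := by
        calc (x : H) = g * g * g * x * (g * g * g)⁻¹ := by rw [hg3]; group
          _ = g * (g * (g * x * g⁻¹) * g⁻¹) * g⁻¹ := by group
          _ = _ := by rw [e', cz, e', cz, cz, e']
      rw [← mul_assoc z z, s.z_sq, one_mul, eq_comm, mul_eq_right] at h3
      exact h3
  · refine (e1.symm.surjective).comp fun a => ?_
    have ha : (a : MulAut ↥Spor.M22) ∈ L.map φ := hinn.symm ▸ a.2
    obtain ⟨l, hl, e⟩ := ha
    exact ⟨⟨l, hl⟩, Subtype.ext e⟩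
  · intro l
    show e1.symm (f l) = 1 ↔ _
    rw [map_eq_one_iff _ e1.symm.injective, ← hφk, MonoidHom.mem_ker]
    exact ⟨fun e => congrArg Subtype.val e, fun e => Subtype.ext e⟩
  · have hCL : (Subgroup.centralizer ({g} : Set H)).map (QuotientGroup.mk' E) ≤ L := by
      rintro _ ⟨c, hc, rfl⟩
      refine Subgroup.mem_centralizer_singleton_iff.2 ?_
      show (c : H ⧸ E) * (g : H ⧸ E) = (g : H ⧸ E) * c
      rw [← QuotientGroup.mk_mul, Subgroup.mem_centralizer_singleton_iff.1 hc, QuotientGroup.mk_mul]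
    have h1 : p ∈ ⁅L, L⁆ := by
      refine Subgroup.commutator_mono hCL hCL ?_
      rw [← Subgroup.map_commutator]
      exact ⟨g, s.perfect, rfl⟩
    rw [← Subgroup.map_subtype_commutator] at h1
    obtain ⟨c, hc, e⟩ := h1
    have : c = ⟨p, hpL⟩ := Subtype.ext e
    exact this ▸ hc

end Setting

end CfsgLib.JankoFourTwo
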