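import Cfsg.Agent.Lib.JankoFour.Main

/-!
# One class of elements of order three (owner: helper17)

With `N_G(P) ≤ C(z)` a Sylow 3-subgroup of `C(z)` is one of `G`, so every element of order three is
conjugate into `C(z)`, where it is conjugate to `p` or to `a`; these are conjugate in `G`.
-/

set_option autoImplicit false

namespace CfsgLib.JankoFour

open Cfsg CfsgLib.ThreeTrans
open CfsgLib.JankoFour.M22 (Grp)

variable {G : Type*} [Group G] [Finite G]

/-- A group of order dividing nine is commutative. -/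
theorem commute_of_card_dvd_nine {M : Type*} [Group M] (K : Subgroup M) [Finite K] (h : Nat.card K ∣ 9)
    {x y : M} (hx : x ∈ K) (hy : y ∈ K) : Commute x y := by
  haveI : Fact (Nat.Prime 3) := ⟨Nat.prime_three⟩
  obtain ⟨i, hi, hc⟩ := (Nat.dvd_prime_pow Nat.prime_three).1 (show Nat.card K ∣ 3 ^ 2 by exact h)
  have key : IsMulCommutative K := by
    interval_cases i
    · haveI : Subsingleton K := (Nat.card_eq_one_iff_unique.1 (by rw [hc, pow_zero])).1
      exact ⟨⟨fun a b => Subsingleton.elim _ _⟩⟩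
    · haveI := isCyclic_of_prime_card (p := 3) (by rw [hc, pow_one] : Nat.card K = 3)
      infer_instance
    · exact IsPGroup.isMulCommutative_of_card_eq_prime_sq hc
  exact congrArg Subtype.val (key.is_comm.comm (⟨x, hx⟩ : K) ⟨y, hy⟩)

namespace Frame

variable {S : Setting G} (F : Frame S)
include F

/-- A 3-subgroup of `C(z)` containing `p` centralises `P`. -/
theorem three_group_le_C {R : Subgroup G} (hR : IsPGroup 3 R) (hRz : ∀ x ∈ R, Commute x S.z)
    (hp : F.p ∈ R) : R ≤ S.C := by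
  intro x hx
  have h3 : ∀ y ∈ R, y ^ 3 = 1 := by
    intro y hy
    obtain ⟨n, hn⟩ := hR ⟨y, hy⟩
    exact F.three_exp (hRz y hy) (n := n) (congrArg Subtype.val hn)
  set q := x * F.p * x⁻¹ with hq
  have hqR : q ∈ R := mul_mem (mul_mem hx hp) (inv_mem hx)
  have hqEP : q ∈ S.E ⊔ S.P := S.hEPn x (hRz x hx) F.p (Subgroup.mem_sup_right F.hpP)
  obtain ⟨r, hr, e, he, hre⟩ := S.mem_EP.1 hqEP
  obtain ⟨i, rfl⟩ := F.P_eq hr
  have heR : e ∈ R := by
    have := mul_mem (inv_mem (pow_mem hp i)) hqR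
    rwa [hre, inv_mul_cancel_left] at this
  have he1 : e = 1 := by
    have h1 := h3 e heR
    have h2 : orderOf (⟨e, he⟩ : S.E) ∣ 2 ^ 13 := S.hcard ▸ orderOf_dvd_natCard _
    rw [← Subgroup.orderOf_coe] at h2
    exact orderOf_eq_one_iff.1 (Nat.eq_one_of_dvd_coprimes (by norm_num) (orderOf_dvd_of_pow_eq_one h1) h2)
  rw [he1, mul_one] at hre
  have hqc : Commute x F.p := by
    have hi : i % 3 = 0 ∨ i % 3 = 1 ∨ i % 3 = 2 := by omega
    rw [pow_eq_pow_mod i F.p_pow] at hre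
    rcases hi with r | r | r <;> rw [r] at hre
    · exact absurd (conj_eq_one_iff.1 (hre.trans (pow_zero _))) F.p_ne
    · exact mul_inv_eq_iff_eq_mul.1 (hre.trans (pow_one _))
    · exfalso
      have hp2 : F.p ^ 4 = F.p := by rw [pow_succ, F.p_pow, one_mul]
      have e1 : x * (x * F.p * x⁻¹) * x⁻¹ = F.p := by
        rw [← hq, hre, ← conj_pow, ← hq, hre, ← pow_mul, show 2 * 2 = 4 from rfl, hp2]
      have e3 : (x * x) * F.p * (x * x)⁻¹ = F.p :=
        (show (x * x) * F.p * (x * x)⁻¹ = x * (x * F.p * x⁻¹) * x⁻¹ by group).trans e1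
      have hc2 : Commute (x * x) F.p := mul_inv_eq_iff_eq_mul.1 e3
      have hx4 : Commute x F.p := by
        have := hc2.pow_left 2
        rwa [pow_two, show x * x * (x * x) = x ^ 3 * x by rw [pow_succ, pow_two]; group, h3 x hx, one_mul] at this
      rw [hx4.eq, mul_inv_cancel_right] at hq
      rw [hq, pow_two, left_eq_mul] at hre
      exact F.p_ne hre
  exact S.mem_C.2 ⟨hRz x hx, fun r hr => F.comm_P hqc hr⟩

/-- Every 3-element of `G` is conjugate into `C(z)`. -/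
theorem exists_conj_into_H [IsSimpleGroup G] (hG : ¬ IsMulCommutative G) {x : G} {n : ℕ}
    (hx : x ^ 3 ^ n = 1) : ∃ g : G, Commute (g * x * g⁻¹) S.z := by
  classical
  haveI : Fact (Nat.Prime 3) := ⟨Nat.prime_three⟩
  -- `A = ⟨a, b⟩` is a 3-group
  set A : Subgroup G := F.A ⊔ Subgroup.zpowers F.b with hA
  have hAC : A ≤ S.C := sup_le F.A_le_C (Subgroup.zpowers_le.2 F.hbC)
  have hbA : ∀ y ∈ F.A, F.b * y * F.b⁻¹ ∈ F.A := by
    intro y hy
    obtain ⟨i, j, rfl⟩ := F.mem_A.1 hy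
    refine F.mem_A.2 ⟨i, i + j, ?_⟩
    rw [show F.b * (F.a ^ i * F.p ^ j) * F.b⁻¹ = (F.b * F.a ^ i * F.b⁻¹) * (F.b * F.p ^ j * F.b⁻¹) by group,
      ← conj_pow, F.hba, ((F.commute_p F.hbC).pow_right j).eq, mul_inv_cancel_right,
      (F.commute_p F.haC).mul_pow, mul_assoc, ← pow_add]
  have hbn : Subgroup.zpowers F.b ≤ Subgroup.normalizer (F.A : Set G) := Subgroup.zpowers_le.2 (by
    rw [CfsgLib.Core.mem_normalizer_iff_conj_smul_eq, CfsgLib.Core.conj_smul_eq_map]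
    refine Subgroup.eq_of_le_of_card_ge ?_
      (by rw [Subgroup.card_map_of_injective (MulAut.conj F.b).injective])
    rintro _ ⟨q, hq, rfl⟩
    exact hbA q hq)
  have hA3 : IsPGroup 3 A := by
    refine IsPGroup.to_sup_of_normal_left' (fun g => ⟨1, Subtype.ext (by simpa using F.A_exp g.2)⟩) ?_ hbn
    intro g
    refine ⟨1, Subtype.ext ?_⟩
    obtain ⟨k, hk⟩ := g.2
    show (g : G) ^ 3 ^ 1 = 1
    rw [← hk, pow_one, ← zpow_natCast, ← zpow_mul, mul_comm, zpow_mul, zpow_natCast, F.hb, one_zpow]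
  obtain ⟨R₁, hR₁⟩ := (hA3.comap_of_injective S.H.subtype S.H.subtype_injective).exists_le_sylow
  set R : Subgroup G := (R₁ : Subgroup S.H).map S.H.subtype with hRdef
  have hR3 : IsPGroup 3 R := R₁.2.map _
  have hRz : ∀ y ∈ R, Commute y S.z := fun y hy => S.mem_H.1 (Subgroup.map_subtype_le _ hy)
  have hAR : ∀ y ∈ A, y ∈ R := fun y hy =>
    ⟨⟨y, (hAC hy).1⟩, hR₁ (show y ∈ A from hy), rfl⟩
  have haR : F.a ∈ R := hAR _ (Subgroup.mem_sup_left (F.mem_A.2 ⟨1, 0, by simp⟩))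
  have hbR : F.b ∈ R := hAR _ (Subgroup.mem_sup_right (Subgroup.mem_zpowers _))
  have hpR : F.p ∈ R := by
    have := mul_mem (inv_mem haR) (mul_mem (mul_mem hbR haR) (inv_mem hbR))
    rwa [F.hba, inv_mul_cancel_left] at this
  have hRC : R ≤ S.C := F.three_group_le_C hR3 hRz hpR
  -- the derived subgroup of `R` is `P`
  have hcomm : ∀ y ∈ R, ∀ w ∈ R, y * w * y⁻¹ * w⁻¹ ∈ S.P := by
    intro y hy w hw
    let ψ : ↥R →* Grp := (S.toGrp).comp (Subgroup.inclusion hRC)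
    have hψ : IsPGroup 3 ψ.range := hR3.of_surjective ψ.rangeRestrict ψ.rangeRestrict_surjective
    have hc9 : Nat.card ψ.range ∣ 9 := by
      obtain ⟨k, hk⟩ := IsPGroup.iff_card.1 hψ
      have hd : Nat.card ψ.range ∣ 443520 := by
        rw [← CfsgLib.Sporadic.card_sporM22]; exact Subgroup.card_subgroup_dvd_card _
      rw [hk] at hd ⊢
      have : k ≤ 2 := by
        by_contra hk'
        exact absurd ((pow_dvd_pow 3 (show 3 ≤ k by omega)).trans hd) (by norm_num)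
      exact (pow_dvd_pow 3 this).trans (by norm_num)
    have hk : Commute (S.f y) (S.f w) :=
      commute_of_card_dvd_nine ψ.range hc9 ⟨⟨y, hy⟩, rfl⟩ ⟨⟨w, hw⟩, rfl⟩
    have hmem : y * w * y⁻¹ * w⁻¹ ∈ R := mul_mem (mul_mem (mul_mem hy hw) (inv_mem hy)) (inv_mem hw)
    obtain ⟨m, hm⟩ := hR3 ⟨_, hmem⟩
    refine S.ker_three (hRC hmem) ?_ (n := m) (congrArg Subtype.val hm)
    rw [S.f_mul_C (mul_mem (mul_mem (hRC hy) (hRC hw)) (inv_mem (hRC hy))) (inv_mem (hRC hw)),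
      S.f_conj_C (hRC hy) (hRC hw), S.f_inv_C (hRC hw), hk.eq, mul_inv_cancel_right, mul_inv_cancel]
  -- a Sylow 3-subgroup of `G` containing `R` equals it
  obtain ⟨Q, hQ⟩ := hR3.exists_le_sylow
  have hRQ : R = (Q : Subgroup G) := by
    by_contra hne
    haveI : Group.IsNilpotent (Q : Subgroup G) := Q.2.isNilpotent
    have hlt : R.subgroupOf (Q : Subgroup G) < ⊤ :=
      lt_top_iff_ne_top.2 fun h => hne (le_antisymm hQ (Subgroup.subgroupOf_eq_top.1 h))
    obtain ⟨u, hu, hu'⟩ := SetLike.exists_of_lt (normalizerCondition_of_isNilpotent _ hlt)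
    have hn : ∀ y ∈ R, (u : G) * y * (u : G)⁻¹ ∈ R := fun y hy =>
      (Subgroup.mem_normalizer_iff.1 hu ⟨y, hQ hy⟩).1 hy
    have hup : (u : G) * F.p * (u : G)⁻¹ ∈ S.P := by
      have e : F.b * F.a * F.b⁻¹ * F.a⁻¹ = F.p := by
        rw [F.hba, (F.commute_p F.haC).eq, mul_inv_cancel_right]
      have := hcomm _ (hn _ hbR) _ (hn _ haR)
      rwa [show (u : G) * F.b * (u : G)⁻¹ * ((u : G) * F.a * (u : G)⁻¹) * ((u : G) * F.b * (u : G)⁻¹)⁻¹ *
        ((u : G) * F.a * (u : G)⁻¹)⁻¹ = (u : G) * (F.b * F.a * F.b⁻¹ * F.a⁻¹) * (u : G)⁻¹ by group, e] at this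
    have hun : (u : G) ∈ Subgroup.normalizer (S.P : Set G) := by
      rw [CfsgLib.Core.mem_normalizer_iff_conj_smul_eq, CfsgLib.Core.conj_smul_eq_map]
      refine Subgroup.eq_of_le_of_card_ge ?_
        (by rw [Subgroup.card_map_of_injective (MulAut.conj (u : G)).injective])
      rintro _ ⟨q, hq, rfl⟩
      obtain ⟨i, rfl⟩ := F.P_eq hq
      show (u : G) * F.p ^ i * (u : G)⁻¹ ∈ S.P
      rw [← conj_pow]; exact pow_mem hup i
    have huH : (u : G) ∈ S.H := F.normalizer_le hG hun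
    have hbig : IsPGroup 3 ((Q : Subgroup G).comap S.H.subtype) :=
      Q.2.comap_of_injective S.H.subtype S.H.subtype_injective
    have heq : (Q : Subgroup G).comap S.H.subtype = R₁ :=
      R₁.3 hbig fun y hy => hQ ⟨y, hy, rfl⟩
    refine hu' (Subgroup.mem_subgroupOf.2 ⟨⟨u, huH⟩, ?_, rfl⟩)
    rw [← heq]; exact u.2
  have hxp : IsPGroup 3 (Subgroup.zpowers x) := by
    intro y
    obtain ⟨k, hk⟩ := y.2
    exact ⟨n, Subtype.ext (by
      show (y : G) ^ 3 ^ n = 1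
      rw [← hk, ← zpow_natCast, ← zpow_mul, mul_comm, zpow_mul, zpow_natCast, hx, one_zpow])⟩
  obtain ⟨Q', hQ'⟩ := hxp.exists_le_sylow
  obtain ⟨g, hg⟩ := MulAction.exists_smul_eq G Q' Q
  refine ⟨g, hRz _ ?_⟩
  rw [hRQ, ← hg]
  exact Subgroup.smul_mem_pointwise_smul x (MulAut.conj g) (Q' : Subgroup G) (hQ' (Subgroup.mem_zpowers x))

/-- All elements of order three are conjugate to `a`. -/
theorem isConj_a [IsSimpleGroup G] (hG : ¬ IsMulCommutative G) {x : G} (hx : orderOf x = 3) :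
    IsConj x F.a := by
  have hx3 : x ^ 3 = 1 := hx ▸ pow_orderOf_eq_one x
  have hx1 : x ≠ 1 := fun r => by rw [r, orderOf_one] at hx; norm_num at hx
  obtain ⟨g, hg⟩ := F.exists_conj_into_H hG (n := 1) (by rw [pow_one]; exact hx3)
  set y := g * x * g⁻¹ with hy
  have hy3 : y ^ 3 = 1 := by rw [hy, conj_pow, hx3]; simp
  have hy1 : y ≠ 1 := fun r => hx1 (conj_eq_one_iff.1 r)
  refine (isConj_iff.2 ⟨g, rfl⟩ : IsConj x y).trans ?_
  by_cases hEP : y ∈ S.E ⊔ S.P
  · obtain ⟨e, he, hep⟩ := S.three_conj hEP hy3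
    refine (isConj_iff.2 ⟨e, rfl⟩ : IsConj y (e * y * e⁻¹)).trans ?_
    obtain ⟨h, hh⟩ := F.exists_conj_p hG
    have hpa : IsConj F.p F.a := isConj_iff.2 ⟨h, hh⟩
    obtain ⟨n, hn, hn0⟩ := S.exists_outer
    have hpp : IsConj (F.p⁻¹) F.p := isConj_iff.2 ⟨n, by
      rw [S.outer_inverts hn hn0 (inv_mem F.hpP), inv_inv]⟩
    obtain ⟨i, hi⟩ := F.P_eq hep
    have hi' : i % 3 = 0 ∨ i % 3 = 1 ∨ i % 3 = 2 := by omega
    rw [pow_eq_pow_mod i F.p_pow] at hi
    rcases hi' with r | r | r <;> rw [r] at hi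
    · exact absurd (conj_eq_one_iff.1 (hi.trans (pow_zero _))) hy1
    · rw [hi, pow_one]; exact hpa
    · rw [hi, show F.p ^ 2 = F.p⁻¹ from eq_inv_of_mul_eq_one_left (by rw [← pow_succ, F.p_pow])]
      exact hpp.trans hpa
  · obtain ⟨h, -, e⟩ := F.three_classify_H hg hy3 hEP
    exact isConj_iff.2 ⟨h, e⟩

end Frame

/-- **One class of elements of order three.** -/
theorem janko_four_one_class_three [IsSimpleGroup G] (hG : ¬ IsMulCommutative G)
    (hJ : IsOfJankoFourType G) : ∀ x y : G, orderOf x = 3 → orderOf y = 3 → IsConj x y := by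
  obtain ⟨z, P, h⟩ := hJ
  obtain ⟨S, -, -⟩ := exists_setting h
  obtain ⟨F⟩ := exists_frame S
  exact fun x y hx hy => (F.isConj_a hG hx).trans (F.isConj_a hG hy).symm

end CfsgLib.JankoFour
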