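import Cfsg.Agent.Lib.JankoFourTwo.Main
import Cfsg.Agent.Lib.ThreeTrans.LargeExtra
import Cfsg.Agent.Lib.Core.Cores

/-!
# Uniqueness, and the passage to the whole group
-/

set_option autoImplicit false

namespace CfsgLib.JankoFourTwo

open Cfsg

variable {H : Type*} [Group H] [Finite H] {z g : H} {E N : Subgroup H} [E.Normal] [N.Normal]

namespace Setting

variable (s : Setting H z g E N)
include s

theorem elementary_in_E {D : Subgroup H} (hD : D ≤ E) (hc : ∀ a ∈ D, ∀ b ∈ D, a * b = b * a)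
    (hz : z ∈ D) : Nat.card D ≤ 128 := by
  haveI : Fact (Nat.Prime 2) := ⟨Nat.prime_two⟩
  have hcen : Subgroup.center E ≤ D.subgroupOf E := fun c hc' =>
    Subgroup.zpowers_le.2 hz ((s.mem_center_iff c).1 hc')
  have e := CfsgLib.PGroups.IsExtraspecial.card_centralizer_mul_card s.hE hcen
  have hle : D.subgroupOf E ≤ Subgroup.centralizer ((D.subgroupOf E : Subgroup E) : Set E) := fun a ha =>
    Subgroup.mem_centralizer_iff.2 fun b hb => Subtype.ext (hc b hb a ha)
  have h1 := Nat.mul_le_mul_right (Nat.card (D.subgroupOf E)) (Subgroup.card_le_of_le hle)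
  rw [e, s.card_E, Nat.card_congr (Subgroup.subgroupOfEquivOfLe hD).toEquiv] at h1
  by_contra hlt
  have := Nat.mul_le_mul (not_le.1 hlt) (not_le.1 hlt)
  simp only [Nat.succ_eq_add_one] at this
  norm_num at h1 this
  omega

theorem exists_unique_sylow : ∃ T : Sylow 2 H, E ≤ T ∧
    ∃! V : Subgroup H, V ≤ (T : Subgroup H) ∧ IsElementaryAbelian 2 V ∧ Nat.card V = 2 ^ 11 := by
  classical
  haveI : Fact (Nat.Prime 2) := ⟨Nat.prime_two⟩
  obtain ⟨ψ, h, hΓ⟩ := s.exists_acting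
  obtain ⟨S, A, R, hx⟩ := exists_hexad
  have hsurjH : Function.Surjective (QuotientGroup.mk' E) := QuotientGroup.mk'_surjective E
  have hE2 : IsPGroup 2 E := IsPGroup.of_card (n := 13) s.card_E
  -- the Sylow 2-subgroup of M22
  let S' : Sylow 2 ↥Spor.M22 := Sylow.ofCard S (by
    rw [hx.card_S, CfsgLib.Sporadic.card_sporM22]
    rw [show (443520 : ℕ) = 2 ^ 7 * 3465 by norm_num, Nat.factorization_mul (by norm_num) (by norm_num),
      Nat.Prime.factorization_pow Nat.prime_two, Finsupp.add_apply,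
      Nat.factorization_eq_zero_of_not_dvd (show ¬ 2 ∣ 3465 by norm_num), Finsupp.single_eq_same,
      add_zero]
    norm_num)
  have T₁ : Sylow 2 H := Classical.arbitrary _
  -- the image in the quotient, and in M22
  set T₁q := T₁.mapSurjective hsurjH with hT₁q
  have hTq : Nat.card (T₁q : Subgroup (H ⧸ E)) = 256 := by
    rw [T₁q.card_eq_multiplicity, hΓ, show (2661120 : ℕ) = 2 ^ 8 * 10395 by norm_num,
      Nat.factorization_mul (by norm_num) (by norm_num), Nat.Prime.factorization_pow Nat.prime_two,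
      Finsupp.add_apply, Nat.factorization_eq_zero_of_not_dvd (show ¬ 2 ∣ 10395 by norm_num),
      Finsupp.single_eq_same, add_zero]
    norm_num
  let Q : Subgroup ↥Spor.M22 :=
    ((T₁q : Subgroup (H ⧸ E)).subgroupOf (Subgroup.centralizer ({(g : H ⧸ E)} : Set (H ⧸ E)))).map ψ
  have hQp : IsPGroup 2 Q :=
    IsPGroup.map (T₁q.isPGroup'.comap_of_injective _ (Subgroup.subtype_injective _)) ψ
  obtain ⟨SQ, hSQ⟩ := hQp.exists_le_sylow
  obtain ⟨m, hm⟩ := MulAction.exists_smul_eq ↥Spor.M22 SQ S'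
  obtain ⟨⟨lq, hlq⟩, rfl⟩ := h.surj m
  obtain ⟨a, rfl⟩ := QuotientGroup.mk_surjective lq
  let T : Sylow 2 H := a • T₁
  have hET : E ≤ (T : Subgroup H) := by
    obtain ⟨P, hP⟩ := hE2.exists_le_sylow
    obtain ⟨b, hb⟩ := MulAction.exists_smul_eq H P T
    intro e he
    rw [← hb, Sylow.coe_subgroup_smul]
    exact ⟨b⁻¹ * e * b, hP (by simpa using Subgroup.Normal.conj_mem inferInstance e he b⁻¹),
      by show b * (b⁻¹ * e * b) * b⁻¹ = e; group⟩
  -- membership in `T` modulo `E`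
  have hTmem : ∀ t : H, t ∈ (T : Subgroup H) ↔
      ((a⁻¹ * t * a : H) : H ⧸ E) ∈ (T₁q : Subgroup (H ⧸ E)) := by
    intro t
    constructor
    · rw [show (T : Subgroup H) = (T₁ : Subgroup H).map (MulAut.conj a).toMonoidHom from rfl]
      rintro ⟨u, hu, rfl⟩
      exact ⟨u, hu, by show (u : H ⧸ E) = ((a⁻¹ * (a * u * a⁻¹) * a : H) : H ⧸ E); congr 1; group⟩
    · rintro ⟨u, hu, e⟩
      have h1 : u⁻¹ * (a⁻¹ * t * a) ∈ E := QuotientGroup.eq.1 e
      have hau : a * u * a⁻¹ ∈ (T : Subgroup H) := ⟨u, hu, rfl⟩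
      have hae : a * (u⁻¹ * (a⁻¹ * t * a)) * a⁻¹ ∈ (T : Subgroup H) :=
        hET (Subgroup.Normal.conj_mem inferInstance _ h1 a)
      have := mul_mem hau hae
      rw [show a * u * a⁻¹ * (a * (u⁻¹ * (a⁻¹ * t * a)) * a⁻¹) = t by group] at this
      exact this
  -- linear elements of `T` land in `S`
  have hconjL : ∀ q : H ⧸ E, q ∈ (Subgroup.centralizer ({(g : H ⧸ E)} : Set (H ⧸ E))) → (a : H ⧸ E)⁻¹ * q * a ∈ (Subgroup.centralizer ({(g : H ⧸ E)} : Set (H ⧸ E))) := fun q hq =>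
    mul_mem (mul_mem (inv_mem hlq) hq) hlq
  have hTS : ∀ t ∈ (T : Subgroup H), ∀ (ht : (t : H ⧸ E) ∈ (Subgroup.centralizer ({(g : H ⧸ E)} : Set (H ⧸ E)))), ψ ⟨(t : H ⧸ E), ht⟩ ∈ S := by
    intro t ht htL
    have h1 : ψ ⟨_, hconjL _ htL⟩ ∈ Q := ⟨⟨_, hconjL _ htL⟩, by
      show (a : H ⧸ E)⁻¹ * t * a ∈ (T₁q : Subgroup (H ⧸ E))
      have := (hTmem t).1 ht
      rwa [QuotientGroup.mk_mul, QuotientGroup.mk_mul, QuotientGroup.mk_inv] at this, rfl⟩
    have h2 : ψ ⟨_, hlq⟩ * ψ ⟨_, hconjL _ htL⟩ * (ψ ⟨_, hlq⟩)⁻¹ ∈ (S' : Subgroup ↥Spor.M22) := by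
      rw [← hm, Sylow.coe_subgroup_smul]
      exact ⟨_, hSQ h1, rfl⟩
    rw [← map_inv, ← map_mul, ← map_mul] at h2
    have e : (⟨(a : H ⧸ E), hlq⟩ * ⟨_, hconjL _ htL⟩ * ⟨(a : H ⧸ E), hlq⟩⁻¹ :
        ↥(Subgroup.centralizer ({(g : H ⧸ E)} : Set (H ⧸ E)))) = ⟨(t : H ⧸ E), htL⟩ := Subtype.ext (by
      show (a : H ⧸ E) * ((a : H ⧸ E)⁻¹ * t * a) * (a : H ⧸ E)⁻¹ = t
      group)
    rw [e] at h2
    exact h2
  -- and cover it
  let TL : Subgroup (H ⧸ E) := (T : Subgroup H).map (QuotientGroup.mk' E) ⊓ (Subgroup.centralizer ({(g : H ⧸ E)} : Set (H ⧸ E)))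
  have hTLp : IsPGroup 2 TL := (IsPGroup.map T.2 _).to_le inf_le_left
  have hTq2 : Nat.card ((T : Subgroup H).map (QuotientGroup.mk' E)) = 256 := by
    rw [← hTq]
    exact Nat.card_congr (Sylow.equiv (T.mapSurjective hsurjH) T₁q).toEquiv
  have hinvL : ∀ q ∈ (T : Subgroup H).map (QuotientGroup.mk' E), ∀ r ∈ (T : Subgroup H).map (QuotientGroup.mk' E),
      q ∉ (Subgroup.centralizer ({(g : H ⧸ E)} : Set (H ⧸ E))) → r ∉ (Subgroup.centralizer ({(g : H ⧸ E)} : Set (H ⧸ E))) → q * r ∈ (Subgroup.centralizer ({(g : H ⧸ E)} : Set (H ⧸ E))) := fun q _ r _ hq hr => by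
    refine Subgroup.mem_centralizer_singleton_iff.2 ?_
    have : q * r * (g : H ⧸ E) * (q * r)⁻¹ = (g : H ⧸ E) := by
      calc q * r * (g : H ⧸ E) * (q * r)⁻¹ = q * (r * (g : H ⧸ E) * r⁻¹) * q⁻¹ := by group
        _ = q * (g : H ⧸ E)⁻¹ * q⁻¹ := by rw [h.inverts r hr]
        _ = (q * (g : H ⧸ E) * q⁻¹)⁻¹ := by group
        _ = (g : H ⧸ E) := by rw [h.inverts q hq, inv_inv]
    exact mul_inv_eq_iff_eq_mul.1 this
  have hTL : 128 ≤ Nat.card TL := by
    set X := (T : Subgroup H).map (QuotientGroup.mk' E)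
    have hidx : (TL.subgroupOf X).index ≤ 2 := by
      by_cases hX : X ≤ (Subgroup.centralizer ({(g : H ⧸ E)} : Set (H ⧸ E)))
      · have : TL.subgroupOf X = ⊤ := Subgroup.subgroupOf_eq_top.2 (le_inf le_rfl hX)
        rw [this, Subgroup.index_top]; norm_num
      · obtain ⟨σ, hσ, hσL⟩ := SetLike.not_le_iff_exists.1 hX
        refine (Subgroup.index_eq_two_iff.2 ⟨⟨σ, hσ⟩, fun b => ?_⟩).le
        by_cases hb : (b : H ⧸ E) ∈ (Subgroup.centralizer ({(g : H ⧸ E)} : Set (H ⧸ E)))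
        · exact Or.inr ⟨Subgroup.mem_subgroupOf.2 ⟨b.2, hb⟩, fun hc =>
            hσL (((Subgroup.centralizer ({(g : H ⧸ E)} : Set (H ⧸ E))).mul_mem_cancel_left hb).1 (Subgroup.mem_subgroupOf.1 hc).2)⟩
        · exact Or.inl ⟨Subgroup.mem_subgroupOf.2 ⟨mul_mem b.2 hσ, hinvL _ b.2 _ hσ hb hσL⟩,
            fun hc => hb (Subgroup.mem_subgroupOf.1 hc).2⟩
    have h1 := (TL.subgroupOf X).card_mul_index
    have e1 : Nat.card ↥(TL.subgroupOf X) = Nat.card ↥TL :=
      Nat.card_congr (Subgroup.subgroupOfEquivOfLe (inf_le_left : TL ≤ X)).toEquiv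
    have e2 : Nat.card ↥X = 256 := hTq2
    rw [e1, e2] at h1
    have := Nat.mul_le_mul_left (Nat.card TL) hidx
    omega
  let f : TL →* S := (ψ.comp (Subgroup.inclusion (inf_le_right : TL ≤ (Subgroup.centralizer ({(g : H ⧸ E)} : Set (H ⧸ E)))))).codRestrict S fun t => by
    obtain ⟨⟨u, hu, e⟩, htL⟩ := t.2
    have := hTS u hu (by rw [show (u : H ⧸ E) = t from e]; exact htL)
    show ψ ⟨(t : H ⧸ E), htL⟩ ∈ S
    convert this using 3
    exact e.symm
  have hfinj : Function.Injective f := by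
    rw [← MonoidHom.ker_eq_bot_iff, Subgroup.eq_bot_iff_forall]
    intro t ht
    have hk := (h.ker ⟨(t : H ⧸ E), t.2.2⟩).1 (congrArg Subtype.val (MonoidHom.mem_ker.1 ht))
    obtain ⟨k, hk2⟩ := hTLp t
    have h3 : (t : H ⧸ E) ^ 3 = 1 := by
      obtain ⟨j, hj⟩ := Subgroup.mem_zpowers_iff.1 hk
      rw [← hj, ← zpow_natCast, ← zpow_mul, mul_comm, zpow_mul, zpow_natCast, h.cube, one_zpow]
    have hd : orderOf t ∣ Nat.gcd (2 ^ k) 3 := Nat.dvd_gcd (orderOf_dvd_of_pow_eq_one hk2)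
      (orderOf_dvd_of_pow_eq_one (Subtype.ext h3))
    rw [Nat.Coprime.pow_left k (by norm_num : Nat.Coprime 2 3)] at hd
    exact orderOf_eq_one_iff.1 (Nat.dvd_one.1 hd)
  have hfsurj : Function.Surjective f :=
    (Function.Injective.bijective_of_nat_card_le hfinj (by rw [hx.card_S]; exact hTL)).2
  have hAT : ∀ q ∈ h.liftSub hx, q ∈ (T : Subgroup H).map (QuotientGroup.mk' E) := by
    rintro q ⟨hqL, hq2, hqA⟩
    obtain ⟨t, ht⟩ := hfsurj ⟨_, hx.le hqA⟩
    have ht2 : t * t = 1 := hfinj (by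
      rw [map_mul, ht, map_one]
      exact Subtype.ext (hx.sq _ hqA))
    have := h.lift_unique (l := ⟨(t : H ⧸ E), t.2.2⟩) (l' := ⟨q, hqL⟩)
      (Subtype.ext (congrArg (fun u : TL => (u : H ⧸ E)) ht2)) (Subtype.ext hq2) (congrArg Subtype.val ht)
    rw [show q = (t : H ⧸ E) from (congrArg Subtype.val this).symm]
    exact t.2.1
  refine ⟨T, hET, s.bigV h hx, ⟨?_, ⟨?_, fun x hx' => by
    rw [pow_two]; exact s.bigV_sq h hx hx'⟩, (s.card_bigV h hx).1.trans (by norm_num)⟩, ?_⟩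
  · intro v hv
    obtain ⟨t, ht, e⟩ := hAT _ hv.1
    have h1 : t⁻¹ * v ∈ E := QuotientGroup.eq.1 e
    simpa using mul_mem ht (hET h1)
  · exact ⟨⟨fun x y => Subtype.ext (by
      have e : (x : H) * y * ((x : H) * y) = 1 := s.bigV_sq h hx (mul_mem x.2 y.2)
      calc (x : H) * y = ((x : H) * y)⁻¹ := (inv_eq_of_mul_eq_one_left e).symm
        _ = y * x := by
          rw [mul_inv_rev, inv_eq_of_mul_eq_one_left (s.bigV_sq h hx x.2),
            inv_eq_of_mul_eq_one_left (s.bigV_sq h hx y.2)])⟩⟩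
  -- uniqueness
  rintro V ⟨hVT, ⟨hVc, hV2⟩, hVcard⟩
  have hcomm : ∀ x ∈ V, ∀ y ∈ V, x * y = y * x := fun x hx' y hy =>
    congrArg Subtype.val (hVc.1.1 (⟨x, hx'⟩ : V) ⟨y, hy⟩)
  set B := V.map (QuotientGroup.mk' E) with hB
  set D := (V ⊓ E) ⊔ Subgroup.zpowers z with hD
  have hDE : D ≤ E := sup_le inf_le_right (Subgroup.zpowers_le.2 s.z_mem)
  have hzD : z ∈ D := Subgroup.mem_sup_right (Subgroup.mem_zpowers z)
  have hDc : ∀ x ∈ D, ∀ y ∈ D, x * y = y * x := by
    have hDmem : ∀ x ∈ D, ∃ v ∈ V ⊓ E, x = v ∨ x = v * z := by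
      intro x hx'
      haveI : (Subgroup.zpowers z).Normal := ⟨fun w hw c => by
        rcases s.mem_zpowers_z hw with e | e <;> rw [e]
        · simp [one_mem]
        · rw [s.central c, mul_inv_cancel_right]; exact Subgroup.mem_zpowers z⟩
      rw [hD] at hx'
      obtain ⟨v, hv, w, hw, rfl⟩ := Subgroup.mem_sup_of_normal_right.1 hx'
      refine ⟨v, hv, ?_⟩
      rcases s.mem_zpowers_z hw with e | e <;> rw [e]
      · exact Or.inl (mul_one v)
      · exact Or.inr rfl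
    intro x hx' y hy
    obtain ⟨v, hv, ex⟩ := hDmem x hx'
    obtain ⟨w, hw, ey⟩ := hDmem y hy
    have hvw := hcomm v hv.1 w hw.1
    rcases ex with ex | ex <;> rcases ey with ey | ey <;> rw [ex, ey]
    · exact hvw
    · rw [mul_assoc w z, ← s.central v, ← mul_assoc, ← mul_assoc, hvw]
    · rw [mul_assoc v z, ← s.central w, ← mul_assoc, ← mul_assoc, hvw]
    · rw [mul_assoc v z, ← mul_assoc z w, ← s.central w, mul_assoc w z z, s.z_sq, mul_one,
        mul_assoc w z, ← mul_assoc z v, ← s.central v, mul_assoc v z z, s.z_sq, mul_one, hvw]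
  have hD128 := s.elementary_in_E hDE hDc hzD
  set X := (D.subgroupOf E).map (Abelianization.of (G := E)) with hX
  have hDX : Nat.card D = Nat.card X * 2 := by
    rw [← Nat.card_congr (Subgroup.subgroupOfEquivOfLe hDE).toEquiv]
    exact s.card_sub_image _ fun c hc => Subgroup.zpowers_le.2 hzD ((s.mem_center_iff c).1 hc)
  have hXfix : X ≤ fixG (actQ E) (B : Set (H ⧸ E)) := by
    rintro _ ⟨d, hd, rfl⟩ _ ⟨b, hb, rfl⟩
    show conjW E b (Abelianization.of d) = Abelianization.of d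
    rw [conjW_of]
    refine congrArg _ (Subtype.ext ?_)
    rw [MulAut.conjNormal_apply, mul_inv_eq_iff_eq_mul]
    have hle : D ≤ Subgroup.centralizer (V : Set H) := sup_le
      (fun v hv => Subgroup.mem_centralizer_iff.2 fun w hw => hcomm w hw v hv.1)
      (Subgroup.zpowers_le.2 (Subgroup.mem_centralizer_iff.2 fun w _ => s.central w))
    exact Subgroup.mem_centralizer_iff.1 (hle hd) b hb
  have hVB : Nat.card V = Nat.card B * Nat.card ↥(V ⊓ E) := by
    rw [Subgroup.card_eq_card_quotient_mul_card_subgroup ((QuotientGroup.mk' E).subgroupMap V).ker,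
      Nat.card_congr (QuotientGroup.quotientKerEquivOfSurjective _
        ((QuotientGroup.mk' E).subgroupMap_surjective V)).toEquiv]
    congr 1
    exact Nat.card_congr
      { toFun := fun k => ⟨((k : ↥V) : H), (k : ↥V).2,
          (QuotientGroup.eq_one_iff _).1 (congrArg Subtype.val k.2)⟩
        invFun := fun c => ⟨⟨c, c.2.1⟩, Subtype.ext ((QuotientGroup.eq_one_iff _).2 c.2.2)⟩
        left_inv := fun _ => rfl
        right_inv := fun _ => rfl }
  have hVE : Nat.card ↥(V ⊓ E) ≤ Nat.card D := Subgroup.card_le_of_le le_sup_left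
  have hbig : 1024 ≤ Nat.card B * Nat.card X := by
    have := Nat.mul_le_mul_left (Nat.card B) hVE
    rw [← hVB, hVcard, hDX, ← mul_assoc] at this
    norm_num at this
    omega
  obtain ⟨hBA, hXW⟩ := h.classify hx (fun U k e => hM s U k e) (B := B)
    (by
      rintro _ ⟨v, hv, rfl⟩
      rw [← map_mul, ← pow_two, hV2 v hv, map_one])
    (fun b hb hbB => by
      obtain ⟨v, hv, rfl⟩ := hbB
      exact hTS v (hVT hv) hb)
    hXfix (by omega) hbig
  have hDW : D ≤ s.fixE h hx := fun d hd => (s.mem_fixE h hx).2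
    ⟨hDE hd, hXW ▸ Subgroup.mem_map_of_mem (Abelianization.of (G := E))
      (show (⟨d, hDE hd⟩ : E) ∈ D.subgroupOf E from hd)⟩
  have hVW : s.fixE h hx ≤ V := by
    have hc1 : Nat.card ↥(V ⊓ E) = 128 := by
      rw [hVcard, hBA, h.card_liftSub hx] at hVB
      rw [show (2 : ℕ) ^ 11 = 16 * 128 by norm_num] at hVB
      exact (Nat.eq_of_mul_eq_mul_left (by norm_num) hVB).symm
    have e1 : V ⊓ E = s.fixE h hx := Subgroup.eq_of_le_of_card_ge
      (le_sup_left.trans hDW) (by rw [s.card_fixE h hx, hc1])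
    exact e1 ▸ inf_le_left
  refine Subgroup.eq_of_le_of_card_ge (fun v hv => ⟨?_, ?_⟩)
    (by rw [hVcard, (s.card_bigV h hx).1]; norm_num)
  · show (v : H ⧸ E) ∈ h.liftSub hx
    rw [← hBA]
    exact ⟨v, hv, rfl⟩
  · exact Subgroup.mem_centralizer_iff.2 fun w hw => hcomm w (hVW hw) v hv

end Setting

/-- The existence and uniqueness statement is the same for all Sylow 2-subgroups. -/
theorem existsUnique_of_sylow {G : Type*} [Group G] [Finite G] (T₀ : Sylow 2 G) (n : ℕ)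
    (h : ∃! V : Subgroup G, V ≤ (T₀ : Subgroup G) ∧ IsElementaryAbelian 2 V ∧ Nat.card V = n)
    (T : Sylow 2 G) :
    ∃! V : Subgroup G, V ≤ (T : Subgroup G) ∧ IsElementaryAbelian 2 V ∧ Nat.card V = n := by
  haveI : Fact (Nat.Prime 2) := ⟨Nat.prime_two⟩
  obtain ⟨c, rfl⟩ := MulAction.exists_smul_eq G T₀ T
  have key : ∀ (d : G) (P : Subgroup G) (V : Subgroup G),
      V ≤ P ∧ IsElementaryAbelian 2 V ∧ Nat.card V = n →
      V.map (MulAut.conj d).toMonoidHom ≤ P.map (MulAut.conj d).toMonoidHom ∧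
      IsElementaryAbelian 2 (V.map (MulAut.conj d).toMonoidHom) ∧
      Nat.card (V.map (MulAut.conj d).toMonoidHom) = n := by
    rintro d P V ⟨hVP, ⟨hVc, hV2⟩, hcard⟩
    refine ⟨Subgroup.map_mono hVP, ⟨⟨⟨?_⟩⟩, ?_⟩, ?_⟩
    · rintro ⟨_, x, hx, rfl⟩ ⟨_, y, hy, rfl⟩
      refine Subtype.ext ?_
      show (MulAut.conj d) x * (MulAut.conj d) y = (MulAut.conj d) y * (MulAut.conj d) x
      rw [← map_mul, ← map_mul]
      exact congrArg _ (congrArg Subtype.val (hVc.1.1 (⟨x, hx⟩ : V) ⟨y, hy⟩))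
    · rintro _ ⟨x, hx, rfl⟩
      show ((MulAut.conj d) x) ^ 2 = 1
      rw [← map_pow, hV2 x hx, map_one]
    · rw [Subgroup.card_map_of_injective (MulAut.conj d).injective, hcard]
  obtain ⟨V, hV, huniq⟩ := h
  refine ⟨V.map (MulAut.conj c).toMonoidHom, ?_, fun W hW => ?_⟩
  · rw [Sylow.coe_subgroup_smul]
    exact key c _ V hV
  · have hW' := key c⁻¹ _ W hW
    have e : ((c • T₀ : Sylow 2 G) : Subgroup G).map (MulAut.conj c⁻¹).toMonoidHom =
        (T₀ : Subgroup G) := by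
      rw [Sylow.coe_subgroup_smul]
      ext x
      constructor
      · rintro ⟨y, ⟨u, hu, rfl⟩, rfl⟩
        show c⁻¹ * (c * u * c⁻¹) * c⁻¹⁻¹ ∈ (T₀ : Subgroup G)
        rw [show c⁻¹ * (c * u * c⁻¹) * c⁻¹⁻¹ = u by group]
        exact hu
      · exact fun hx => ⟨c * x * c⁻¹, ⟨x, hx, rfl⟩, by show c⁻¹ * (c * x * c⁻¹) * c⁻¹⁻¹ = x; group⟩
    rw [e] at hW'
    have hWV := huniq _ hW'
    rw [← hWV]
    ext x
    constructor
    · exact fun hx => ⟨c⁻¹ * x * c, ⟨x, hx, by show c⁻¹ * x * c⁻¹⁻¹ = _; group⟩,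
        by show c * (c⁻¹ * x * c) * c⁻¹ = x; group⟩
    · rintro ⟨y, ⟨w, hw, rfl⟩, rfl⟩
      show c * (c⁻¹ * w * c⁻¹⁻¹) * c⁻¹ ∈ W
      simpa [mul_assoc] using hw

/-- In a group of Janko-four type every Sylow 2-subgroup has exactly one elementary abelian
subgroup of order 2^11. -/
theorem janko_four_two_eleven {G : Type*} [Group G] [Finite G] (hJ : IsOfJankoFourType G)
    (T : Sylow 2 G) :
    ∃! V : Subgroup G, V ≤ (T : Subgroup G) ∧ IsElementaryAbelian 2 V ∧ Nat.card V = 2 ^ 11 := by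
  classical
  haveI : Fact (Nat.Prime 2) := ⟨Nat.prime_two⟩
  haveI : Fact (Nat.Prime 3) := ⟨Nat.prime_three⟩
  obtain ⟨z, P, hz, hEx, hEc, hcent, ⟨N, hEN, hNC, hNn, hNcard, ⟨hNnorm, hiso⟩, hPN⟩, hPc, hfix,
    hne, hperf⟩ := hJ
  set C := Subgroup.centralizer ({z} : Set G) with hC
  let E : Subgroup C := pCore 2 C
  have hE' : E.map C.subtype = twoCoreOfCentralizer z := rfl
  haveI : E.Normal := CfsgLib.Core.normal_pCore 2 C
  haveI : (N.subgroupOf C).Normal := hNnorm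
  -- a generator of `P`
  haveI : IsCyclic P := isCyclic_of_prime_card hPc
  obtain ⟨⟨g, hgP⟩, hgen⟩ := IsCyclic.exists_generator (α := P)
  have hP : P = Subgroup.zpowers g := by
    refine le_antisymm (fun x hx => ?_) (Subgroup.zpowers_le.2 hgP)
    obtain ⟨k, hk⟩ := Subgroup.mem_zpowers_iff.1 (hgen ⟨x, hx⟩)
    exact Subgroup.mem_zpowers_iff.2 ⟨k, congrArg Subtype.val hk⟩
  have hgord : orderOf g = 3 := by rw [← Nat.card_zpowers, ← hP, hPc]
  have hgC : g ∈ C := hNC (hPN hgP)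
  let zC : C := ⟨z, Subgroup.mem_centralizer_singleton_iff.2 rfl⟩
  let gC : C := ⟨g, hgC⟩
  have hzcen : ∀ c : C, c * zC = zC * c := fun c =>
    Subtype.ext (Subgroup.mem_centralizer_singleton_iff.1 c.2)
  have hCP : Subgroup.centralizer (P : Set G) = Subgroup.centralizer ({g} : Set G) := by
    rw [hP, Subgroup.zpowers_eq_closure, Subgroup.centralizer_closure]
  have s : Setting C zC gC E (N.subgroupOf C) := by
    refine
      { hz := (orderOf_injective C.subtype C.subtype_injective zC).symm.trans hz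
        central := hzcen
        hE := ?_
        card_E := ?_
        cent := ?_
        le := ?_
        card_N := ?_
        iso := hiso
        g_mem := hPN hgP
        hg := (orderOf_injective C.subtype C.subtype_injective gC).symm.trans hgord
        fix := ?_
        outer := ?_
        perfect := ?_ }
    · exact CfsgLib.ThreeTrans.isExtraspecial_congr hEx
        (Subgroup.equivMapOfInjective E C.subtype C.subtype_injective).symm
    · rw [← hEc, ← hE', Subgroup.card_map_of_injective C.subtype_injective]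
    · intro c hc
      have h1 : (c : G) ∈ twoCoreOfCentralizer z := hcent ⟨c.2, Subgroup.mem_centralizer_iff.2 (by
        rintro _ ⟨e, he, rfl⟩
        exact congrArg Subtype.val (Subgroup.mem_centralizer_iff.1 hc e he))⟩
      obtain ⟨e, he, ee⟩ := h1
      exact (Subtype.ext ee : e = c) ▸ he
    · exact fun e he => hEN ⟨e, he, rfl⟩
    · rw [Nat.card_congr (Subgroup.subgroupOfEquivOfLe hNC).toEquiv, hNcard, ← hE',
        Subgroup.card_map_of_injective C.subtype_injective]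
    · intro e he
      constructor
      · intro hc
        have h1 : (e : G) ∈ twoCoreOfCentralizer z ⊓ Subgroup.centralizer (P : Set G) :=
          ⟨⟨e, he, rfl⟩, by rw [hCP]; exact Subgroup.mem_centralizer_singleton_iff.2 (congrArg Subtype.val hc)⟩
        rw [hfix] at h1
        obtain ⟨k, hk⟩ := Subgroup.mem_zpowers_iff.1 h1
        exact Subgroup.mem_zpowers_iff.2 ⟨k, Subtype.ext (by rw [SubgroupClass.coe_zpow]; exact hk)⟩
      · intro hz'
        obtain ⟨k, rfl⟩ := Subgroup.mem_zpowers_iff.1 hz'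
        exact (Commute.zpow_left (hzcen gC).symm k).eq
    · by_contra hno
      push_neg at hno
      refine hne (le_antisymm (fun h hh => ⟨hh.1, ?_⟩) (inf_le_inf_left _ (Subgroup.centralizer_le_normalizer _)))
      rw [hCP]
      have := hno ⟨h, hh.1⟩ (by
        have hc := (Subgroup.mem_normalizer_iff.1 hh.2 g).1 hgP
        rw [hP] at hc
        obtain ⟨k, hk⟩ := Subgroup.mem_zpowers_iff.1 hc
        exact Subgroup.mem_zpowers_iff.2 ⟨k, Subtype.ext (by rw [SubgroupClass.coe_zpow]; exact hk)⟩)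
      exact Subgroup.mem_centralizer_singleton_iff.2 (congrArg Subtype.val this)
    · have hmap : (Subgroup.centralizer ({gC} : Set C)).map C.subtype =
          C ⊓ Subgroup.centralizer (P : Set G) := by
        rw [hCP]
        ext x
        constructor
        · rintro ⟨c, hc, rfl⟩
          exact ⟨c.2, Subgroup.mem_centralizer_singleton_iff.2
            (congrArg Subtype.val (Subgroup.mem_centralizer_singleton_iff.1 hc))⟩
        · exact fun hx => ⟨⟨x, hx.1⟩, Subgroup.mem_centralizer_singleton_iff.2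
            (Subtype.ext (Subgroup.mem_centralizer_singleton_iff.1 hx.2)), rfl⟩
      have h1 := hperf hgP
      rw [← hmap, ← Subgroup.map_commutator] at h1
      obtain ⟨c, hc, e⟩ := h1
      exact (Subtype.ext e : c = gC) ▸ hc
  obtain ⟨T₀, hET₀, hV₀⟩ := s.exists_unique_sylow
  -- a Sylow 2-subgroup of `G` inside the centralizer
  have hQ2 : IsPGroup 2 (E.map C.subtype) := (IsPGroup.of_card (n := 13) s.card_E).map _
  have hQcent : Subgroup.centralizer ((E.map C.subtype : Subgroup G) : Set G) ≤ Subgroup.zpowers z := by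
    intro c hc
    have hcC : c ∈ C := Subgroup.mem_centralizer_singleton_iff.2
      (Subgroup.mem_centralizer_iff.1 hc z ⟨zC, s.z_mem, rfl⟩).symm
    have hcen : (⟨c, hcC⟩ : C) ∈ Subgroup.centralizer (E : Set C) :=
      Subgroup.mem_centralizer_iff.2 fun e he =>
        Subtype.ext (Subgroup.mem_centralizer_iff.1 hc e ⟨e, he, rfl⟩)
    have hmem : (⟨⟨c, hcC⟩, s.cent hcen⟩ : E) ∈ Subgroup.center E :=
      Subgroup.mem_center_iff.2 fun w => Subtype.ext (Subgroup.mem_centralizer_iff.1 hcen w w.2)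
    obtain ⟨k, hk⟩ := Subgroup.mem_zpowers_iff.1 ((s.mem_center_iff _).1 hmem)
    refine Subgroup.mem_zpowers_iff.2 ⟨k, ?_⟩
    have := congrArg Subtype.val hk
    rwa [SubgroupClass.coe_zpow] at this
  obtain ⟨PG, -, hPGC⟩ := CfsgLib.ThreeTrans.exists_sylow_between hz (Q := E.map C.subtype)
    (Subgroup.map_subtype_le _) hQ2 ⟨zC, s.z_mem, rfl⟩ hQcent
  -- carry the statement to it
  let PC : Sylow 2 C := PG.subtype hPGC
  have hPC := existsUnique_of_sylow T₀ _ hV₀ PC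
  refine existsUnique_of_sylow PG _ ?_ T
  obtain ⟨V, ⟨hVT, hVe, hVn⟩, huniq⟩ := hPC
  refine ⟨V.map C.subtype, ⟨?_, ⟨⟨⟨?_⟩⟩, ?_⟩, ?_⟩, fun W ⟨hWT, ⟨hWc, hW2⟩, hWn⟩ => ?_⟩
  · rintro _ ⟨v, hv, rfl⟩
    exact hVT hv
  · rintro ⟨_, x, hx, rfl⟩ ⟨_, y, hy, rfl⟩
    exact Subtype.ext (congrArg (fun c : C => (c : G)) (congrArg Subtype.val (hVe.1.1.1 (⟨x, hx⟩ : V) ⟨y, hy⟩)))
  · rintro _ ⟨x, hx, rfl⟩
    show (x : G) ^ 2 = 1
    rw [← SubmonoidClass.coe_pow, hVe.2 x hx]
    rfl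
  · rw [Subgroup.card_map_of_injective C.subtype_injective, hVn]
  · have hWC : W ≤ C := hWT.trans hPGC
    have hcW : ∀ x y : ↥(W.subgroupOf C), x * y = y * x := fun x y => by
      have e := congrArg Subtype.val (hWc.1.1 (⟨((x : C) : G), x.2⟩ : W) ⟨((y : C) : G), y.2⟩)
      exact Subtype.ext (Subtype.ext e)
    have := huniq (W.subgroupOf C) ⟨fun x hx => hWT hx, ⟨⟨⟨hcW⟩⟩,
      fun x hx => Subtype.ext (by rw [SubmonoidClass.coe_pow]; exact hW2 _ hx)⟩,
      by rw [Nat.card_congr (Subgroup.subgroupOfEquivOfLe hWC).toEquiv, hWn]⟩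
    rw [← this, Subgroup.map_subgroupOf_eq_of_le hWC]

end CfsgLib.JankoFourTwo
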