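import Cfsg.Agent.Lib.JankoFourTwo.CertData
import Cfsg.Agent.Lib.Sporadic.MathieuPrimeElements

/-!
# The hexad group of M22 inside a Sylow 2-subgroup

The few facts about M22 used for the elementary abelian subgroups of order 2^11 in groups of
Janko-four type: an elementary group `A` of order 16, normal in a Sylow 2-subgroup `S`, whose
normaliser contains a Sylow 3-subgroup, is transitive on the involutions of `A` and preserves no
proper part of `A` in the weak sense of `closed`; every involution of `S` has a conjugate triple
whose product has order 11.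
-/

set_option autoImplicit false

namespace CfsgLib.JankoFourTwo

open Cfsg CfsgLib.Sporadic MulAction

/-! ### packed elements of M22 -/

/-- A packed number is a canonical packing of an element of M22. -/
noncomputable def valid (p : ℕ) : Bool :=
  isAut p && Nat.beq (pget p 23) 23 && Nat.beq (pget p 0) 0 && Nat.beq (pmul p pone) p

theorem exists_elem {p : ℕ} (h : valid p = true) :
    ∃ x : ↥Spor.M22, Rep (x : Equiv.Perm GolayPt) p := by
  simp only [valid, Bool.and_eq_true, Nat.beq_eq] at h
  obtain ⟨⟨⟨haut, h1⟩, h2⟩, -⟩ := h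
  obtain ⟨g, hg⟩ := exists_M24_elt haut
  have e1 : g • pt 23 = pt 23 := fixes_of_pget hg (by norm_num) h1
  have e2 : g • pt 0 = pt 0 := fixes_of_pget hg (by norm_num) h2
  exact ⟨⟨g, ⟨⟨g.2, e1⟩, e2⟩⟩, hg⟩

open Classical in
/-- The element of M22 with a given packing. -/
noncomputable def elt (p : ℕ) : ↥Spor.M22 :=
  if h : ∃ x : ↥Spor.M22, Rep (x : Equiv.Perm GolayPt) p then h.choose else 1

theorem rep_elt {p : ℕ} (h : valid p = true) : Rep (elt p : Equiv.Perm GolayPt) p := by
  rw [elt, dif_pos (exists_elem h)]
  exact (exists_elem h).choose_spec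

theorem elt_unique {p : ℕ} {x : ↥Spor.M22} (h : valid p = true)
    (hx : Rep (x : Equiv.Perm GolayPt) p) : elt p = x :=
  Subtype.ext ((rep_elt h).unique hx)

theorem elt_mul {p q r : ℕ} (hp : valid p = true) (hq : valid q = true) (hr : valid r = true)
    (e : pmul p q = r) : elt p * elt q = elt r :=
  (elt_unique hr (e ▸ (rep_elt hp).mul (rep_elt hq))).symm

theorem eq_of_elt_eq {p q : ℕ} (hp : valid p = true) (hq : valid q = true) (e : elt p = elt q) :
    p = q := by
  have h1 := pmul_packImage (rep_elt hp) Rep.one
  have h2 := pmul_packImage (rep_elt hq) Rep.one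
  simp only [valid, Bool.and_eq_true, Nat.beq_eq] at hp hq
  rw [hp.2] at h1
  rw [hq.2] at h2
  rw [h1, h2, e]

theorem valid_pone : valid pone = true := by decide +kernel

theorem elt_one : elt pone = 1 := elt_unique valid_pone Rep.one

/-- `pmul p q` and `pmul r s` agree, all four being valid. -/
theorem elt_mul_eq {p q r s : ℕ} (hp : valid p = true) (hq : valid q = true) (hr : valid r = true)
    (hs : valid s = true) (e : pmul p q = pmul r s) : elt p * elt q = elt r * elt s :=
  Subtype.ext (((rep_elt hp).mul (rep_elt hq)).unique (e ▸ (rep_elt hr).mul (rep_elt hs)))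

/-! ### the lists -/

/-- Whether a number occurs in a list. -/
noncomputable def inList (x : ℕ) (L : List ℕ) : Bool := L.any (fun y => Nat.beq y x)

theorem inList_iff {x : ℕ} {L : List ℕ} : inList x L = true ↔ x ∈ L := by
  simp [inList, List.any_eq_true]

/-- The list generated by a series, by doubling. -/
noncomputable def serList (gs : List ℕ) : List ℕ := gs.foldl (fun L g => L ++ L.map (pmul g)) [pone]

/-- The list of a series packs a subgroup: it is closed under right multiplication by the series. -/
noncomputable def groupOK (gs : List ℕ) : Bool :=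
  gs.all valid && (serList gs).all valid && inList pone (serList gs) &&
    (serList gs).all (fun a => gs.all (fun b => inList (pmul a b) (serList gs)))

theorem fold_mem {M : Submonoid ↥Spor.M22} : ∀ (gs L : List ℕ), (∀ g ∈ gs, valid g = true) →
    (∀ g ∈ gs, elt g ∈ M) → (∀ p ∈ L, valid p = true → elt p ∈ M) →
    (∀ p ∈ gs.foldl (fun L g => L ++ L.map (pmul g)) L, valid p = true) →
    ∀ p ∈ gs.foldl (fun L g => L ++ L.map (pmul g)) L, elt p ∈ M := by
  intro gs
  induction gs with
  | nil => exact fun L _ _ hL hv p hp => hL p hp (hv p hp)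
  | cons g gs ih =>
    intro L hg hgM hL hv
    have hmono : ∀ (gs' L' : List ℕ), ∀ p ∈ L',
        p ∈ gs'.foldl (fun L g => L ++ L.map (pmul g)) L' := by
      intro gs'
      induction gs' with
      | nil => exact fun L' p hp => hp
      | cons a l ih2 => exact fun L' p hp => ih2 _ p (List.mem_append_left _ hp)
    refine ih _ (fun a ha => hg a (List.mem_cons_of_mem _ ha))
      (fun a ha => hgM a (List.mem_cons_of_mem _ ha)) (fun p hp hpv => ?_) hv
    rcases List.mem_append.1 hp with hp | hp
    · exact hL p hp hpv
    · obtain ⟨q, hq, rfl⟩ := List.mem_map.1 hp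
      have hqv : valid q = true := hv q (hmono (g :: gs) L q hq)
      rw [← elt_mul (hg g List.mem_cons_self) hqv hpv rfl]
      exact M.mul_mem (hgM g List.mem_cons_self) (hL q hq hqv)

theorem groupOK_spec {gs : List ℕ} (h : groupOK gs = true) (hn : (serList gs).Nodup) :
    ∃ K : Subgroup ↥Spor.M22, (∀ x, x ∈ K ↔ ∃ p ∈ serList gs, elt p = x) ∧
      Nat.card K = (serList gs).length := by
  classical
  simp only [groupOK, Bool.and_eq_true, List.all_eq_true, inList_iff] at h
  obtain ⟨⟨⟨hgv, hv⟩, h1⟩, hm⟩ := h
  let T : Submonoid ↥Spor.M22 :=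
    { carrier := {y | ∀ p ∈ serList gs, ∃ q ∈ serList gs, elt q = elt p * y}
      one_mem' := fun p hp => ⟨p, hp, (mul_one _).symm⟩
      mul_mem' := by
        intro y z hy hz p hp
        obtain ⟨q, hq, e⟩ := hy p hp
        obtain ⟨r, hr, e'⟩ := hz q hq
        exact ⟨r, hr, by rw [e', e, mul_assoc]⟩ }
  have hT : ∀ p ∈ serList gs, elt p ∈ T :=
    fold_mem (M := T) gs [pone] hgv
      (fun g hg p hp => ⟨_, hm p hp g hg, (elt_mul (hv p hp) (hgv g hg) (hv _ (hm p hp g hg)) rfl).symm⟩)
      (fun p hp _ => by rw [List.mem_singleton.1 hp, elt_one]; exact T.one_mem) hv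
  let M : Submonoid ↥Spor.M22 :=
    { carrier := {x | ∃ p ∈ serList gs, elt p = x}
      one_mem' := ⟨pone, h1, elt_one⟩
      mul_mem' := by
        rintro _ _ ⟨p, hp, rfl⟩ ⟨q, hq, rfl⟩
        exact hT q hq p hp }
  let K : Subgroup ↥Spor.M22 :=
    { M with
      inv_mem' := by
        intro x hx
        obtain ⟨n, hn⟩ := (isOfFinOrder_of_finite x).mem_powers_iff_mem_zpowers.2
          (Subgroup.inv_mem _ (Subgroup.mem_zpowers x))
        exact hn ▸ pow_mem (show x ∈ M from hx) n }
  refine ⟨K, fun x => Iff.rfl, ?_⟩
  have e : (K : Set ↥Spor.M22) = ↑((serList gs).toFinset.image elt) := by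
    ext x
    simp only [Finset.coe_image, List.coe_toFinset, Set.mem_image, Set.mem_setOf_eq]
    exact Iff.rfl
  have : Nat.card K = ((serList gs).toFinset.image elt).card := by
    show Nat.card ((K : Set ↥Spor.M22)) = _
    rw [e, Nat.card_coe_set_eq, Set.ncard_coe_finset]
  rw [this, Finset.card_image_of_injOn, List.toFinset_card_of_nodup hn]
  intro p hp q hq e
  rw [List.coe_toFinset] at hp hq
  exact eq_of_elt_eq (hv p hp) (hv q hq) e

/-- The elements of the Sylow 2-subgroup. -/
noncomputable def listS : List ℕ := serList serD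

/-- No repetitions, by comparisons. -/
noncomputable def distinctOK : List ℕ → Bool :=
  List.rec true (fun a l ih => ! inList a l && ih)

theorem distinctOK_spec : ∀ {L : List ℕ}, distinctOK L = true → L.Nodup := by
  intro L
  induction L with
  | nil => exact fun _ => List.nodup_nil
  | cons a l ih =>
    intro h
    replace h : (! inList a l && distinctOK l) = true := h
    rw [Bool.and_eq_true, Bool.not_eq_true'] at h
    exact List.nodup_cons.2 ⟨fun hm => by simp [inList_iff.2 hm] at h, ih h.2⟩

/-! ### the checks -/

/-- The `i`-th element. -/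
noncomputable def nS (i : ℕ) : ℕ := listS.getD i pone


/-- The elements of the Sylow 2-subgroup form a group of order 128. -/
noncomputable def sylowOK : Bool :=
  Nat.beq listS.length 128 && distinctOK listS && groupOK serD && groupOK (serD.take 4)

/-- The first 16 elements are added like the bit vectors of their indices. -/
noncomputable def xorOK : Bool :=
  forallLt 16 fun i => forallLt 16 fun j => Nat.beq (pmul (nS i) (nS j)) (nS (Nat.xor i j))

/-- Left cosets of the first 16 elements. -/
noncomputable def cosetOK : Bool :=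
  forallLt 8 fun k => forallLt 16 fun i =>
    Nat.beq (nS (16 * k + i)) (pmul (nS (16 * k)) (nS i))

/-- The first 16 elements are normal, and an involution outside has at most four fixed ones. -/
noncomputable def actOK : Bool :=
  forallLt 128 fun m =>
    forallLt 16 (fun i => inList (pmul (nS m) (nS i)) ((listS.take 16).map (fun b => pmul b (nS m)))) &&
      (Nat.blt m 16 || ! Nat.beq (pmul (nS m) (nS m)) pone ||
        Nat.ble (countLt 16 fun i => Nat.beq (pmul (nS m) (nS i)) (pmul (nS i) (nS m))) 4)

/-- Some square lies outside the first 16 elements. -/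
noncomputable def squareOK : Bool := ! inList (pmul (nS 80) (nS 80)) (listS.take 16)

/-- The listed elements normalise, with the listed action. -/
noncomputable def normOK : Bool :=
  normD.all fun e => valid e.1 && forallLt 16 fun i =>
    Nat.blt (e.2.getD i 16) 16 && Nat.beq (pmul e.1 (nS i)) (pmul (nS (e.2.getD i 0)) e.1)

/-- The three-subgroup: order nine, exponent three, abelian, in the normaliser. -/
noncomputable def threeOK : Bool :=
  Nat.beq threeD.length 9 && distinctOK threeD && threeD.all valid &&
    forallLt 9 (fun i => forallLt 9 fun j => Nat.beq (pmul (threeD.getD i pone) (threeD.getD j pone))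
      (threeD.getD (3 * ((i / 3 + j / 3) % 3) + (i % 3 + j % 3) % 3) pone)) &&
    (threeD.all fun r => Nat.beq (pmul (pmul r r) r) pone &&
      threeD.all (fun s => Nat.beq (pmul r s) (pmul s r)) &&
      forallLt 16 (fun i => inList (pmul r (nS i)) ((listS.take 16).map (fun b => pmul b r))))

/-- The action of a listed element on indices. -/
def act (g i : ℕ) : ℕ := (normD.getD g (0, [])).2.getD i 0

/-- Orbit run. -/
noncomputable def orbRun : List (ℕ × ℕ) → List ℕ → List ℕ :=
  List.rec (fun X => X) fun o _ ih X =>
    cond (Nat.blt o.1 normD.length && inList o.2 X) (ih (act o.1 o.2 :: X)) []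

/-- Closure run. -/
noncomputable def cloRun : List (ℕ × ℕ × ℕ × ℕ) → List ℕ → List ℕ :=
  List.rec (fun X => X) fun o _ ih X =>
    cond (Nat.beq o.1 0)
      (cond (inList o.2.2.1 X && inList o.2.2.2 X) (ih (Nat.xor o.2.2.1 o.2.2.2 :: X)) [])
      (cond (Nat.blt o.2.1 normD.length && Nat.blt 0 o.2.2.1 && inList o.2.2.1 X &&
          inList (act o.2.1 o.2.2.1) X && inList o.2.2.2 X) (ih (act o.2.1 o.2.2.2 :: X)) [])

/-- The orbit of the first element and the closures of the pairs containing it. -/
noncomputable def orbitOK : Bool :=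
  forallLt 15 (fun i => inList (i + 1) (orbRun orbD [1])) &&
    forallLt 14 fun b => forallLt 15 fun i => inList (i + 1) (cloRun (cloD.getD b []) [1, b + 2])

/-- The product of a fusion word. -/
noncomputable def wordProd (l : List (ℕ × ℕ)) : ℕ := l.foldr (fun e acc => pmul e.2 acc) pone

/-- The fusion words. -/
noncomputable def fuseOK : Bool :=
  forallLt 7 fun k =>
    match fuseD.getD k ([], 16, 0) with
    | (w, i, j) => Nat.blt i 16 && Nat.blt 0 j && Nat.blt j 9 &&
        (w.all fun e => Nat.blt e.1 normD.length && valid e.2 &&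
          Nat.beq (pmul (normD.getD e.1 (0, [])).1 (nS (16 * (k + 1)))) (pmul e.2 (normD.getD e.1 (0, [])).1)) &&
        valid (wordProd w) && Nat.beq (wordProd w) (pmul (nS i) (threeD.getD j pone)) &&
        ! Nat.beq (threeD.getD j pone) pone

/-- The products of order eleven. -/
noncomputable def elevenOK : Bool :=
  (forallLt 128 fun m => Nat.beq m 0 || ! Nat.beq (pmul (nS m) (nS m)) pone ||
      elevenD.any (fun e => Nat.beq e.1 m)) &&
    elevenD.all fun e =>
      match e with
      | (m, g, c, h, d) => valid g && valid c && valid h && valid d &&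
          Nat.beq (pmul g (nS m)) (pmul c g) && Nat.beq (pmul h (nS m)) (pmul d h) &&
          valid (pmul (pmul (nS m) c) d) &&
          Nat.beq (ppow (pmul (pmul (nS m) c) d) 11) pone && ! Nat.beq (pmul (pmul (nS m) c) d) pone

theorem checks : sylowOK = true ∧ xorOK = true ∧ cosetOK = true ∧ actOK = true ∧ squareOK = true ∧
    normOK = true ∧ threeOK = true ∧ orbitOK = true ∧ fuseOK = true ∧ elevenOK = true := by
  refine ⟨?_, ?_, ?_, ?_, ?_, ?_, ?_, ?_, ?_, ?_⟩ <;> decide +kernel

end CfsgLib.JankoFourTwo
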