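import Mathlib

/-!
# Fixed subgroups of automorphisms of an elementary abelian 2-group

Counting lemmas: fixed points modulo the order, the cube formula for an extraspecial group of
order 27 acting with fixed-point-free centre, and the quotient trick for an element of order 11.
-/

set_option autoImplicit false

namespace CfsgLib.JankoFourTwo

variable {Γ W : Type*} [Group Γ] [CommGroup W] (ρ : Γ →* MulAut W)

/-- The common fixed subgroup of a set of group elements. -/
def fixG (s : Set Γ) : Subgroup W where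
  carrier := {v | ∀ g ∈ s, ρ g v = v}
  one_mem' g _ := map_one _
  mul_mem' {a b} ha hb g hg := by rw [map_mul, ha g hg, hb g hg]
  inv_mem' {a} ha g hg := by rw [map_inv, ha g hg]

variable {ρ}

theorem mem_fixG {s : Set Γ} {v : W} : v ∈ fixG ρ s ↔ ∀ g ∈ s, ρ g v = v := Iff.rfl

theorem mem_fixG_one {g : Γ} {v : W} : v ∈ fixG ρ {g} ↔ ρ g v = v := by simp [mem_fixG]

theorem fixG_anti {s t : Set Γ} (h : s ⊆ t) : fixG ρ t ≤ fixG ρ s := fun _ hv g hg => hv g (h hg)

theorem apply_mul (g k : Γ) (v : W) : ρ (g * k) v = ρ g (ρ k v) := by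
  rw [map_mul, MulAut.mul_apply]

theorem inv_apply_of_fixed {g : Γ} {v : W} (h : ρ g v = v) : ρ g⁻¹ v = v := by
  conv_lhs => rw [← h]
  rw [← apply_mul, inv_mul_cancel, map_one, MulAut.one_apply]

/-- Conjugation moves fixed subgroups. -/
theorem apply_mem_fixG_conj (g : Γ) {s : Set Γ} {v : W} (hv : v ∈ fixG ρ s) :
    ρ g v ∈ fixG ρ ((fun x => g * x * g⁻¹) '' s) := by
  rintro _ ⟨x, hx, rfl⟩
  rw [← apply_mul, inv_mul_cancel_right, apply_mul, hv x hx]

theorem card_fixG_conj [Finite W] (g x : Γ) :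
    Nat.card (fixG ρ {g * x * g⁻¹}) = Nat.card (fixG ρ {x}) := by
  have key : ∀ (g x : Γ), Nat.card (fixG ρ {x}) ≤ Nat.card (fixG ρ {g * x * g⁻¹}) := fun g x =>
    Nat.card_le_card_of_injective
      (fun v : fixG ρ {x} => (⟨ρ g v, by
        simpa using apply_mem_fixG_conj g v.2⟩ : fixG ρ {g * x * g⁻¹}))
      fun a b e => Subtype.ext ((ρ g).injective (congrArg Subtype.val e))
  refine le_antisymm ?_ (key g x)
  have h := key g⁻¹ (g * x * g⁻¹)
  rwa [show g⁻¹ * (g * x * g⁻¹) * g⁻¹⁻¹ = x by group] at h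

/-- Fixed points of an element of prime order on an invariant subgroup, counted modulo the prime. -/
theorem card_inf_fixG_modEq [Finite W] {q : ℕ} [Fact q.Prime] {σ : Γ} (hσ : ∀ v, ρ (σ ^ q) v = v)
    {U : Subgroup W} (hU : ∀ v ∈ U, ρ σ v ∈ U) :
    Nat.card ↥(U ⊓ fixG ρ {σ}) ≡ Nat.card U [MOD q] := by
  classical
  haveI : Fintype W := Fintype.ofFinite W
  haveI : Fintype ↥U := Fintype.ofFinite _
  let π : Equiv.Perm ↥U := Equiv.ofBijective (fun v => ⟨ρ σ v, hU v v.2⟩)
    (Finite.injective_iff_bijective.1 fun a b e =>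
      Subtype.ext ((ρ σ).injective (congrArg Subtype.val e)))
  have hit : ∀ (n : ℕ) (v : ↥U), (((π ^ n) v : ↥U) : W) = ρ (σ ^ n) v := by
    intro n
    induction n with
    | zero => intro v; rw [pow_zero, pow_zero, map_one]; rfl
    | succ n ih =>
      intro v
      rw [pow_succ', pow_succ', Equiv.Perm.mul_apply, apply_mul, ← ih]
      rfl
  have hπ : π ^ q ^ 1 = 1 := Equiv.ext fun v => Subtype.ext (by rw [hit, pow_one, hσ]; rfl)
  have h := Equiv.Perm.card_compl_support_modEq hπ
  rw [← Nat.card_eq_fintype_card] at h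
  refine (Nat.ModEq.trans ?_ h)
  have e : Nat.card ↥(U ⊓ fixG ρ {σ}) = (π.supportᶜ).card := by
    rw [← Nat.card_eq_finsetCard]
    refine Nat.card_congr
      { toFun := fun v => ⟨⟨v, v.2.1⟩, ?_⟩
        invFun := fun v => ⟨(v.1 : W), v.1.2, mem_fixG_one.2 ?_⟩
        left_inv := fun _ => rfl
        right_inv := fun _ => rfl }
    · rw [Finset.mem_compl, Equiv.Perm.notMem_support]
      exact Subtype.ext (mem_fixG_one.1 v.2.2)
    · have := v.2
      rw [Finset.mem_compl, Equiv.Perm.notMem_support] at this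
      exact congrArg Subtype.val this
  exact e ▸ Nat.ModEq.refl _

theorem exists_card_two_pow [Finite W] (he : ∀ v : W, v * v = 1) (U : Subgroup W) :
    ∃ k, Nat.card U = 2 ^ k := by
  haveI : Fact (Nat.Prime 2) := ⟨Nat.prime_two⟩
  exact IsPGroup.iff_card.1 fun u => ⟨1, Subtype.ext (by simpa [pow_two] using he (u : W))⟩

/-- A commuting set of involutions fixes a nontrivial element of every nontrivial invariant
subgroup. -/
theorem inf_fixG_ne_bot [Finite W] (he : ∀ v : W, v * v = 1) :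
    ∀ (s : Finset Γ), (∀ a ∈ s, ∀ b ∈ s, a * b = b * a) → (∀ a ∈ s, a * a = 1) →
      ∀ U : Subgroup W, U ≠ ⊥ → (∀ a ∈ s, ∀ v ∈ U, ρ a v ∈ U) →
        U ⊓ fixG ρ (s : Set Γ) ≠ ⊥ := by
  classical
  intro s
  induction s using Finset.induction_on with
  | empty =>
    intro _ _ U hU _
    have : fixG ρ ((∅ : Finset Γ) : Set Γ) = ⊤ := eq_top_iff.2 fun v _ g hg => by simp at hg
    rwa [this, inf_top_eq]
  | @insert a t _ ih =>
    intro hc h2 U hU hinv
    have hU' := ih (fun x hx y hy => hc x (Finset.mem_insert_of_mem hx) y (Finset.mem_insert_of_mem hy))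
      (fun x hx => h2 x (Finset.mem_insert_of_mem hx)) U hU
      (fun x hx => hinv x (Finset.mem_insert_of_mem hx))
    set X := U ⊓ fixG ρ (t : Set Γ)
    have hX : ∀ v ∈ X, ρ a v ∈ X := fun v hv => by
      refine ⟨hinv a (Finset.mem_insert_self _ _) v hv.1, fun b hb => ?_⟩
      rw [← apply_mul, ← hc a (Finset.mem_insert_self _ _) b (Finset.mem_insert_of_mem hb), apply_mul,
        hv.2 b hb]
    haveI : Fact (Nat.Prime 2) := ⟨Nat.prime_two⟩
    have hmod := card_inf_fixG_modEq (q := 2) (σ := a)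
      (fun v => by rw [pow_two, h2 a (Finset.mem_insert_self _ _), map_one, MulAut.one_apply]) hX
    have hfix : X ⊓ fixG ρ {a} = U ⊓ fixG ρ ((insert a t : Finset Γ) : Set Γ) := by
      ext v
      simp only [X, Subgroup.mem_inf, mem_fixG, Finset.coe_insert, Set.mem_insert_iff,
        Finset.mem_coe, Set.mem_singleton_iff, forall_eq, forall_eq_or_imp]
      tauto
    rw [← hfix]
    intro hb
    rw [hb, Subgroup.card_bot] at hmod
    obtain ⟨k, hk⟩ := exists_card_two_pow he X
    rcases Nat.eq_zero_or_pos k with rfl | hk0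
    · exact hU' (Subgroup.card_eq_one.1 hk)
    · rw [hk, Nat.ModEq, Nat.pow_mod] at hmod
      simp [Nat.one_mod, zero_pow hk0.ne'] at hmod

section Three

variable [Finite W] (he : ∀ v : W, v * v = 1) {p : Γ} (hp : p ^ 3 = 1)
  (hfree : ∀ v, ρ p v = v → v = 1)
include he hp hfree

/-- A subgroup invariant under a fixed-point-free element of order three has square order. -/
theorem card_four_pow {U : Subgroup W} (hU : ∀ v ∈ U, ρ p v ∈ U) :
    ∃ k, Nat.card U = 4 ^ k := by
  haveI : Fact (Nat.Prime 3) := ⟨Nat.prime_three⟩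
  have hmod := card_inf_fixG_modEq (q := 3) (σ := p)
    (fun v => by rw [hp, map_one, MulAut.one_apply]) hU
  have hb : U ⊓ fixG ρ {p} = ⊥ :=
    (Subgroup.eq_bot_iff_forall _).2 fun v hv => hfree v (mem_fixG_one.1 hv.2)
  rw [hb, Subgroup.card_bot] at hmod
  obtain ⟨k, hk⟩ := exists_card_two_pow he U
  rw [hk] at hmod ⊢
  rcases Nat.even_or_odd' k with ⟨j, rfl | rfl⟩
  · exact ⟨j, by rw [pow_mul]; norm_num⟩
  · exfalso
    rw [pow_succ, pow_mul, Nat.ModEq, Nat.mul_mod, Nat.pow_mod] at hmod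
    norm_num at hmod

/-- The cube formula. -/
theorem card_eq_cube {x y : Γ} (hx : x ^ 3 = 1) (hxp : x * p = p * x) (hpy : p * y = y * p)
    (hy : y * x * y⁻¹ = x * p ∨ y * x * y⁻¹ = x * (p * p)) {U : Subgroup W}
    (hUp : ∀ v ∈ U, ρ p v ∈ U) (hUx : ∀ v ∈ U, ρ x v ∈ U) (hUy : ∀ v ∈ U, ρ y v ∈ U) :
    Nat.card U = Nat.card ↥(U ⊓ fixG ρ {x}) ^ 3 := by
  classical
  have h3 : ∀ v : W, v * v * v = v := fun v => by rw [he, one_mul]
  have hp3 : p * (p * p) = 1 := by rw [← hp, pow_succ', pow_two]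
  let σ : Fin 3 → Γ := ![x, x * p, x * (p * p)]
  have hc : Commute x p := hxp
  have hσ3 : ∀ i, σ i * (σ i * σ i) = 1 := by
    intro i
    have hcube : ∀ q : Γ, Commute x q → q ^ 3 = 1 → x * q * (x * q * (x * q)) = 1 := fun q hq h => by
      have := hq.mul_pow 3
      rw [hx, h, one_mul, pow_succ', pow_two] at this
      exact this
    fin_cases i
    · show x * (x * x) = 1
      rw [← hx, pow_succ', pow_two]
    · exact hcube p hc hp
    · refine hcube _ (hc.mul_right hc) ?_
      rw [← pow_two, ← pow_mul, show 2 * 3 = 3 * 2 from rfl, pow_mul, hp, one_pow]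
  have hσU : ∀ i, ∀ v ∈ U, ρ (σ i) v ∈ U := by
    intro i v hv
    fin_cases i
    · exact hUx v hv
    · show ρ (x * p) v ∈ U
      rw [apply_mul]; exact hUx _ (hUp v hv)
    · show ρ (x * (p * p)) v ∈ U
      rw [apply_mul, apply_mul]; exact hUx _ (hUp _ (hUp v hv))
  -- the product of the three averages is the identity
  let e : Γ → W → W := fun g v => v * ρ g v * ρ g (ρ g v)
  have hmem : ∀ i, ∀ v ∈ U, e (σ i) v ∈ U ⊓ fixG ρ {σ i} := by
    intro i v hv
    refine ⟨U.mul_mem (U.mul_mem hv (hσU i v hv)) (hσU i _ (hσU i v hv)), mem_fixG_one.2 ?_⟩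
    have hcyc : ρ (σ i) (ρ (σ i) (ρ (σ i) v)) = v := by
      rw [← apply_mul, ← apply_mul, mul_assoc, hσ3, map_one, MulAut.one_apply]
    simp only [e]
    rw [map_mul, map_mul, hcyc]
    ac_rfl
  have hppp : ∀ w, ρ p (ρ p (ρ p w)) = w := fun w => by
    rw [← apply_mul, ← apply_mul, mul_assoc, hp3, map_one, MulAut.one_apply]
  have hps : ∀ v : W, v * ρ p v * ρ (p * p) v = 1 := fun v => hfree _ (by
    rw [apply_mul, map_mul, map_mul, hppp]
    ac_rfl)
  have hsum : ∀ v : W, e (σ 0) v * e (σ 1) v * e (σ 2) v = v := by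
    intro v
    show v * ρ x v * ρ x (ρ x v) * (v * ρ (x * p) v * ρ (x * p) (ρ (x * p) v)) *
      (v * ρ (x * (p * p)) v * ρ (x * (p * p)) (ρ (x * (p * p)) v)) = v
    have e1 : ρ x v * ρ (x * p) v * ρ (x * (p * p)) v = 1 := by
      rw [apply_mul x p, apply_mul x (p * p), ← map_mul, ← map_mul, hps, map_one]
    have hsw : x * p * (x * p) = x * x * (p * p) := by
      rw [mul_assoc x p, ← mul_assoc p x, ← hxp]; group
    have hsw2 : x * (p * p) * (x * (p * p)) = x * x * p := by
      have hc2 : x * (p * p) = p * p * x := (hc.mul_right hc).eq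
      rw [mul_assoc x (p * p), ← mul_assoc (p * p) x, ← hc2, ← mul_assoc, ← mul_assoc, ← mul_assoc]
      calc x * x * (p * p) * p * p = x * x * (p * (p * p)) * p := by group
        _ = _ := by rw [hp3, mul_one]
    have e2 : ρ x (ρ x v) * ρ (x * p) (ρ (x * p) v) * ρ (x * (p * p)) (ρ (x * (p * p)) v) = 1 := by
      rw [← apply_mul, ← apply_mul, ← apply_mul, hsw, hsw2, apply_mul (x * x) (p * p),
        apply_mul (x * x) p, ← map_mul, ← map_mul]
      rw [show v * ρ (p * p) v * ρ p v = v * ρ p v * ρ (p * p) v by ac_rfl, hps, map_one]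
    calc _ = v * v * v * (ρ x v * ρ (x * p) v * ρ (x * (p * p)) v) *
          (ρ x (ρ x v) * ρ (x * p) (ρ (x * p) v) * ρ (x * (p * p)) (ρ (x * (p * p)) v)) := by ac_rfl
      _ = v := by rw [e1, e2, mul_one, mul_one, h3]
  let F : Fin 3 → Subgroup W := fun i => U ⊓ fixG ρ {σ i}
  let m : F 0 × F 1 × F 2 → U := fun t => ⟨t.1 * t.2.1 * t.2.2,
    U.mul_mem (U.mul_mem t.1.2.1 t.2.1.2.1) t.2.2.2.1⟩
  have hsurj : Function.Surjective m := fun v =>
    ⟨(⟨_, hmem 0 v v.2⟩, ⟨_, hmem 1 v v.2⟩, ⟨_, hmem 2 v v.2⟩), Subtype.ext (hsum v)⟩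
  have hinj : ∀ a ∈ F 0, ∀ b ∈ F 1, ∀ c ∈ F 2, a * b * c = 1 → a = 1 ∧ b = 1 ∧ c = 1 := by
    intro a ha b hb c hc' habc
    have ha' : ρ x a = a := mem_fixG_one.1 ha.2
    have hb' : ρ x (ρ p b) = b := by rw [← apply_mul]; exact mem_fixG_one.1 hb.2
    have hc'' : ρ x (ρ p (ρ p c)) = c := by
      rw [← apply_mul, ← apply_mul]
      have := mem_fixG_one.1 hc'.2
      rwa [show σ 2 = x * (p * p) from rfl, ← mul_assoc] at this
    have hcom : ∀ w, ρ x (ρ p w) = ρ p (ρ x w) := fun w => by rw [← apply_mul, ← apply_mul, hxp]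
    have xb : ρ x b = ρ p (ρ p b) := (ρ p).injective (by rw [← hcom, hb', hppp])
    have xc : ρ x c = ρ p c := (ρ p).injective ((ρ p).injective
      (by rw [← hcom, ← hcom, hc'', hppp]))
    have E1 : a * ρ p (ρ p b) * ρ p c = 1 := by
      have := congrArg (ρ x) habc
      rwa [map_mul, map_mul, map_one, ha', xb, xc] at this
    have E2 : a * ρ p b * ρ p (ρ p c) = 1 := by
      have := congrArg (ρ x) E1
      rwa [map_mul, map_mul, map_one, ha', hcom, hcom, hcom, xb, xc, hppp] at this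
    have G1 : b * ρ p (ρ p b) * (c * ρ p c) = 1 := by
      calc _ = (a * a) * (b * ρ p (ρ p b) * (c * ρ p c)) := by rw [he, one_mul]
        _ = (a * b * c) * (a * ρ p (ρ p b) * ρ p c) := by ac_rfl
        _ = 1 := by rw [habc, E1, one_mul]
    have G2 : b * ρ p b * (c * ρ p (ρ p c)) = 1 := by
      calc _ = (a * a) * (b * ρ p b * (c * ρ p (ρ p c))) := by rw [he, one_mul]
        _ = (a * b * c) * (a * ρ p b * ρ p (ρ p c)) := by ac_rfl
        _ = 1 := by rw [habc, E2, one_mul]
    have G3 : ρ p b * ρ p (ρ p b) * (ρ p c * c) = 1 := by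
      have := congrArg (ρ p) G2
      rwa [map_mul, map_mul, map_mul, map_one, hppp] at this
    have hb1 : b = 1 := by
      refine hfree b ?_
      have h : b * ρ p b = 1 := by
        calc b * ρ p b = b * ρ p b * (ρ p (ρ p b) * ρ p (ρ p b)) *
              ((c * ρ p c) * (c * ρ p c)) := by rw [he, he, mul_one, mul_one]
          _ = (b * ρ p (ρ p b) * (c * ρ p c)) * (ρ p b * ρ p (ρ p b) * (ρ p c * c)) := by ac_rfl
          _ = 1 := by rw [G1, G3, one_mul]
      calc ρ p b = b * b * ρ p b := by rw [he, one_mul]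
        _ = b * (b * ρ p b) := mul_assoc _ _ _
        _ = b := by rw [h, mul_one]
    rw [hb1, map_one, map_one, one_mul, one_mul] at G1
    have hc1 : c = 1 := by
      refine hfree c ?_
      calc ρ p c = c * c * ρ p c := by rw [he, one_mul]
        _ = c * (c * ρ p c) := mul_assoc _ _ _
        _ = c := by rw [G1, mul_one]
    rw [hb1, hc1, mul_one, mul_one] at habc
    exact ⟨habc, hb1, hc1⟩
  have hinj' : Function.Injective m := by
    rintro ⟨a, b, c⟩ ⟨a', b', c'⟩ e'
    have e' := congrArg Subtype.val e'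
    simp only [m] at e'
    obtain ⟨h1, h2, h3⟩ := hinj _ (mul_mem a.2 (inv_mem a'.2)) _ (mul_mem b.2 (inv_mem b'.2)) _
      (mul_mem c.2 (inv_mem c'.2)) (by
        calc ((a : W) * (a' : W)⁻¹) * ((b : W) * (b' : W)⁻¹) * ((c : W) * (c' : W)⁻¹)
            = ((a : W) * b * c) * ((a' : W) * b' * c')⁻¹ := by rw [mul_inv, mul_inv]; ac_rfl
          _ = 1 := by rw [e', mul_inv_cancel])
    exact Prod.ext (Subtype.ext (mul_inv_eq_one.1 h1))
      (Prod.ext (Subtype.ext (mul_inv_eq_one.1 h2)) (Subtype.ext (mul_inv_eq_one.1 h3)))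
  rw [← Nat.card_congr (Equiv.ofBijective m ⟨hinj', hsurj⟩), Nat.card_prod, Nat.card_prod]
  -- conjugation by `y` permutes the three fixed subgroups
  have hyinv : ∀ i j, y * σ i * y⁻¹ = σ j → Nat.card (F i) ≤ Nat.card (F j) := fun i j hij =>
    Nat.card_le_card_of_injective
      (fun v : F i => (⟨ρ y v, hUy _ v.2.1, by simpa [hij] using apply_mem_fixG_conj y v.2.2⟩ : F j))
      fun a b e' => Subtype.ext ((ρ y).injective (congrArg Subtype.val e'))
  have hyp : y * p * y⁻¹ = p := by rw [← hpy, mul_inv_cancel_right]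
  have hc1 : ∀ q, y * (x * q) * y⁻¹ = y * x * y⁻¹ * (y * q * y⁻¹) := fun q => by group
  have hc2 : y * (p * p) * y⁻¹ = p * p := by
    calc y * (p * p) * y⁻¹ = y * p * y⁻¹ * (y * p * y⁻¹) := by group
      _ = _ := by rw [hyp]
  have s0 : σ 0 = x := rfl
  have s1 : σ 1 = x * p := rfl
  have s2 : σ 2 = x * (p * p) := rfl
  have heq : Nat.card (F 1) = Nat.card (F 0) ∧ Nat.card (F 2) = Nat.card (F 0) := by
    rcases hy with h | h
    · have a := hyinv 0 1 (by rw [s0, s1, h])
      have b := hyinv 1 2 (by rw [s1, s2, hc1, h, hyp, mul_assoc])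
      have c := hyinv 2 0 (by rw [s2, s0, hc1, h, hc2, mul_assoc, hp3, mul_one])
      omega
    · have a := hyinv 0 2 (by rw [s0, s2, h])
      have b := hyinv 2 1 (by
        rw [s2, s1, hc1, h, hc2, mul_assoc]
        congr 1
        calc p * p * (p * p) = p * (p * p) * p := by group
          _ = p := by rw [hp3, one_mul])
      have c := hyinv 1 0 (by rw [s1, s0, hc1, h, hyp, mul_assoc, mul_assoc, hp3, mul_one])
      omega
  rw [heq.1, heq.2, show U ⊓ fixG ρ {x} = F 0 from rfl]
  ring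

end Three

/-- If an element of order eleven fixes pointwise a subgroup of index at most 64, it acts
trivially. -/
theorem eleven_trivial [Finite W] (he : ∀ v : W, v * v = 1) {σ : Γ} (hσ : σ ^ 11 = 1)
    {I : Subgroup W} (hI : ∀ v ∈ I, ρ σ v = v) (hidx : I.index ≤ 64) (v : W) : ρ σ v = v := by
  classical
  haveI : Fintype W := Fintype.ofFinite W
  haveI : Fact (Nat.Prime 11) := ⟨by norm_num⟩
  -- the elements moved within their coset
  let D : Subgroup W :=
    { carrier := {w | w⁻¹ * ρ σ w ∈ I}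
      one_mem' := by simp
      mul_mem' := fun {a b} ha hb => by
        simp only [Set.mem_setOf_eq, map_mul] at ha hb ⊢
        rw [show (a * b)⁻¹ * (ρ σ a * ρ σ b) = (a⁻¹ * ρ σ a) * (b⁻¹ * ρ σ b) by
          rw [mul_inv]; ac_rfl]
        exact I.mul_mem ha hb
      inv_mem' := fun {a} ha => by
        simp only [Set.mem_setOf_eq, map_inv] at ha ⊢
        rw [show a⁻¹⁻¹ * (ρ σ a)⁻¹ = (a⁻¹ * ρ σ a)⁻¹ by rw [mul_inv]]
        exact I.inv_mem ha }
  have hID : I ≤ D := fun w hw => by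
    show w⁻¹ * ρ σ w ∈ I
    rw [hI w hw, inv_mul_cancel]; exact one_mem I
  have hD : D = ⊤ := by
    have hmap : I.map (ρ σ).toMonoidHom = I := by
      ext w
      exact ⟨fun ⟨u, hu, e⟩ => by rw [← e]; show ρ σ u ∈ I; rw [hI u hu]; exact hu,
        fun hw => ⟨w, hw, hI w hw⟩⟩
    let τ : W ⧸ I ≃* W ⧸ I := QuotientGroup.congr I I (ρ σ) hmap
    haveI : Fintype (W ⧸ I) := Fintype.ofFinite _
    have hit : ∀ (n : ℕ) (w : W),
        ((τ.toEquiv : Equiv.Perm (W ⧸ I)) ^ n) (w : W ⧸ I) = ((ρ (σ ^ n) w : W) : W ⧸ I) := by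
      intro n
      induction n with
      | zero => intro w; rw [pow_zero, pow_zero, map_one]; rfl
      | succ n ih =>
        intro w
        rw [pow_succ', pow_succ', Equiv.Perm.mul_apply, ih, apply_mul]
        rfl
    have hτ : (τ.toEquiv : Equiv.Perm (W ⧸ I)) ^ 11 ^ 1 = 1 := by
      refine Equiv.ext fun q => ?_
      induction q using QuotientGroup.induction_on with
      | H w => rw [pow_one, hit, hσ, map_one]; rfl
    have h := Equiv.Perm.card_compl_support_modEq hτ
    rw [← Nat.card_eq_fintype_card, ← Subgroup.index_eq_card] at h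
    let Dq : Subgroup (W ⧸ I) := D.map (QuotientGroup.mk' I)
    have hDq : Nat.card Dq =
        ((Equiv.Perm.support (τ.toEquiv : Equiv.Perm (W ⧸ I)))ᶜ).card := by
      rw [← Nat.card_eq_finsetCard]
      refine Nat.card_congr (Equiv.subtypeEquivRight fun q => ?_)
      induction q using QuotientGroup.induction_on with
      | H w =>
        rw [Finset.mem_compl, Equiv.Perm.notMem_support]
        show _ ↔ ((ρ σ w : W) : W ⧸ I) = (w : W ⧸ I)
        constructor
        · rintro ⟨u, hu, e⟩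
          rw [← show (u : W ⧸ I) = (w : W ⧸ I) from e]
          have hw : w⁻¹ * ρ σ w ∈ I := by
            have huw : u⁻¹ * w ∈ D := hID (QuotientGroup.eq.1 e)
            have := D.mul_mem hu huw
            rwa [mul_inv_cancel_left] at this
          rw [show (u : W ⧸ I) = (w : W ⧸ I) from e]
          exact (QuotientGroup.eq.2 hw).symm
        · intro e
          exact ⟨w, QuotientGroup.eq.1 e.symm, rfl⟩
    rw [← hDq] at h
    haveI : Fact (Nat.Prime 2) := ⟨Nat.prime_two⟩
    have hp2 : IsPGroup 2 (W ⧸ I) := fun q => ⟨1, by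
      induction q using QuotientGroup.induction_on with
      | H w => rw [← QuotientGroup.mk_pow, pow_one, pow_two, he]; rfl⟩
    obtain ⟨j, hj⟩ := IsPGroup.iff_card.1 hp2
    obtain ⟨i, hi⟩ := IsPGroup.iff_card.1 (hp2.to_subgroup Dq)
    have hle := Subgroup.card_le_card_group Dq
    rw [Subgroup.index_eq_card] at hidx h
    rw [hi, hj] at h hle
    rw [hj] at hidx
    have hij : i ≤ j := (Nat.pow_le_pow_iff_right (by norm_num)).1 hle
    have hj6 : j ≤ 6 := (Nat.pow_le_pow_iff_right (a := 2) (by norm_num)).1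
      (hidx.trans (by norm_num))
    have heq : i = j := by
      interval_cases j <;> interval_cases i <;> first | rfl | (exfalso; revert h; decide)
    have htop : Dq = ⊤ := Subgroup.eq_top_of_card_eq _ (by rw [hi, hj, heq])
    refine eq_top_iff.2 fun w _ => ?_
    have : (w : W ⧸ I) ∈ Dq := htop ▸ Subgroup.mem_top _
    obtain ⟨u, hu, e⟩ := this
    have := D.mul_mem hu (hID (QuotientGroup.eq.1 e))
    rwa [mul_inv_cancel_left] at this
  -- the displacement is fixed, hence of order dividing eleven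
  have hd : v⁻¹ * ρ σ v ∈ I := (hD ▸ Subgroup.mem_top v : v ∈ D)
  set δ := v⁻¹ * ρ σ v with hδ
  have hit : ∀ n : ℕ, ρ (σ ^ n) v = v * δ ^ n := by
    intro n
    induction n with
    | zero => simp
    | succ n ih =>
      rw [pow_succ' σ, apply_mul, ih, map_mul, map_pow, hI δ hd, hδ, pow_succ', ← mul_assoc,
        mul_inv_cancel_left]
  have h := hit 11
  rw [hσ, map_one, MulAut.one_apply, left_eq_mul] at h
  have h2 : δ ^ 11 = δ := by
    rw [show (11 : ℕ) = 2 * 5 + 1 from rfl, pow_succ, pow_mul, pow_two, he, one_pow, one_mul]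
  rw [h2, hδ] at h
  exact (inv_mul_eq_one.1 h).symm

end CfsgLib.JankoFourTwo
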