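import Cfsg.Agent.Lib.JankoFourTwo.Cert

/-!
# The hexad data of M22, in group theoretic form
-/

set_option autoImplicit false

namespace CfsgLib.JankoFourTwo

open Cfsg CfsgLib.Sporadic

/-- An elementary group `A` of order 16 in a Sylow 2-subgroup `S` of a group `M`, with the properties
of the hexad group of M22 that are used. -/
structure Hexad {M : Type*} [Group M] (S A R : Subgroup M) : Prop where
  le : A ≤ S
  card_S : Nat.card S = 128
  card_A : Nat.card A = 16
  sq : ∀ a ∈ A, a * a = 1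
  S_norm : S ≤ Subgroup.normalizer (A : Set M)
  square_out : ∃ x ∈ S, x * x ∉ A
  few : ∀ x ∈ S, x ∉ A → x * x = 1 →
    Nat.card ↥(A ⊓ Subgroup.centralizer ({x} : Set M)) ≤ 4
  card_R : Nat.card R = 9
  R_cube : ∀ r ∈ R, r * r * r = 1
  R_comm : ∀ r ∈ R, ∀ s ∈ R, r * s = s * r
  R_norm : R ≤ Subgroup.normalizer (A : Set M)
  trans : ∀ a ∈ A, a ≠ 1 → ∀ b ∈ A, b ≠ 1 →
    ∃ n ∈ Subgroup.normalizer (A : Set M), n * a * n⁻¹ = b
  closed : ∀ K : Subgroup M, K ≤ A →
    (∀ n ∈ Subgroup.normalizer (A : Set M), (∃ x ∈ K, x ≠ 1 ∧ n * x * n⁻¹ ∈ K) →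
      ∀ y ∈ K, n * y * n⁻¹ ∈ K) →
    (∃ a ∈ K, ∃ b ∈ K, a ≠ 1 ∧ b ≠ 1 ∧ a ≠ b) → A ≤ K
  fuse : ∀ x ∈ S, x ∉ A → ∀ K : Subgroup M, A ≤ K → x ∈ K →
    (∀ n ∈ Subgroup.normalizer (A : Set M), ∀ k ∈ K, n * k * n⁻¹ ∈ K) → ∃ r ∈ R, r ≠ 1 ∧ r ∈ K
  eleven : ∀ t ∈ S, t ≠ 1 → t * t = 1 → ∃ g h : M,
    orderOf (t * (g * t * g⁻¹) * (h * t * h⁻¹)) = 11

theorem valid_facts : listS.all valid = true ∧ serList (serD.take 4) = listS.take 16 ∧
    valid (nS 80) = true ∧ threeD.getD 0 1 = pone := by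
  refine ⟨?_, ?_, ?_, ?_⟩ <;> decide +kernel

theorem valid_nS (i : ℕ) : valid (nS i) = true := by
  rw [nS]
  by_cases hi : i < listS.length
  · rw [List.getD_eq_getElem _ _ hi]
    exact List.all_eq_true.1 valid_facts.1 _ (List.getElem_mem hi)
  · rw [List.getD_eq_default _ _ (not_lt.1 hi)]
    exact valid_pone

theorem length_listS : listS.length = 128 := by
  have h := checks.1
  simp only [sylowOK, Bool.and_eq_true, Nat.beq_eq] at h
  exact h.1.1.1

theorem nodup_listS : listS.Nodup := by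
  have h := checks.1
  simp only [sylowOK, Bool.and_eq_true] at h
  exact distinctOK_spec h.1.1.2

theorem nS_inj {i j : ℕ} (hi : i < 128) (hj : j < 128) (e : elt (nS i) = elt (nS j)) : i = j := by
  have h := eq_of_elt_eq (valid_nS i) (valid_nS j) e
  rw [nS, nS, List.getD_eq_getElem _ _ (length_listS ▸ hi),
    List.getD_eq_getElem _ _ (length_listS ▸ hj)] at h
  exact (nodup_listS.getElem_inj_iff).1 h

theorem nS_zero : elt (nS 0) = 1 := by
  have h : nS 0 = pone := by decide +kernel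
  rw [h, elt_one]

theorem exists_S_A : ∃ S A : Subgroup ↥Spor.M22,
    (∀ x, x ∈ S ↔ ∃ i < 128, elt (nS i) = x) ∧ (∀ x, x ∈ A ↔ ∃ i < 16, elt (nS i) = x) ∧
      Nat.card S = 128 ∧ Nat.card A = 16 := by
  have hl := length_listS
  have h := checks.1
  simp only [sylowOK, Bool.and_eq_true] at h
  obtain ⟨⟨-, hS⟩, hA⟩ := h
  obtain ⟨S, mS, cS⟩ := groupOK_spec hS nodup_listS
  obtain ⟨A, mA, cA⟩ := groupOK_spec hA
    (by rw [valid_facts.2.1]; exact nodup_listS.sublist (List.take_sublist _ _))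
  refine ⟨S, A, fun x => ?_, fun x => ?_, cS.trans hl, ?_⟩
  · rw [mS x]
    constructor
    · rintro ⟨p, hp, rfl⟩
      obtain ⟨i, hi, e⟩ := List.getElem_of_mem (l := listS) hp
      exact ⟨i, hl ▸ hi, by rw [nS, List.getD_eq_getElem _ _ hi, e]⟩
    · rintro ⟨i, hi, rfl⟩
      exact ⟨_, by rw [nS, List.getD_eq_getElem _ _ (hl ▸ hi)]; exact List.getElem_mem _, rfl⟩
  · rw [mA x, valid_facts.2.1]
    constructor
    · rintro ⟨p, hp, rfl⟩
      obtain ⟨i, hi, e⟩ := List.getElem_of_mem hp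
      rw [List.length_take] at hi
      rw [List.getElem_take] at e
      exact ⟨i, by omega, by rw [nS, List.getD_eq_getElem _ _ (by omega), e]⟩
    · rintro ⟨i, hi, rfl⟩
      refine ⟨nS i, ?_, rfl⟩
      rw [List.mem_take_iff_getElem]
      exact ⟨i, by omega, by rw [nS, List.getD_eq_getElem _ _ (by omega)]⟩
  · rw [cA, valid_facts.2.1, List.length_take, hl]
    norm_num

theorem mul_xor {i j : ℕ} (hi : i < 16) (hj : j < 16) :
    elt (nS i) * elt (nS j) = elt (nS (Nat.xor i j)) := by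
  have h := forallLt_elim (forallLt_elim checks.2.1 hi) hj
  exact elt_mul (valid_nS _) (valid_nS _) (valid_nS _) (Nat.eq_of_beq_eq_true h)

theorem inv_nS {i : ℕ} (hi : i < 16) : (elt (nS i))⁻¹ = elt (nS i) := by
  refine inv_eq_of_mul_eq_one_left ?_
  rw [mul_xor hi hi, show Nat.xor i i = 0 from Nat.xor_self i, nS_zero]

theorem mul_coset {k i : ℕ} (hk : k < 8) (hi : i < 16) :
    elt (nS (16 * k + i)) = elt (nS (16 * k)) * elt (nS i) := by
  have h := forallLt_elim (forallLt_elim checks.2.2.1 hk) hi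
  exact (elt_mul (valid_nS _) (valid_nS _) (valid_nS _) (Nat.eq_of_beq_eq_true h).symm).symm

/-- Membership in the normaliser from the images of the sixteen elements. -/
theorem mem_normalizer_A {A : Subgroup ↥Spor.M22} (mA : ∀ x, x ∈ A ↔ ∃ i < 16, elt (nS i) = x)
    {g : ↥Spor.M22} (h : ∀ i < 16, ∃ j < 16, g * elt (nS i) = elt (nS j) * g) :
    g ∈ Subgroup.normalizer (A : Set ↥Spor.M22) := by
  haveI : Finite ↥(A : Set ↥Spor.M22) := Subtype.finite
  refine Subgroup.mem_normalizer_iff_map_conj_eq.2 (Subgroup.eq_of_le_of_card_ge ?_ ?_)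
  · rintro _ ⟨x, hx, rfl⟩
    obtain ⟨i, hi, rfl⟩ := (mA x).1 hx
    obtain ⟨j, hj, e⟩ := h i hi
    refine (mA _).2 ⟨j, hj, ?_⟩
    show elt (nS j) = g * elt (nS i) * g⁻¹
    rw [e]; group
  · rw [Subgroup.card_map_of_injective (MulAut.conj g).injective]

theorem exists_of_inList {g m : ℕ}
    (h : inList (pmul g (nS m)) ((listS.take 16).map (fun b => pmul b g)) = true) :
    ∃ j < 16, pmul g (nS m) = pmul (nS j) g := by
  rw [inList_iff, List.mem_map] at h
  obtain ⟨b, hb, e⟩ := h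
  rw [List.mem_take_iff_getElem] at hb
  obtain ⟨j, hj, rfl⟩ := hb
  rw [length_listS] at *
  refine ⟨j, by omega, e.symm.trans (congrArg (fun u => pmul u g) ?_)⟩
  exact (List.getD_eq_getElem _ _ (by rw [length_listS]; omega)).symm

theorem normD_spec {A : Subgroup ↥Spor.M22} (mA : ∀ x, x ∈ A ↔ ∃ i < 16, elt (nS i) = x) {g : ℕ}
    (hg : g < normD.length) :
    valid (normD.getD g (0, [])).1 = true ∧
    elt (normD.getD g (0, [])).1 ∈ Subgroup.normalizer (A : Set ↥Spor.M22) ∧
    ∀ i < 16, act g i < 16 ∧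
      elt (normD.getD g (0, [])).1 * elt (nS i) * (elt (normD.getD g (0, [])).1)⁻¹ =
        elt (nS (act g i)) := by
  have h := checks.2.2.2.2.2.1
  simp only [normOK, List.all_eq_true, Bool.and_eq_true, forallLt_iff, Nat.blt_eq, Nat.beq_eq] at h
  have hm : normD.getD g (0, []) ∈ normD := by
    rw [List.getD_eq_getElem _ _ hg]; exact List.getElem_mem _
  obtain ⟨hv, hi⟩ := h _ hm
  have key : ∀ i < 16, act g i < 16 ∧ elt (normD.getD g (0, [])).1 * elt (nS i) =
      elt (nS (act g i)) * elt (normD.getD g (0, [])).1 := by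
    intro i hi'
    obtain ⟨h1, h2⟩ := hi i hi'
    refine ⟨?_, elt_mul_eq hv (valid_nS _) (valid_nS _) hv h2⟩
    have hl : i < (normD.getD g (0, [])).2.length := by
      by_contra hc
      rw [List.getD_eq_default _ _ (not_lt.1 hc)] at h1
      omega
    rw [List.getD_eq_getElem _ _ hl] at h1
    rw [act, List.getD_eq_getElem _ _ hl]
    exact h1
  exact ⟨hv, mem_normalizer_A mA fun i hi' => ⟨_, key i hi'⟩,
    fun i hi' => ⟨(key i hi').1, by rw [(key i hi').2]; group⟩⟩

theorem orbRun_spec {A : Subgroup ↥Spor.M22} (mA : ∀ x, x ∈ A ↔ ∃ i < 16, elt (nS i) = x) :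
    ∀ (os : List (ℕ × ℕ)) (X : List ℕ),
      (∀ i ∈ X, i < 16 ∧ ∃ n ∈ Subgroup.normalizer (A : Set ↥Spor.M22),
        n * elt (nS 1) * n⁻¹ = elt (nS i)) →
      ∀ i ∈ orbRun os X, i < 16 ∧ ∃ n ∈ Subgroup.normalizer (A : Set ↥Spor.M22),
        n * elt (nS 1) * n⁻¹ = elt (nS i) := by
  intro os
  induction os with
  | nil => exact fun X h => h
  | cons o os ih =>
    intro X h i hi
    rw [show orbRun (o :: os) X = cond (Nat.blt o.1 normD.length && inList o.2 X)
      (orbRun os (act o.1 o.2 :: X)) [] from rfl] at hi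
    cases hc : Nat.blt o.1 normD.length && inList o.2 X with
    | false => rw [hc] at hi; simp at hi
    | true =>
      rw [hc] at hi
      rw [Bool.and_eq_true, Nat.blt_eq, inList_iff] at hc
      obtain ⟨-, hn, hall⟩ := normD_spec mA hc.1
      obtain ⟨hlt, n, hn', e⟩ := h _ hc.2
      refine ih _ (fun j hj => ?_) i hi
      rcases List.mem_cons.1 hj with rfl | hj
      · refine ⟨(hall _ hlt).1, _, mul_mem hn hn', ?_⟩
        rw [← (hall _ hlt).2, ← e]; group
      · exact h j hj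

theorem cloRun_spec {A : Subgroup ↥Spor.M22} (mA : ∀ x, x ∈ A ↔ ∃ i < 16, elt (nS i) = x)
    (K : Subgroup ↥Spor.M22)
    (hK : ∀ n ∈ Subgroup.normalizer (A : Set ↥Spor.M22), (∃ x ∈ K, x ≠ 1 ∧ n * x * n⁻¹ ∈ K) →
      ∀ y ∈ K, n * y * n⁻¹ ∈ K) :
    ∀ (os : List (ℕ × ℕ × ℕ × ℕ)) (X : List ℕ), (∀ i ∈ X, i < 16 ∧ elt (nS i) ∈ K) →
      ∀ i ∈ cloRun os X, i < 16 ∧ elt (nS i) ∈ K := by
  intro os
  induction os with
  | nil => exact fun X h => h
  | cons o os ih =>
    intro X h i hi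
    rw [show cloRun (o :: os) X = cond (Nat.beq o.1 0)
      (cond (inList o.2.2.1 X && inList o.2.2.2 X) (cloRun os (Nat.xor o.2.2.1 o.2.2.2 :: X)) [])
      (cond (Nat.blt o.2.1 normD.length && Nat.blt 0 o.2.2.1 && inList o.2.2.1 X &&
          inList (act o.2.1 o.2.2.1) X && inList o.2.2.2 X)
        (cloRun os (act o.2.1 o.2.2.2 :: X)) []) from rfl] at hi
    cases hz : Nat.beq o.1 0 with
    | true =>
      rw [hz, cond_true] at hi
      cases hc : inList o.2.2.1 X && inList o.2.2.2 X with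
      | false => rw [hc] at hi; simp at hi
      | true =>
        rw [hc, cond_true] at hi
        rw [Bool.and_eq_true, inList_iff, inList_iff] at hc
        refine ih _ (fun j hj => ?_) i hi
        rcases List.mem_cons.1 hj with rfl | hj
        · refine ⟨Nat.xor_lt_two_pow (n := 4) (h _ hc.1).1 (h _ hc.2).1, ?_⟩
          rw [← mul_xor (h _ hc.1).1 (h _ hc.2).1]
          exact mul_mem (h _ hc.1).2 (h _ hc.2).2
        · exact h j hj
    | false =>
      rw [hz, cond_false] at hi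
      cases hc : Nat.blt o.2.1 normD.length && Nat.blt 0 o.2.2.1 && inList o.2.2.1 X &&
          inList (act o.2.1 o.2.2.1) X && inList o.2.2.2 X with
      | false => rw [hc] at hi; simp at hi
      | true =>
        rw [hc, cond_true] at hi
        simp only [Bool.and_eq_true, Nat.blt_eq, inList_iff] at hc
        obtain ⟨⟨⟨⟨hg, h0⟩, hx⟩, hgx⟩, hy⟩ := hc
        obtain ⟨-, hn, hall⟩ := normD_spec mA hg
        refine ih _ (fun j hj => ?_) i hi
        rcases List.mem_cons.1 hj with rfl | hj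
        · refine ⟨(hall _ (h _ hy).1).1, ?_⟩
          rw [← (hall _ (h _ hy).1).2]
          have hb0 : elt (nS o.2.2.1) ≠ 1 := fun e => by
            have := nS_inj (i := o.2.2.1) (j := 0) (by linarith [(h _ hx).1]) (by norm_num)
              (e.trans nS_zero.symm)
            omega
          exact hK _ hn ⟨_, (h _ hx).2, hb0, (hall _ (h _ hx).1).2 ▸ (h _ hgx).2⟩ _ (h _ hy).2
        · exact h j hj

theorem wordProd_spec (w : List (ℕ × ℕ)) (hw : ∀ e ∈ w, valid e.2 = true) :
    ∀ σ : Equiv.Perm GolayPt, σ = ((w.map fun e => elt e.2).prod : ↥Spor.M22) →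
      Rep σ (wordProd w) := by
  induction w with
  | nil => intro σ h; rw [h]; exact Rep.one
  | cons e w ih =>
    intro σ h
    rw [h, List.map_cons, List.prod_cons, Subgroup.coe_mul]
    exact (rep_elt (hw e List.mem_cons_self)).mul
      (ih (fun a ha => hw a (List.mem_cons_of_mem _ ha)) _ rfl)

theorem threeD_spec : ∃ R : Subgroup ↥Spor.M22, Nat.card R = 9 ∧
    (∀ x, x ∈ R ↔ ∃ i < 9, elt (threeD.getD i pone) = x) := by
  classical
  have h := checks.2.2.2.2.2.2.1
  simp only [threeOK, Bool.and_eq_true, Nat.beq_eq, forallLt_iff] at h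
  obtain ⟨⟨⟨⟨hl, hd⟩, hv⟩, hm⟩, -⟩ := h
  have hn := distinctOK_spec hd
  have hv' : ∀ i, valid (threeD.getD i pone) = true := fun i => by
    by_cases hi : i < threeD.length
    · rw [List.getD_eq_getElem _ _ hi]; exact List.all_eq_true.1 hv _ (List.getElem_mem hi)
    · rw [List.getD_eq_default _ _ (not_lt.1 hi)]; exact valid_pone
  have h1 : elt (threeD.getD 0 pone) = 1 := by
    rw [show threeD.getD 0 pone = pone by decide +kernel, elt_one]
  let M : Submonoid ↥Spor.M22 :=
    { carrier := {x | ∃ i < 9, elt (threeD.getD i pone) = x}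
      one_mem' := ⟨0, by norm_num, h1⟩
      mul_mem' := by
        rintro _ _ ⟨i, hi, rfl⟩ ⟨j, hj, rfl⟩
        exact ⟨_, by omega, (elt_mul (hv' _) (hv' _) (hv' _) (hm i hi j hj)).symm⟩ }
  let R : Subgroup ↥Spor.M22 :=
    { M with
      inv_mem' := by
        intro x hx
        obtain ⟨n, hn⟩ := (isOfFinOrder_of_finite x).mem_powers_iff_mem_zpowers.2
          (Subgroup.inv_mem _ (Subgroup.mem_zpowers x))
        exact hn ▸ pow_mem (show x ∈ M from hx) n }
  refine ⟨R, ?_, fun x => Iff.rfl⟩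
  have e : (R : Set ↥Spor.M22) = Set.range fun i : Fin 9 => elt (threeD.getD i pone) := by
    ext x
    constructor
    · rintro ⟨i, hi, hx⟩
      exact ⟨⟨i, hi⟩, hx⟩
    · rintro ⟨i, hx⟩
      exact ⟨i.1, i.2, hx⟩
  show Nat.card ↥(R : Set ↥Spor.M22) = 9
  rw [e, Nat.card_range_of_injective, Nat.card_eq_fintype_card, Fintype.card_fin]
  intro i j e
  have e := eq_of_elt_eq (hv' _) (hv' _) e
  rw [List.getD_eq_getElem _ _ (by omega), List.getD_eq_getElem _ _ (by omega)] at e
  exact Fin.ext ((hn.getElem_inj_iff).1 e)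

theorem exists_hexad : ∃ S A R : Subgroup ↥Spor.M22, Hexad S A R := by
  classical
  obtain ⟨S, A, mS, mA, cS, cA⟩ := exists_S_A
  obtain ⟨R, cR, mR⟩ := threeD_spec
  have hact := checks.2.2.2.1
  simp only [actOK, forallLt_iff, Bool.and_eq_true] at hact
  have hle : A ≤ S := fun x hx => by
    obtain ⟨i, hi, e⟩ := (mA x).1 hx
    exact (mS x).2 ⟨i, by omega, e⟩
  have hthree := checks.2.2.2.2.2.2.1
  simp only [threeOK, Bool.and_eq_true, Nat.beq_eq, List.all_eq_true, forallLt_iff] at hthree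
  obtain ⟨⟨⟨⟨hl, -⟩, hv⟩, -⟩, h3⟩ := hthree
  have hmem : ∀ i < 9, threeD.getD i pone ∈ threeD := fun i hi => by
    rw [List.getD_eq_getElem _ _ (hl.symm ▸ hi)]; exact List.getElem_mem _
  have hv' : ∀ i < 9, valid (threeD.getD i pone) = true := fun i hi => hv _ (hmem i hi)
  have hA1 : ∀ a ∈ A, a ≠ 1 → ∃ i, 0 < i ∧ i < 16 ∧ elt (nS i) = a := fun a ha h1 => by
    obtain ⟨i, hi, rfl⟩ := (mA a).1 ha
    refine ⟨i, Nat.pos_of_ne_zero fun h0 => h1 ?_, hi, rfl⟩
    rw [h0, nS_zero]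
  have horb : ∀ i, 0 < i → i < 16 → ∃ n ∈ Subgroup.normalizer (A : Set ↥Spor.M22),
      n * elt (nS 1) * n⁻¹ = elt (nS i) := fun i h0 hi => by
    have h := checks.2.2.2.2.2.2.2.1
    simp only [orbitOK, Bool.and_eq_true, forallLt_iff, inList_iff] at h
    have hm := h.1 (i - 1) (by omega)
    rw [show i - 1 + 1 = i by omega] at hm
    refine (orbRun_spec mA orbD [1] (fun j hj => ?_) i hm).2
    rw [List.mem_singleton.1 hj]
    exact ⟨by norm_num, 1, one_mem _, by group⟩
  refine ⟨S, A, R, hle, cS, cA, ?_, ?_, ?_, ?_, cR, ?_, ?_, ?_, ?_, ?_, ?_, ?_⟩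
  · rintro a ha
    obtain ⟨i, hi, rfl⟩ := (mA a).1 ha
    nth_rw 1 [← inv_nS hi]
    exact inv_mul_cancel _
  · intro x hx
    obtain ⟨m, hm, rfl⟩ := (mS x).1 hx
    refine mem_normalizer_A mA fun i hi => ?_
    obtain ⟨j, hj, e⟩ := exists_of_inList ((hact m hm).1 i hi)
    exact ⟨j, hj, elt_mul_eq (valid_nS _) (valid_nS _) (valid_nS _) (valid_nS _) e⟩
  · refine ⟨elt (nS 80), (mS _).2 ⟨80, by norm_num, rfl⟩, fun hc => ?_⟩
    have h := checks.2.2.2.2.1
    rw [squareOK, Bool.not_eq_true'] at h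
    obtain ⟨j, hj, e⟩ := (mA _).1 hc
    have e2 : pmul (nS 80) (nS 80) = nS j := by
      have hv80 : valid (pmul (nS 80) (nS 80)) = true := by decide +kernel
      refine eq_of_elt_eq hv80 (valid_nS j) ?_
      rw [← elt_mul (valid_nS 80) (valid_nS 80) hv80 rfl, e]
    have : inList (pmul (nS 80) (nS 80)) (listS.take 16) = true := by
      rw [inList_iff, e2, List.mem_take_iff_getElem]
      have := length_listS
      exact ⟨j, by omega, by rw [nS, List.getD_eq_getElem _ _ (by omega)]⟩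
    rw [h] at this
    exact Bool.noConfusion this
  · intro x hx hxA hx2
    obtain ⟨m, hm, rfl⟩ := (mS x).1 hx
    have h16 : ¬ m < 16 := fun h => hxA ((mA _).2 ⟨m, h, rfl⟩)
    have hb := (hact m hm).2
    simp only [Bool.or_eq_true, Nat.blt_eq, Bool.not_eq_true', Nat.ble_eq, countLt_eq] at hb
    rcases hb with (h | h) | h
    · exact absurd h h16
    · exfalso
      have e : pmul (nS m) (nS m) = pone := by
        have hr := ((rep_elt (valid_nS m)).mul (rep_elt (valid_nS m)))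
        have hcan : pmul (pmul (nS m) (nS m)) pone = pone := by
          rw [pmul_packImage hr Rep.one, mul_one, ← Subgroup.coe_mul, hx2]
          exact (pmul_packImage Rep.one Rep.one).symm.trans (by decide +kernel)
        have hid : pmul (pmul (nS m) (nS m)) pone = pmul (nS m) (nS m) := by
          rw [pmul_packImage hr Rep.one, pmul_packImage (rep_elt (valid_nS m)) (rep_elt (valid_nS m)),
            mul_one]
        rw [← hid, hcan]
      simp [e] at h
    · refine le_trans ?_ h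
      set F := (Finset.range 16).filter fun i =>
        Nat.beq (pmul (nS m) (nS i)) (pmul (nS i) (nS m)) = true
      have hsub : ((A ⊓ Subgroup.centralizer ({elt (nS m)} : Set ↥Spor.M22) : Subgroup _) :
          Set ↥Spor.M22) ⊆ ↑(F.image fun i => elt (nS i)) := by
        rintro y ⟨hy, hyc⟩
        obtain ⟨i, hi, rfl⟩ := (mA y).1 hy
        simp only [Finset.coe_image, Set.mem_image, Finset.mem_coe]
        refine ⟨i, ?_, rfl⟩
        rw [Finset.mem_filter, Finset.mem_range, Nat.beq_eq]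
        refine ⟨hi, ?_⟩
        have hc : elt (nS m) * elt (nS i) = elt (nS i) * elt (nS m) :=
          (Subgroup.mem_centralizer_singleton_iff.1 hyc).symm
        have hc' := congrArg (fun u : ↥Spor.M22 => (u : Equiv.Perm GolayPt)) hc
        rw [pmul_packImage (rep_elt (valid_nS m)) (rep_elt (valid_nS i)),
          pmul_packImage (rep_elt (valid_nS i)) (rep_elt (valid_nS m))]
        exact congrArg packImage hc'
      have hcard := Set.ncard_le_ncard hsub (Finset.finite_toSet _)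
      rw [Set.ncard_coe_finset] at hcard
      exact le_trans (le_of_eq (Nat.card_coe_set_eq _)) (hcard.trans Finset.card_image_le)
  · intro r hr
    obtain ⟨i, hi, rfl⟩ := (mR r).1 hr
    have h := ((h3 _ (hmem i hi)).1).1
    have e := ((rep_elt (hv' i hi)).mul (rep_elt (hv' i hi))).mul (rep_elt (hv' i hi))
    rw [h] at e
    exact Subtype.ext (e.unique Rep.one)
  · intro r hr s hs
    obtain ⟨i, hi, rfl⟩ := (mR r).1 hr
    obtain ⟨j, hj, rfl⟩ := (mR s).1 hs
    exact elt_mul_eq (hv' i hi) (hv' j hj) (hv' j hj) (hv' i hi) ((h3 _ (hmem i hi)).1.2 _ (hmem j hj))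
  · intro r hr
    obtain ⟨i, hi, rfl⟩ := (mR r).1 hr
    refine mem_normalizer_A mA fun k hk => ?_
    obtain ⟨j, hj, e⟩ := exists_of_inList ((h3 _ (hmem i hi)).2 k hk)
    exact ⟨j, hj, elt_mul_eq (hv' i hi) (valid_nS _) (valid_nS _) (hv' i hi) e⟩
  · intro a ha ha1 b hb hb1
    obtain ⟨i, hi0, hi, rfl⟩ := hA1 a ha ha1
    obtain ⟨j, hj0, hj, rfl⟩ := hA1 b hb hb1
    obtain ⟨n, hn, e⟩ := horb i hi0 hi
    obtain ⟨k, hk, e'⟩ := horb j hj0 hj
    exact ⟨k * n⁻¹, mul_mem hk (inv_mem hn), by rw [← e, ← e']; group⟩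
  · intro K hKA hK ⟨a, ha, b, hb, ha1, hb1, hab⟩
    obtain ⟨i, hi0, hi, rfl⟩ := hA1 a (hKA ha) ha1
    obtain ⟨n, hn, e⟩ := horb i hi0 hi
    -- move the first element to the base point
    let K' := K.map (MulAut.conj n⁻¹).toMonoidHom
    have mK' : ∀ x, x ∈ K' ↔ n * x * n⁻¹ ∈ K := fun x => by
      constructor
      · rintro ⟨y, hy, rfl⟩
        show n * (n⁻¹ * y * n⁻¹⁻¹) * n⁻¹ ∈ K
        simpa [mul_assoc] using hy
      · exact fun hx => ⟨_, hx, by show n⁻¹ * (n * x * n⁻¹) * n⁻¹⁻¹ = x; group⟩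
    have hK' : ∀ g ∈ Subgroup.normalizer (A : Set ↥Spor.M22),
        (∃ x ∈ K', x ≠ 1 ∧ g * x * g⁻¹ ∈ K') → ∀ y ∈ K', g * y * g⁻¹ ∈ K' := by
      rintro g hg ⟨x, hx, hx1, hgx⟩ y hy
      rw [mK'] at hx hgx hy ⊢
      have h := hK (n * g * n⁻¹) (mul_mem (mul_mem hn hg) (inv_mem hn))
        ⟨n * x * n⁻¹, hx, fun h => hx1 (conj_eq_one_iff.1 h), by
          convert hgx using 1; group⟩ _ hy
      convert h using 1; group
    obtain ⟨j, hj, ej⟩ := (mA _).1
      ((Subgroup.mem_normalizer_iff.1 (inv_mem hn) b).1 (hKA hb))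
    have hj2 : 2 ≤ j := by
      rw [inv_inv] at ej
      by_contra hc
      rcases (show j = 0 ∨ j = 1 by omega) with rfl | rfl
      · rw [nS_zero] at ej
        exact hb1 (by calc b = n * (n⁻¹ * b * n) * n⁻¹ := by group
                      _ = 1 := by rw [← ej]; group)
      · exact hab (by rw [← e, ej]; group)
    have h := checks.2.2.2.2.2.2.2.1
    simp only [orbitOK, Bool.and_eq_true, forallLt_iff, inList_iff] at h
    have hin : ∀ k ∈ [1, j - 2 + 2], k < 16 ∧ elt (nS k) ∈ K' := by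
      intro k hk
      simp only [List.mem_cons, List.not_mem_nil, or_false] at hk
      rcases hk with rfl | rfl
      · exact ⟨by norm_num, (mK' _).2 (by rw [e]; exact ha)⟩
      · refine ⟨by omega, (mK' _).2 ?_⟩
        rw [show j - 2 + 2 = j by omega, ej, inv_inv]
        convert hb using 1; group
    intro x hx
    obtain ⟨k, hk, ek⟩ := (mA _).1 ((Subgroup.mem_normalizer_iff.1 (inv_mem hn) x).1 hx)
    rw [inv_inv] at ek
    have hkK : elt (nS k) ∈ K' := by
      rcases Nat.eq_zero_or_pos k with rfl | h0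
      · rw [nS_zero]; exact one_mem _
      · have hm := h.2 (j - 2) (by omega) (k - 1) (by omega)
        rw [show k - 1 + 1 = k by omega] at hm
        exact (cloRun_spec mA K' hK' _ _ hin k hm).2
    rw [mK', ek] at hkK
    convert hkK using 1; group
  · intro x hx hxA K hAK hxK hK
    obtain ⟨m, hm, rfl⟩ := (mS x).1 hx
    have h16 : 16 ≤ m := not_lt.1 fun h => hxA ((mA _).2 ⟨m, h, rfl⟩)
    have hm' : elt (nS m) = elt (nS (16 * (m / 16))) * elt (nS (m % 16)) := by
      rw [← mul_coset (by omega) (Nat.mod_lt _ (by norm_num)), Nat.div_add_mod]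
    have hrep : elt (nS (16 * (m / 16 - 1 + 1))) ∈ K := by
      rw [show m / 16 - 1 + 1 = m / 16 by omega]
      rw [show elt (nS (16 * (m / 16))) = elt (nS m) * (elt (nS (m % 16)))⁻¹ by rw [hm']; group]
      exact mul_mem hxK (inv_mem (hAK ((mA _).2 ⟨_, Nat.mod_lt _ (by norm_num), rfl⟩)))
    have hf := checks.2.2.2.2.2.2.2.2.1
    rw [fuseOK, forallLt_iff] at hf
    have hf := hf (m / 16 - 1) (by omega)
    rcases hd : fuseD.getD (m / 16 - 1) ([], 16, 0) with ⟨w, i, j⟩
    rw [hd] at hf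
    simp only [Bool.and_eq_true, Nat.blt_eq, List.all_eq_true, Nat.beq_eq,
      Bool.not_eq_true'] at hf
    obtain ⟨⟨⟨⟨⟨⟨hi, hj0⟩, hj⟩, hw⟩, hvw⟩, hprod⟩, hne⟩ := hf
    refine ⟨elt (threeD.getD j pone), (mR _).2 ⟨j, hj, rfl⟩, fun e => ?_, ?_⟩
    · rw [eq_of_elt_eq (hv' j hj) valid_pone (e.trans elt_one.symm)] at hne
      simp at hne
    · have hmemK : (w.map fun e => elt e.2).prod ∈ K := by
        refine list_prod_mem fun y hy => ?_
        obtain ⟨e, he, rfl⟩ := List.mem_map.1 hy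
        obtain ⟨⟨hg, hv2⟩, hc⟩ := hw e he
        obtain ⟨hv1, hn, -⟩ := normD_spec mA hg
        have e2 := elt_mul_eq hv1 (valid_nS _) hv2 hv1 hc
        have := hK _ hn _ hrep
        rw [e2] at this
        convert this using 1; group
      have hp : (w.map fun e => elt e.2).prod = elt (nS i) * elt (threeD.getD j pone) := by
        refine Subtype.ext ((wordProd_spec w (fun e he => ((hw e he).1).2) _ rfl).unique ?_)
        rw [hprod]
        exact (rep_elt (valid_nS i)).mul (rep_elt (hv' j hj))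
      rw [hp] at hmemK
      exact (K.mul_mem_cancel_left (hAK ((mA _).2 ⟨i, hi, rfl⟩))).1 hmemK
  · intro t ht ht1 ht2
    obtain ⟨m, hm, rfl⟩ := (mS t).1 ht
    have h := checks.2.2.2.2.2.2.2.2.2
    simp only [elevenOK, Bool.and_eq_true, forallLt_iff, List.all_eq_true, Bool.or_eq_true,
      List.any_eq_true, Nat.beq_eq, Bool.not_eq_true'] at h
    have hne : m ≠ 0 := fun h0 => ht1 (by rw [h0, nS_zero])
    rcases h.1 m hm with (h0 | h0) | ⟨e, he, hem⟩
    · exact absurd h0 hne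
    · exfalso
      have e : pmul (nS m) (nS m) = pone := by
        rw [pmul_packImage (rep_elt (valid_nS m)) (rep_elt (valid_nS m)), ← Subgroup.coe_mul, ht2,
          Subgroup.coe_one]
        exact (pmul_packImage Rep.one Rep.one).symm.trans (by decide +kernel)
      simp [e] at h0
    · obtain ⟨m', g, c, k, d⟩ := e
      have h2 := h.2 _ he
      simp only [Bool.and_eq_true, Nat.beq_eq, Bool.not_eq_true'] at h2 hem
      obtain ⟨⟨⟨⟨⟨⟨⟨⟨hvg, hvc⟩, hvk⟩, hvd⟩, hgc⟩, hkd⟩, hvu⟩, h11⟩, hu1⟩ := h2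
      subst hem
      refine ⟨elt g, elt k, ?_⟩
      have e1 : elt g * elt (nS m') * (elt g)⁻¹ = elt c := by
        rw [elt_mul_eq hvg (valid_nS _) hvc hvg hgc]; group
      have e2 : elt k * elt (nS m') * (elt k)⁻¹ = elt d := by
        rw [elt_mul_eq hvk (valid_nS _) hvd hvk hkd]; group
      rw [e1, e2]
      set u := pmul (pmul (nS m') c) d
      have hu : elt (nS m') * elt c * elt d = elt u :=
        (elt_unique hvu (((rep_elt (valid_nS m')).mul (rep_elt hvc)).mul (rep_elt hvd))).symm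
      rw [hu]
      haveI := Fact.mk (show Nat.Prime 11 by norm_num)
      refine orderOf_eq_prime (Subtype.ext ?_) fun e => ?_
      · rw [Subgroup.coe_pow, Subgroup.coe_one]
        have hr := rep_pow (rep_elt hvu) 11
        rw [h11] at hr
        exact hr.unique Rep.one
      · rw [eq_of_elt_eq hvu valid_pone (e.trans elt_one.symm)] at hu1
        simp at hu1

end CfsgLib.JankoFourTwo
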