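import Cfsg.Agent.Lib.JankoFourTwo.Fixed
import Cfsg.Agent.Lib.JankoFourTwo.Hexad

/-!
# A triple cover of M22, extended by a semilinear involution, acting on an elementary 2^12

The elementary abelian subgroups of order 16 of a Sylow 2-subgroup with a large fixed subgroup:
only the lift of the hexad group.
-/

set_option autoImplicit false

namespace CfsgLib.JankoFourTwo

variable {Γ W M : Type*} [Group Γ] [CommGroup W] [Group M]

/-- The acting group: `p` is fixed-point-free of order three, its centralizer maps onto `M` with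
kernel generated by `p`, the other elements invert it, and `p` is a product of commutators of its
centralizer. -/
structure Acting (ρ : Γ →* MulAut W) (p : Γ)
    (ψ : ↥(Subgroup.centralizer ({p} : Set Γ)) →* M) : Prop where
  card_W : Nat.card W = 4096
  exp_W : ∀ v : W, v * v = 1
  inj : Function.Injective ρ
  cube : p ^ 3 = 1
  ne_one : p ≠ 1
  free : ∀ v : W, ρ p v = v → v = 1
  inverts : ∀ g : Γ, g ∉ Subgroup.centralizer ({p} : Set Γ) → g * p * g⁻¹ = p⁻¹
  surj : Function.Surjective ψ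
  ker : ∀ l, ψ l = 1 ↔ (l : Γ) ∈ Subgroup.zpowers p
  perfect : (⟨p, Subgroup.mem_centralizer_singleton_iff.2 rfl⟩ :
    ↥(Subgroup.centralizer ({p} : Set Γ))) ∈ commutator ↥(Subgroup.centralizer ({p} : Set Γ))

namespace Acting

variable {ρ : Γ →* MulAut W} {p : Γ} {ψ : ↥(Subgroup.centralizer ({p} : Set Γ)) →* M}
  (h : Acting ρ p ψ) {S A R : Subgroup M} (hx : Hexad S A R)
include h

theorem comm (l : ↥(Subgroup.centralizer ({p} : Set Γ))) : (l : Γ) * p = p * l :=
  Subgroup.mem_centralizer_singleton_iff.1 l.2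

theorem finite_W : Finite W := Nat.finite_of_card_ne_zero (by rw [h.card_W]; norm_num)

theorem mem_zpowers {g : Γ} (hg : g ∈ Subgroup.zpowers p) : g = 1 ∨ g = p ∨ g = p * p := by
  obtain ⟨k, rfl⟩ := Subgroup.mem_zpowers_iff.1 hg
  have hk : p ^ k = p ^ (k % 3) := by
    conv_lhs => rw [← Int.emod_add_mul_ediv k 3]
    rw [zpow_add, zpow_mul, show p ^ (3 : ℤ) = 1 from by exact_mod_cast h.cube, one_zpow, mul_one]
  have h0 := Int.emod_nonneg k (by norm_num : (3 : ℤ) ≠ 0)
  have h1 := Int.emod_lt_of_pos k (by norm_num : (0 : ℤ) < 3)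
  rcases (show k % 3 = 0 ∨ k % 3 = 1 ∨ k % 3 = 2 by omega) with e | e | e <;> rw [hk, e]
  · exact Or.inl (zpow_zero _)
  · exact Or.inr (Or.inl (zpow_one _))
  · exact Or.inr (Or.inr (by rw [show (2 : ℤ) = ((2 : ℕ) : ℤ) from rfl, zpow_natCast, pow_two]))

/-- Two square roots of one in the centralizer with the same image are equal. -/
theorem lift_unique {l l' : ↥(Subgroup.centralizer ({p} : Set Γ))} (hl : l * l = 1)
    (hl' : l' * l' = 1) (e : ψ l = ψ l') : l = l' := by
  set d := l * l'⁻¹ with hd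
  have hk : (d : Γ) ∈ Subgroup.zpowers p :=
    (h.ker d).1 (by rw [hd, map_mul, map_inv, e, mul_inv_cancel])
  have hl2 : l = d * l' := by rw [hd, inv_mul_cancel_right]
  obtain ⟨k, hk⟩ := Subgroup.mem_zpowers_iff.1 hk
  have hcomm : Commute (d : Γ) (l' : Γ) := by
    rw [← hk]
    exact Commute.zpow_left (h.comm l').symm k
  have hdd : (d : Γ) ^ 2 = 1 := by
    have h1 : ((l : Γ)) ^ 2 = 1 := by rw [pow_two, ← Subgroup.coe_mul, hl, Subgroup.coe_one]
    have h2 : ((l' : Γ)) ^ 2 = 1 := by rw [pow_two, ← Subgroup.coe_mul, hl', Subgroup.coe_one]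
    rw [hl2, Subgroup.coe_mul, hcomm.mul_pow, h2, mul_one] at h1
    exact h1
  have hd3 : (d : Γ) ^ 3 = 1 := by
    rw [← hk, ← zpow_natCast, ← zpow_mul, mul_comm, zpow_mul, zpow_natCast, h.cube, one_zpow]
  have hd1 : (d : Γ) = 1 := by rwa [pow_succ, hdd, one_mul] at hd3
  rw [hl2, show d = 1 from Subtype.ext hd1, one_mul]

theorem lift_exists {m : M} (hm : m * m = 1) :
    ∃ l : ↥(Subgroup.centralizer ({p} : Set Γ)), l * l = 1 ∧ ψ l = m := by
  obtain ⟨l, hl⟩ := h.surj m
  refine ⟨l * l * l, ?_, by rw [map_mul, map_mul, hl, hm, one_mul]⟩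
  have hk := (h.ker (l * l)).1 (by rw [map_mul, hl, hm])
  obtain ⟨k, hk⟩ := Subgroup.mem_zpowers_iff.1 hk
  have h3 : (l * l) ^ 3 = 1 := Subtype.ext (by
    rw [Subgroup.coe_pow, ← hk, ← zpow_natCast, ← zpow_mul, mul_comm, zpow_mul, zpow_natCast, h.cube,
      one_zpow, Subgroup.coe_one])
  rw [← h3]; simp only [pow_succ, pow_zero, one_mul, mul_assoc]

/-- The lift of the hexad group. -/
def lift (_h : Acting ρ p ψ) (A : Subgroup M) : Set Γ :=
  {g | ∃ hg : g ∈ Subgroup.centralizer ({p} : Set Γ), g * g = 1 ∧ ψ ⟨g, hg⟩ ∈ A}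

theorem apply_comm (l : ↥(Subgroup.centralizer ({p} : Set Γ))) (v : W) :
    ρ (l : Γ) (ρ p v) = ρ p (ρ (l : Γ) v) := by
  rw [← apply_mul, ← apply_mul, h.comm l]

theorem fixG_inv_p {s : Set Γ} (hs : ∀ g ∈ s, g * p = p * g) {v : W} (hv : v ∈ fixG ρ s) :
    ρ p v ∈ fixG ρ s := fun g hg => by
  rw [← apply_mul, hs g hg, apply_mul, hv g hg]

/-- An involution of the centralizer is not a transvection: it fixes at most 256 elements. -/
theorem card_fix_le {t : ↥(Subgroup.centralizer ({p} : Set Γ))} (ht : t * t = 1) (ht1 : t ≠ 1)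
    (h11 : ∃ g k : M, orderOf (ψ t * (g * ψ t * g⁻¹) * (k * ψ t * k⁻¹)) = 11) :
    Nat.card (fixG ρ {(t : Γ)}) ≤ 256 := by
  haveI := h.finite_W
  obtain ⟨k, hk⟩ := card_four_pow h.exp_W h.cube h.free (U := fixG ρ {(t : Γ)})
    (fun v hv => h.fixG_inv_p (fun g hg => by rw [Set.mem_singleton_iff.1 hg]; exact h.comm t) hv)
  have hle : k ≤ 6 := (Nat.pow_le_pow_iff_right (a := 4) (by norm_num)).1
    ((hk ▸ Subgroup.card_le_card_group _).trans (h.card_W.le.trans (by norm_num)))
  by_contra hgt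
  rw [not_le, hk] at hgt
  have h5 : 5 ≤ k := by
    by_contra hc
    have := Nat.pow_le_pow_right (show 1 ≤ 4 by norm_num) (show k ≤ 4 by omega)
    omega
  rcases (show k = 5 ∨ k = 6 by omega) with rfl | rfl
  · obtain ⟨g, m, h11⟩ := h11
    obtain ⟨g, rfl⟩ := h.surj g
    obtain ⟨m, rfl⟩ := h.surj m
    set u := t * (g * t * g⁻¹) * (m * t * m⁻¹) with hu
    have hψu : orderOf (ψ u) = 11 := by rw [hu]; simpa only [map_mul, map_inv] using h11
    set w := u ^ 3 with hw
    have hw11 : w ^ 11 = 1 := by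
      have hk := (h.ker (u ^ 11)).1 (by rw [map_pow, ← hψu, pow_orderOf_eq_one])
      obtain ⟨j, hj⟩ := Subgroup.mem_zpowers_iff.1 hk
      refine Subtype.ext ?_
      rw [hw, ← pow_mul, mul_comm, pow_mul, Subgroup.coe_pow, ← hj, ← zpow_natCast, ← zpow_mul,
        mul_comm, zpow_mul, zpow_natCast, h.cube, one_zpow, Subgroup.coe_one]
    have hwne : w ≠ 1 := fun e => by
      have e' : (ψ u) ^ 3 = 1 := by rw [← map_pow, ← hw, e, map_one]
      have := orderOf_dvd_of_pow_eq_one e'
      rw [hψu] at this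
      norm_num at this
    set F1 := fixG ρ {(t : Γ)}
    set F2 := fixG ρ {(g : Γ) * t * (g : Γ)⁻¹}
    set F3 := fixG ρ {(m : Γ) * t * (m : Γ)⁻¹}
    have hidx : ∀ s : Γ, Nat.card (fixG ρ {s}) = 4 ^ 5 → (fixG ρ {s}).index = 4 := fun s hs => by
      have := (fixG ρ {s}).card_mul_index
      rw [hs, h.card_W] at this
      omega
    have hI : (F1 ⊓ F2 ⊓ F3).index ≤ 64 := by
      refine (Subgroup.index_inf_le).trans ?_
      refine (Nat.mul_le_mul_right _ Subgroup.index_inf_le).trans ?_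
      rw [hidx _ hk, hidx _ ((card_fixG_conj _ _).trans hk), hidx _ ((card_fixG_conj _ _).trans hk)]
    have hufix : ∀ v ∈ F1 ⊓ F2 ⊓ F3, ρ (u : Γ) v = v := fun v hv => by
      show ρ ((t : Γ) * ((g : Γ) * t * (g : Γ)⁻¹) * ((m : Γ) * t * (m : Γ)⁻¹)) v = v
      rw [apply_mul, mem_fixG_one.1 hv.2, apply_mul, mem_fixG_one.1 hv.1.2, mem_fixG_one.1 hv.1.1]
    have hwfix : ∀ v ∈ F1 ⊓ F2 ⊓ F3, ρ (w : Γ) v = v := fun v hv => by
      rw [hw, Subgroup.coe_pow, pow_succ, pow_two, apply_mul, hufix v hv, apply_mul, hufix v hv,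
        hufix v hv]
    refine hwne (Subtype.ext (h.inj (MulEquiv.ext fun v => ?_)))
    rw [Subgroup.coe_one, map_one, MulAut.one_apply]
    exact eleven_trivial h.exp_W (by rw [← Subgroup.coe_pow, hw11, Subgroup.coe_one]) hwfix hI v
  · refine ht1 (Subtype.ext (h.inj (MulEquiv.ext fun v => ?_)))
    have htop : fixG ρ {(t : Γ)} = ⊤ := Subgroup.eq_top_of_card_eq _ (by rw [hk, h.card_W]; norm_num)
    rw [Subgroup.coe_one, map_one, MulAut.one_apply]
    exact mem_fixG_one.1 (htop ▸ Subgroup.mem_top v)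

section Hex

variable [Finite M] (hM : ∀ U : Subgroup M, ∀ k, Nat.card U = 3 ^ k → k ≤ 2)
include hM

/-- The preimage of the three-subgroup is nonabelian, and contains an element of order three
outside the centre of the cover which does not commute with another. -/
theorem exists_xy [Finite Γ] {R : Subgroup M} (hR : Nat.card R = 9) (hc : ∀ r ∈ R, r * r * r = 1)
    (hcm : ∀ r ∈ R, ∀ s ∈ R, r * s = s * r) :
    ∃ x y : ↥(Subgroup.centralizer ({p} : Set Γ)), ψ x ∈ R ∧ ψ y ∈ R ∧ (x : Γ) ^ 3 = 1 ∧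
      ((y : Γ) * x * (y : Γ)⁻¹ = x * p ∨ (y : Γ) * x * (y : Γ)⁻¹ = x * (p * p)) := by
  classical
  set pl : ↥(Subgroup.centralizer ({p} : Set Γ)) := ⟨p, Subgroup.mem_centralizer_singleton_iff.2 rfl⟩
  -- some pair in the preimage does not commute
  have hnc : ∃ a b : ↥(Subgroup.centralizer ({p} : Set Γ)), ψ a ∈ R ∧ ψ b ∈ R ∧ a * b ≠ b * a := by
    by_contra hcon
    push_neg at hcon
    haveI : Fact (Nat.Prime 3) := ⟨Nat.prime_three⟩
    set K := R.comap ψ
    have hker : Nat.card ψ.ker = 3 := by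
      rw [show (3 : ℕ) = Nat.card (Subgroup.zpowers p) by
        rw [Nat.card_zpowers, orderOf_eq_prime h.cube h.ne_one]]
      refine Nat.card_congr
        { toFun := fun l => ⟨(l : ↥(Subgroup.centralizer ({p} : Set Γ))), (h.ker _).1 (MonoidHom.mem_ker.1 l.2)⟩
          invFun := fun g => ⟨⟨g, ?_⟩, MonoidHom.mem_ker.2 ((h.ker _).2 g.2)⟩
          left_inv := fun _ => rfl
          right_inv := fun _ => rfl }
      exact (Subgroup.zpowers_le.2 (Subgroup.mem_centralizer_singleton_iff.2 rfl :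
        p ∈ Subgroup.centralizer ({p} : Set Γ))) g.2
    have hK : Nat.card K = 27 := by
      rw [← Subgroup.card_mul_index (ψ.ker.subgroupOf K), Subgroup.index]
      have e1 : Nat.card (ψ.ker.subgroupOf K) = 3 := by
        rw [Nat.card_congr (Subgroup.subgroupOfEquivOfLe (fun l hl => by
          show ψ l ∈ R
          rw [MonoidHom.mem_ker.1 hl]; exact one_mem R)).toEquiv, hker]
      have e2 : Nat.card (↥K ⧸ ψ.ker.subgroupOf K) = 9 := by
        have hk : (ψ.subgroupComap R).ker = ψ.ker.subgroupOf K := by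
          ext l
          simp only [MonoidHom.mem_ker, Subgroup.mem_subgroupOf]
          exact ⟨fun e => congrArg Subtype.val e, fun e => Subtype.ext e⟩
        rw [← hk, Nat.card_congr (QuotientGroup.quotientKerEquivOfSurjective _
          (ψ.subgroupComap_surjective_of_surjective R h.surj)).toEquiv, hR]
      rw [e1, e2]
    have hPG : IsPGroup 3 K := IsPGroup.of_card (n := 3) (by rw [hK]; norm_num)
    obtain ⟨P, hP⟩ := hPG.exists_le_sylow
    have hPK : (P : Subgroup ↥(Subgroup.centralizer ({p} : Set Γ))) = K := by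
      refine (Subgroup.eq_of_le_of_card_ge hP ?_).symm
      obtain ⟨n, hn⟩ := IsPGroup.iff_card.1 P.2
      have hmap : IsPGroup 3 ((P : Subgroup ↥(Subgroup.centralizer ({p} : Set Γ))).map ψ) := P.2.map ψ
      obtain ⟨j, hj⟩ := IsPGroup.iff_card.1 hmap
      have hj2 := hM _ j hj
      have hker_le : ψ.ker ≤ (P : Subgroup ↥(Subgroup.centralizer ({p} : Set Γ))) := le_trans (fun l hl => by
        show ψ l ∈ R
        rw [MonoidHom.mem_ker.1 hl]; exact one_mem R) hP
      have hcard : Nat.card (P : Subgroup ↥(Subgroup.centralizer ({p} : Set Γ))) = 3 * Nat.card ((P : Subgroup ↥(Subgroup.centralizer ({p} : Set Γ))).map ψ) := by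
        rw [← Subgroup.card_mul_index (ψ.ker.subgroupOf (P : Subgroup ↥(Subgroup.centralizer ({p} : Set Γ)))), Subgroup.index,
          Nat.card_congr (Subgroup.subgroupOfEquivOfLe hker_le).toEquiv, hker]
        congr 1
        have hk : (ψ.subgroupMap (P : Subgroup ↥(Subgroup.centralizer ({p} : Set Γ)))).ker = ψ.ker.subgroupOf (P : Subgroup ↥(Subgroup.centralizer ({p} : Set Γ))) := by
          ext l
          simp only [MonoidHom.mem_ker, Subgroup.mem_subgroupOf]
          exact ⟨fun e => congrArg Subtype.val e, fun e => Subtype.ext e⟩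
        rw [← hk]
        exact Nat.card_congr (QuotientGroup.quotientKerEquivOfSurjective _
          (ψ.subgroupMap_surjective _)).toEquiv
      have := Nat.pow_le_pow_right (show 1 ≤ 3 by norm_num) hj2
      rw [hcard, hK, hj]
      omega
    have hcommP : ∀ a b : ↥(P : Subgroup ↥(Subgroup.centralizer ({p} : Set Γ))), a * b = b * a := fun a b =>
      Subtype.ext (hcon _ _ (hPK.le a.2) (hPK.le b.2))
    letI : CommGroup ↥(P : Subgroup ↥(Subgroup.centralizer ({p} : Set Γ))) := { mul_comm := hcommP }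
    let T : ↥(Subgroup.centralizer ({p} : Set Γ)) →* ↥(P : Subgroup ↥(Subgroup.centralizer ({p} : Set Γ))) := MonoidHom.transfer (MonoidHom.id _)
    have h1 : T pl = 1 := (Abelianization.commutator_subset_ker T) h.perfect
    have hcen : ∀ g : ↥(Subgroup.centralizer ({p} : Set Γ)), g * pl = pl * g := fun g => Subtype.ext (h.comm g)
    have h2 : ∀ (k : ℕ) (g₀ : ↥(Subgroup.centralizer ({p} : Set Γ))), g₀⁻¹ * pl ^ k * g₀ ∈ (P : Subgroup ↥(Subgroup.centralizer ({p} : Set Γ))) →
        g₀⁻¹ * pl ^ k * g₀ = pl ^ k := fun k g₀ _ => by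
      rw [mul_assoc, ← ((show Commute g₀ pl from hcen g₀).pow_right k).eq, inv_mul_cancel_left]
    have h3 := MonoidHom.transfer_eq_pow (H := (P : Subgroup ↥(Subgroup.centralizer ({p} : Set Γ)))) (ϕ := MonoidHom.id _) pl h2
    have h4 : pl ^ (P : Subgroup ↥(Subgroup.centralizer ({p} : Set Γ))).index = 1 := by
      have := congrArg Subtype.val (h3.symm.trans h1)
      simpa using this
    have h5 : orderOf pl = 3 := orderOf_eq_prime (Subtype.ext h.cube)
      fun e => h.ne_one (congrArg Subtype.val e)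
    have h6 := orderOf_dvd_of_pow_eq_one h4
    rw [h5] at h6
    exact P.not_dvd_index h6
  obtain ⟨a, b, ha, hb, hab⟩ := hnc
  obtain ⟨k, hk⟩ : ∃ c : Γ, (b : Γ) * a * (b : Γ)⁻¹ * (a : Γ)⁻¹ = c ∧ (c = p ∨ c = p * p) := by
    refine ⟨_, rfl, ?_⟩
    have hz := (h.ker (b * a * b⁻¹ * a⁻¹)).1 (by
      rw [map_mul, map_mul, map_mul, map_inv, map_inv, hcm _ hb _ ha, mul_inv_cancel_right,
        mul_inv_cancel])
    rcases h.mem_zpowers hz with e | e
    · exfalso
      refine hab (Subtype.ext ?_)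
      exact (mul_inv_eq_iff_eq_mul.1 (mul_inv_eq_one.1 e)).symm
    · exact e
  have hc3 : k ^ 3 = 1 := by
    rcases hk.2 with e | e <;> rw [e]
    · exact h.cube
    · rw [← pow_two, ← pow_mul, show 2 * 3 = 3 * 2 from rfl, pow_mul, h.cube, one_pow]
  have hkc : ∀ l : ↥(Subgroup.centralizer ({p} : Set Γ)), Commute k (l : Γ) := fun l => by
    rcases hk.2 with e | e <;> rw [e]
    · exact (h.comm l).symm
    · exact (show Commute p (l : Γ) from (h.comm l).symm).mul_left (h.comm l).symm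
  have hba : (b : Γ) * a = k * a * b := by rw [← hk.1]; group
  -- cubes land in the centre of the cover, and the cube map is multiplicative
  have hcube : ∀ l : ↥(Subgroup.centralizer ({p} : Set Γ)), ψ l ∈ R → (l : Γ) ^ 3 ∈ Subgroup.zpowers p := fun l hl => by
    have := (h.ker (l ^ 3)).1 (by rw [map_pow, pow_succ, pow_two, hc _ hl])
    rwa [Subgroup.coe_pow] at this
  have hcub2 : ∀ u v c : Γ, v * u = c * u * v → Commute c u → Commute c v → c ^ 3 = 1 →
      (u * v) ^ 3 = u ^ 3 * v ^ 3 := by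
    intro u v c huv hcu hcv hc'
    have hcc : c * c * c = 1 := by rw [← pow_two, ← pow_succ, hc']
    have hcv' : ∀ w, v * (c * w) = c * (v * w) := fun w => (hcv.left_comm w).symm
    have hcu' : ∀ w, u * (c * w) = c * (u * w) := fun w => (hcu.left_comm w).symm
    have huv' : ∀ w, v * (u * w) = c * (u * (v * w)) := fun w => by
      rw [← mul_assoc, huv, mul_assoc, mul_assoc]
    calc (u * v) ^ 3 = u * (v * (u * (v * (u * v)))) := by
          simp only [pow_succ, pow_zero, one_mul, mul_assoc]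
      _ = c * (c * (c * (u * (u * (u * (v * (v * v))))))) := by
          simp only [huv', huv, hcu', hcv', mul_assoc]
      _ = (c * c * c) * (u * u * u * (v * v * v)) := by simp only [mul_assoc]
      _ = u ^ 3 * v ^ 3 := by
          rw [hcc, one_mul]; simp only [pow_succ, pow_zero, one_mul, mul_assoc]
  have key : ∀ u v : ↥(Subgroup.centralizer ({p} : Set Γ)), ψ u ∈ R → ψ v ∈ R → (u : Γ) ^ 3 = 1 →
      ((v : Γ) * u = k * u * v ∨ (u : Γ) * v = k * v * u) →
      ∃ x y : ↥(Subgroup.centralizer ({p} : Set Γ)), ψ x ∈ R ∧ ψ y ∈ R ∧ (x : Γ) ^ 3 = 1 ∧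
        ((y : Γ) * x * (y : Γ)⁻¹ = x * p ∨ (y : Γ) * x * (y : Γ)⁻¹ = x * (p * p)) := by
    intro u v hu hv hu3 hor
    refine ⟨u, v, hu, hv, hu3, ?_⟩
    rcases hor with e | e
    · have : (v : Γ) * u * (v : Γ)⁻¹ = u * k := by rw [e, mul_inv_cancel_right, (hkc u).eq]
      rcases hk.2 with e' | e'
      · exact Or.inl (e' ▸ this)
      · exact Or.inr (e' ▸ this)
    · have e2 : (v : Γ) * u * (v : Γ)⁻¹ = u * k⁻¹ := by
        have hvu : (v : Γ) * u = k⁻¹ * (u * v) := by rw [e]; group
        rw [hvu, ← mul_assoc, mul_inv_cancel_right, ((hkc u).inv_left).eq]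
      rcases hk.2 with e' | e' <;> rw [e'] at e2
      · refine Or.inr (e2.trans ?_)
        rw [show p⁻¹ = p * p from inv_eq_of_mul_eq_one_right (by rw [← h.cube, pow_succ', pow_two])]
      · refine Or.inl (e2.trans ?_)
        rw [show (p * p)⁻¹ = p from inv_eq_of_mul_eq_one_right (by rw [← h.cube, pow_succ, pow_two])]
  by_cases ha3 : (a : Γ) ^ 3 = 1
  · exact key a b ha hb ha3 (Or.inl hba)
  by_cases hb3 : (b : Γ) ^ 3 = 1
  · exact key b a hb ha hb3 (Or.inr hba)
  -- both cubes are nontrivial: one of `a b`, `a² b` has trivial cube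
  have hab' : ((a * b : ↥(Subgroup.centralizer ({p} : Set Γ))) : Γ) ^ 3 = (a : Γ) ^ 3 * (b : Γ) ^ 3 :=
    hcub2 _ _ k hba (hkc a) (hkc b) hc3
  have haab : ((a * a * b : ↥(Subgroup.centralizer ({p} : Set Γ))) : Γ) ^ 3 = (a : Γ) ^ 3 * (a : Γ) ^ 3 * (b : Γ) ^ 3 := by
    have e : ((a : Γ) * a) ^ 3 = (a : Γ) ^ 3 * (a : Γ) ^ 3 := (Commute.refl (a : Γ)).mul_pow 3
    rw [Subgroup.coe_mul, Subgroup.coe_mul, ← e]
    refine hcub2 _ _ (k * k) ?_ ((((hkc a).mul_left (hkc a))).mul_right ((hkc a).mul_left (hkc a)))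
      ((hkc b).mul_left (hkc b)) (by rw [← pow_two, ← pow_mul, mul_comm, pow_mul, hc3, one_pow])
    calc (b : Γ) * (a * a) = (b * a) * a := (mul_assoc _ _ _).symm
      _ = k * a * (b * a) := by rw [← mul_assoc (k * (a : Γ)), ← hba]
      _ = k * a * (k * a * b) := by rw [hba]
      _ = k * ((a : Γ) * k) * a * b := by simp only [mul_assoc]
      _ = _ := by rw [← (hkc a).eq]; simp only [mul_assoc]
  have hp2 : p * p * p = 1 := by rw [← pow_two, ← pow_succ, h.cube]
  rcases h.mem_zpowers (hcube a ha) with ea | ea | ea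
  · exact absurd ea ha3
  all_goals
    rcases h.mem_zpowers (hcube b hb) with eb | eb | eb
    · exact absurd eb hb3
    all_goals
      have h1 := hab'
      have h2 := haab
      rw [ea, eb] at h1 h2
      first
        | (refine key (a * b) b (by rw [map_mul]; exact mul_mem ha hb) hb (h1.trans ?_) (Or.inl ?_)
           · first | (rw [← mul_assoc]; exact hp2) | exact hp2
           · rw [Subgroup.coe_mul, ← mul_assoc (b : Γ), hba]; group)
        | (refine key (a * a * b) a (by rw [map_mul, map_mul]; exact mul_mem (mul_mem ha ha) hb) ha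
            (h2.trans ?_) (Or.inr ?_)
           · first | exact hp2 | (rw [mul_assoc p p, ← mul_assoc, ← mul_assoc, ← mul_assoc, hp2, one_mul]; exact hp2)
           · rw [Subgroup.coe_mul, Subgroup.coe_mul, mul_assoc ((a : Γ) * a), hba]
             calc (a : Γ) * a * (k * a * b) = a * a * k * a * b := by group
               _ = k * (a * a) * a * b := by rw [((hkc a).mul_right (hkc a)).eq]
               _ = _ := by group)

end Hex

end Acting

end CfsgLib.JankoFourTwo
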