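import Cfsg.Agent.Lib.JankoFourTwo.Setting
import Cfsg.Agent.Lib.ThreeTrans.LargeSetting

/-!
# The elementary abelian subgroup of order 2^11 in a Sylow 2-subgroup
-/

set_option autoImplicit false

namespace CfsgLib.JankoFourTwo

open Cfsg

variable {H : Type*} [Group H] [Finite H] {z g : H} {E N : Subgroup H} [E.Normal] [N.Normal]

namespace Setting

variable {ψ : ↥(Subgroup.centralizer ({(g : H ⧸ E)} : Set (H ⧸ E))) →* ↥Spor.M22}
  {S A R : Subgroup ↥Spor.M22}

/-- The preimage in `E` of the fixed subgroup of the lifted hexad group. -/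
noncomputable def fixE (_s : Setting H z g E N) (h : Acting (actQ E) (g : H ⧸ E) ψ) (hx : Hexad S A R) : Subgroup H :=
  ((fixG (actQ E) (h.liftSub hx : Set (H ⧸ E))).comap (Abelianization.of (G := E))).map E.subtype

/-- The subgroup of order 2^11. -/
noncomputable def bigV (_s : Setting H z g E N) (h : Acting (actQ E) (g : H ⧸ E) ψ) (hx : Hexad S A R) : Subgroup H :=
  (h.liftSub hx).comap (QuotientGroup.mk' E) ⊓ Subgroup.centralizer (_s.fixE h hx : Set H)

variable (s : Setting H z g E N) (h : Acting (actQ E) (g : H ⧸ E) ψ) (hx : Hexad S A R)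
include s

theorem hM (U : Subgroup ↥Spor.M22) (k : ℕ) (hU : Nat.card U = 3 ^ k) : k ≤ 2 := by
  have h := Subgroup.card_subgroup_dvd_card U
  rw [hU, CfsgLib.Sporadic.card_sporM22] at h
  by_contra hk
  have h27 : 3 ^ 3 ∣ 443520 := (pow_dvd_pow 3 (by omega)).trans h
  norm_num at h27

theorem card_sub_image (D : Subgroup E) (hzD : Subgroup.center E ≤ D) :
    Nat.card D = Nat.card (D.map (Abelianization.of (G := E))) * 2 := by
  have h := Subgroup.card_eq_card_quotient_mul_card_subgroup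
    ((Abelianization.of (G := E)).subgroupMap D).ker
  rw [Nat.card_congr (QuotientGroup.quotientKerEquivOfSurjective _
    ((Abelianization.of (G := E)).subgroupMap_surjective D)).toEquiv] at h
  rw [h]
  congr 1
  rw [← s.hE.2]
  refine Nat.card_congr
    { toFun := fun k => ⟨((k : D) : E), (s.mem_center_iff _).2
        ((s.of_eq_one _).1 (congrArg Subtype.val (MonoidHom.mem_ker.1 k.2)))⟩
      invFun := fun c => ⟨⟨c, hzD c.2⟩, MonoidHom.mem_ker.2
        (Subtype.ext ((s.of_eq_one _).2 ((s.mem_center_iff _).1 c.2)))⟩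
      left_inv := fun _ => rfl
      right_inv := fun _ => rfl }

include h hx

theorem mem_fixE {x : H} : x ∈ s.fixE h hx ↔
    ∃ hxE : x ∈ E, Abelianization.of (⟨x, hxE⟩ : E) ∈ fixG (actQ E) (h.liftSub hx : Set (H ⧸ E)) :=
  ⟨fun ⟨y, hy, e⟩ => by subst e; exact ⟨y.2, hy⟩, fun ⟨hxE, hy⟩ => ⟨⟨x, hxE⟩, hy, rfl⟩⟩

theorem fixE_le : s.fixE h hx ≤ E := fun _ hx' => ((s.mem_fixE h hx).1 hx').1

theorem z_mem_fixE : z ∈ s.fixE h hx := (s.mem_fixE h hx).2 ⟨s.z_mem, by
  rw [(s.of_eq_one _).2 (Subgroup.mem_zpowers z)]; exact one_mem _⟩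

theorem card_fixE : Nat.card (s.fixE h hx) = 128 := by
  rw [fixE, Subgroup.card_map_of_injective E.subtype_injective, s.card_sub_image _ (fun c hc => by
    rw [Subgroup.mem_comap, (s.of_eq_one c).2 ((s.mem_center_iff c).1 hc)]; exact one_mem _),
    Subgroup.map_comap_eq_self_of_surjective exists_of, h.card_fix_lift hx (fun U k e => hM s U k e)]

/-- Elements over the lifted normaliser of the hexad group normalise the preimage. -/
theorem conj_fixE {a : H} (hL : (a : H ⧸ E) ∈ Subgroup.centralizer ({(g : H ⧸ E)} : Set (H ⧸ E)))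
    (hn : ψ ⟨(a : H ⧸ E), hL⟩ ∈ Subgroup.normalizer (A : Set ↥Spor.M22)) {x : H}
    (hx' : x ∈ s.fixE h hx) : a * x * a⁻¹ ∈ s.fixE h hx := by
  obtain ⟨hxE, hf⟩ := (s.mem_fixE h hx).1 hx'
  refine (s.mem_fixE h hx).2 ⟨Subgroup.Normal.conj_mem inferInstance x hxE a, ?_⟩
  have := h.apply_mem_fix_lift hx (g := ⟨(a : H ⧸ E), hL⟩) hn hf
  rw [show (⟨a * x * a⁻¹, Subgroup.Normal.conj_mem inferInstance x hxE a⟩ : E) =
    MulAut.conjNormal a ⟨x, hxE⟩ from Subtype.ext (MulAut.conjNormal_apply a (⟨x, hxE⟩ : E)).symm]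
  exact this

theorem p_data : (g : H ⧸ E) ∈ Subgroup.centralizer ({(g : H ⧸ E)} : Set (H ⧸ E)) ∧
    ∀ hL, ψ ⟨(g : H ⧸ E), hL⟩ ∈ Subgroup.normalizer (A : Set ↥Spor.M22) :=
  ⟨Subgroup.mem_centralizer_singleton_iff.2 rfl, fun hL => by
    rw [(h.ker ⟨_, hL⟩).2 (Subgroup.mem_zpowers _)]; exact one_mem _⟩

theorem fixE_commute {x y : H} (hx' : x ∈ s.fixE h hx) (hy : y ∈ s.fixE h hx) : x * y = y * x := by
  classical
  have hM' := fun U k e => hM s U k e
  haveI := h.finite_W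
  obtain ⟨hxE, -⟩ := (s.mem_fixE h hx).1 hx'
  set W₀ := fixG (actQ E) (h.liftSub hx : Set (H ⧸ E)) with hW₀
  set Wt := s.fixE h hx with hWt
  -- the centre of the preimage, seen in the quotient
  let U : Subgroup (Abelianization E) :=
    ((Subgroup.centralizer (Wt : Set H) ⊓ Wt).subgroupOf E).map (Abelianization.of (G := E))
  have hU : U ≤ W₀ := by
    rintro _ ⟨u, ⟨-, hu⟩, rfl⟩
    exact ((s.mem_fixE h hx).1 hu).2
  have hinv : ∀ q : ↥(Subgroup.centralizer ({(g : H ⧸ E)} : Set (H ⧸ E))),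
      ψ q ∈ Subgroup.normalizer (A : Set ↥Spor.M22) → ∀ v ∈ U, actQ E (q : H ⧸ E) v ∈ U := by
    rintro ⟨q, hq⟩ hn _ ⟨u, ⟨huc, huW⟩, rfl⟩
    obtain ⟨a, rfl⟩ := QuotientGroup.mk_surjective q
    refine ⟨MulAut.conjNormal a u, ⟨?_, ?_⟩, rfl⟩
    · show ((MulAut.conjNormal a u : E) : H) ∈ Subgroup.centralizer (Wt : Set H)
      rw [MulAut.conjNormal_apply]
      refine Subgroup.mem_centralizer_iff.2 fun w hw => ?_
      have hw' : a⁻¹ * w * a ∈ Wt := by
        have h0 := s.conj_fixE h hx (a := a⁻¹) (x := w) (by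
            rw [QuotientGroup.mk_inv]; exact inv_mem hq) (by
            rw [show (⟨((a⁻¹ : H) : H ⧸ E), _⟩ : ↥(Subgroup.centralizer ({(g : H ⧸ E)} : Set (H ⧸ E)))) =
              ⟨(a : H ⧸ E), hq⟩⁻¹ from rfl, map_inv]
            exact inv_mem hn) hw
        rwa [inv_inv] at h0
      have := Subgroup.mem_centralizer_iff.1 huc _ hw'
      calc w * (a * u * a⁻¹) = a * (a⁻¹ * w * a * u) * a⁻¹ := by group
        _ = a * ((u : H) * (a⁻¹ * w * a)) * a⁻¹ := by
          rw [show a⁻¹ * w * a * (u : H) = (u : H) * (a⁻¹ * w * a) from this]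
        _ = a * u * a⁻¹ * w := by group
    · show ((MulAut.conjNormal a u : E) : H) ∈ Wt
      rw [MulAut.conjNormal_apply]
      exact s.conj_fixE h hx hq hn huW
  rcases h.sub_fix_lift hx hM' hU hinv with hb | htop
  · exfalso
    -- the centralizer of the preimage in `E` is invariant and meets it in `⟨z⟩`
    let C : Subgroup E := Subgroup.centralizer ((Wt.subgroupOf E : Subgroup E) : Set E)
    have hcW : Subgroup.center E ≤ Wt.subgroupOf E := fun c hc =>
      Subgroup.zpowers_le.2 (s.z_mem_fixE h hx) ((s.mem_center_iff c).1 hc)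
    haveI : Fact (Nat.Prime 2) := ⟨Nat.prime_two⟩
    have hC : Nat.card C = 128 := by
      have e := CfsgLib.PGroups.IsExtraspecial.card_centralizer_mul_card s.hE hcW
      rw [Nat.card_congr (Subgroup.subgroupOfEquivOfLe (s.fixE_le h hx)).toEquiv, s.card_fixE h hx,
        s.card_E] at e
      have e : Nat.card C * 128 = 2 * 2 ^ 13 := e
      norm_num at e
      omega
    have hCc : Subgroup.center E ≤ C := Subgroup.center_le_centralizer _
    have hCi : C.map (Abelianization.of (G := E)) ≠ ⊥ := fun e => by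
      have := s.card_sub_image C hCc
      rw [e, Subgroup.card_bot, hC] at this
      omega
    have hmeet := inf_fixG_ne_bot (ρ := actQ E) h.exp_W (h.liftSub hx : Set (H ⧸ E)).toFinite.toFinset
      (fun a ha b hb => by
        rw [Set.Finite.mem_toFinset] at ha hb
        obtain ⟨haL, ha2, haA⟩ := ha
        obtain ⟨hbL, hb2, hbA⟩ := hb
        exact congrArg Subtype.val
          (h.lift_commute hx (a := ⟨a, haL⟩) (b := ⟨b, hbL⟩) (Subtype.ext ha2) (Subtype.ext hb2)
            haA hbA))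
      (fun a ha => h.liftSub_sq hx ((Set.Finite.mem_toFinset _).1 ha))
      _ hCi (by
        rintro q hq _ ⟨c, hc, rfl⟩
        obtain ⟨hqL, -, hqA⟩ := (Set.Finite.mem_toFinset _).1 hq
        obtain ⟨a, rfl⟩ := QuotientGroup.mk_surjective q
        refine ⟨MulAut.conjNormal a c, Subgroup.mem_centralizer_iff.2 fun w hw => Subtype.ext ?_, rfl⟩
        have hn : ψ ⟨(a : H ⧸ E), hqL⟩ ∈ Subgroup.normalizer (A : Set ↥Spor.M22) :=
          Subgroup.le_normalizer hqA
        have hw' : a⁻¹ * w * a ∈ Wt := by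
          have h0 := s.conj_fixE h hx (a := a⁻¹) (x := w) (by
              rw [QuotientGroup.mk_inv]; exact inv_mem hqL) (by
              rw [show (⟨((a⁻¹ : H) : H ⧸ E), _⟩ : ↥(Subgroup.centralizer ({(g : H ⧸ E)} : Set (H ⧸ E)))) =
                ⟨(a : H ⧸ E), hqL⟩⁻¹ from rfl, map_inv]
              exact inv_mem hn) hw
          rwa [inv_inv] at h0
        have := congrArg Subtype.val (Subgroup.mem_centralizer_iff.1 hc
          ⟨a⁻¹ * w * a, s.fixE_le h hx hw'⟩ hw')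
        simp only [Subgroup.coe_mul] at this
        rw [Subgroup.coe_mul, Subgroup.coe_mul, MulAut.conjNormal_apply]
        calc (w : H) * (a * c * a⁻¹) = a * (a⁻¹ * w * a * c) * a⁻¹ := by group
          _ = a * ((c : H) * (a⁻¹ * w * a)) * a⁻¹ := by rw [this]
          _ = a * c * a⁻¹ * w := by group)
    rw [Set.Finite.coe_toFinset] at hmeet
    refine hmeet ((Subgroup.eq_bot_iff_forall _).2 ?_)
    rintro _ ⟨⟨c, hc, rfl⟩, hcf⟩
    have hcW' : (c : H) ∈ Wt := (s.mem_fixE h hx).2 ⟨c.2, hcf⟩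
    have hmem : Abelianization.of c ∈ U := ⟨c, ⟨Subgroup.mem_centralizer_iff.2 fun w hw =>
      congrArg Subtype.val (Subgroup.mem_centralizer_iff.1 hc ⟨w, s.fixE_le h hx hw⟩ hw), hcW'⟩, rfl⟩
    rwa [hb, Subgroup.mem_bot] at hmem
  · obtain ⟨hxE', hxf⟩ := (s.mem_fixE h hx).1 hx'
    have hxU : Abelianization.of (⟨x, hxE⟩ : E) ∈ U := htop ▸ hxf
    obtain ⟨u, ⟨huc, -⟩, e⟩ := hxU
    have hd : x * (u : H)⁻¹ ∈ Subgroup.zpowers z := by
      have := (s.of_eq_one (⟨x, hxE⟩ * u⁻¹)).1 (by rw [map_mul, map_inv, e, mul_inv_cancel])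
      simpa using this
    have hu := Subgroup.mem_centralizer_iff.1 huc y hy
    rw [show x = x * (u : H)⁻¹ * u by group]
    rcases s.mem_zpowers_z hd with e' | e' <;> rw [e']
    · rw [one_mul]; exact hu.symm
    · rw [mul_assoc, ← mul_assoc y z, s.central y, mul_assoc z y]
      exact congrArg (z * ·) hu.symm

theorem fixE_sq {x : H} (hx' : x ∈ s.fixE h hx) : x * x = 1 := by
  classical
  haveI := h.finite_W
  obtain ⟨hxE, hxf⟩ := (s.mem_fixE h hx).1 hx'
  set W₀ := fixG (actQ E) (h.liftSub hx : Set (H ⧸ E))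
  let m : W₀ → W₀ := fun u => ⟨(u : Abelianization E)⁻¹ * actQ E (g : H ⧸ E) u,
    W₀.mul_mem (W₀.inv_mem u.2) (h.p_mem_fix_lift hx u.2)⟩
  have hm : Function.Injective m := fun u v e => by
    have e : (u : Abelianization E)⁻¹ * actQ E (g : H ⧸ E) u =
        (v : Abelianization E)⁻¹ * actQ E (g : H ⧸ E) v := congrArg Subtype.val e
    refine Subtype.ext (mul_inv_eq_one.1 (h.free _ ?_))
    rw [map_mul, map_inv, mul_inv_eq_iff_eq_mul]
    calc actQ E (g : H ⧸ E) u
        = (u : Abelianization E) * ((u : Abelianization E)⁻¹ * actQ E (g : H ⧸ E) u) := by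
          rw [mul_inv_cancel_left]
      _ = _ := by rw [e]; ac_rfl
  obtain ⟨⟨u, hu⟩, hu'⟩ := (Finite.injective_iff_surjective.1 hm) ⟨_, hxf⟩
  obtain ⟨v, rfl⟩ := exists_of u
  have hvW : (v : H) ∈ s.fixE h hx := (s.mem_fixE h hx).2 ⟨v.2, hu⟩
  obtain ⟨hpL, hpn⟩ := s.p_data h hx
  have hv' : g * (v : H) * g⁻¹ ∈ s.fixE h hx := s.conj_fixE h hx hpL (hpn hpL) hvW
  haveI : Fact (Nat.Prime 2) := ⟨Nat.prime_two⟩
  have hsqz : (v : H) * v ∈ Subgroup.zpowers z := by
    have h0 := (s.mem_center_iff _).1 (CfsgLib.PGroups.IsExtraspecial.pow_mem_center s.hE v)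
    rwa [SubmonoidClass.coe_pow, pow_two] at h0
  set y := (v : H)⁻¹ * (g * (v : H) * g⁻¹) with hy
  have hy2 : y * y = 1 := by
    have hc := s.fixE_commute h hx (inv_mem hvW) hv'
    have e1 : g * (v : H) * g⁻¹ * (g * (v : H) * g⁻¹) = v * v := by
      rw [show g * (v : H) * g⁻¹ * (g * (v : H) * g⁻¹) = g * ((v : H) * v) * g⁻¹ by group]
      rcases s.mem_zpowers_z hsqz with e | e <;> rw [e]
      · group
      · rw [s.central g, mul_inv_cancel_right]
    calc y * y = (v : H)⁻¹ * ((g * (v : H) * g⁻¹) * (v : H)⁻¹) * (g * (v : H) * g⁻¹) := by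
          rw [hy]; group
      _ = (v : H)⁻¹ * ((v : H)⁻¹ * (g * (v : H) * g⁻¹)) * (g * (v : H) * g⁻¹) := by rw [hc]
      _ = (v : H)⁻¹ * (v : H)⁻¹ * ((g * (v : H) * g⁻¹) * (g * (v : H) * g⁻¹)) := by group
      _ = 1 := by rw [e1]; group
  have hd : x * y⁻¹ ∈ Subgroup.zpowers z := by
    have := (s.of_eq_one (⟨x, hxE⟩ * (v⁻¹ * MulAut.conjNormal g v)⁻¹)).1 (by
      rw [map_mul, map_inv, map_mul, map_inv, mul_inv_eq_one]
      exact (congrArg Subtype.val hu').symm)
    simpa [hy] using this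
  rw [show x = x * y⁻¹ * y by group]
  rcases s.mem_zpowers_z hd with e | e <;> rw [e]
  · rw [one_mul, hy2]
  · calc z * y * (z * y) = z * (y * z) * y := by group
      _ = z * (z * y) * y := by rw [s.central y]
      _ = z * z * (y * y) := by group
      _ = 1 := by rw [s.z_sq, hy2, one_mul]

theorem fixE_inf_centralizer :
    E ⊓ Subgroup.centralizer (s.fixE h hx : Set H) = s.fixE h hx := by
  haveI : Fact (Nat.Prime 2) := ⟨Nat.prime_two⟩
  refine (Subgroup.eq_of_le_of_card_ge ?_ ?_).symm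
  · exact fun x hx' => ⟨s.fixE_le h hx hx',
      Subgroup.mem_centralizer_iff.2 fun y hy => s.fixE_commute h hx hy hx'⟩
  · have hcW : Subgroup.center E ≤ (s.fixE h hx).subgroupOf E := fun c hc =>
      Subgroup.zpowers_le.2 (s.z_mem_fixE h hx) ((s.mem_center_iff c).1 hc)
    have e := CfsgLib.PGroups.IsExtraspecial.card_centralizer_mul_card s.hE hcW
    rw [Nat.card_congr (Subgroup.subgroupOfEquivOfLe (s.fixE_le h hx)).toEquiv, s.card_fixE h hx,
      s.card_E] at e
    rw [s.card_fixE h hx]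
    refine le_trans (Nat.card_le_card_of_injective
      (fun c : ↥(E ⊓ Subgroup.centralizer (s.fixE h hx : Set H)) =>
        (⟨⟨c, c.2.1⟩, Subgroup.mem_centralizer_iff.2 fun w hw =>
          Subtype.ext (Subgroup.mem_centralizer_iff.1 c.2.2 w hw)⟩ :
          Subgroup.centralizer (((s.fixE h hx).subgroupOf E : Subgroup E) : Set E)))
      fun a b e' => Subtype.ext (Subtype.mk.inj (Subtype.mk.inj e'))) ?_
    norm_num at e
    omega

theorem bigV_inf : s.bigV h hx ⊓ E = s.fixE h hx := by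
  refine le_antisymm (fun x hx' => ?_) (fun x hx' => ?_)
  · rw [← s.fixE_inf_centralizer h hx]; exact ⟨hx'.2, hx'.1.2⟩
  · have h0 := (s.fixE_inf_centralizer h hx).ge hx'
    refine ⟨⟨?_, h0.2⟩, h0.1⟩
    show (x : H ⧸ E) ∈ h.liftSub hx
    rw [(QuotientGroup.eq_one_iff x).2 h0.1]
    exact one_mem _

theorem card_bigV : Nat.card (s.bigV h hx) = 2048 ∧
    (s.bigV h hx).map (QuotientGroup.mk' E) = h.liftSub hx := by
  set AE := (h.liftSub hx).comap (QuotientGroup.mk' E)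
  have hAE : Nat.card AE = 16 * 8192 := by
    have h1 := AE.card_mul_index
    have h2 := (h.liftSub hx).card_mul_index
    have h3 := E.card_mul_index
    rw [Subgroup.index_comap_of_surjective _ (QuotientGroup.mk'_surjective E)] at h1
    rw [h.card_liftSub hx] at h2
    rw [s.card_E, Subgroup.index_eq_card, ← h2] at h3
    rw [← h3] at h1
    have hpos : 0 < (h.liftSub hx).index := Nat.pos_of_ne_zero Subgroup.index_ne_zero_of_finite
    refine Nat.eq_of_mul_eq_mul_right hpos ?_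
    rw [h1]; ring
  have hmv : ∀ k ∈ AE, ∀ v ∈ s.fixE h hx, k * v * k⁻¹ = v ∨ k * v * k⁻¹ = z * v := by
    intro k hk v hv
    obtain ⟨hvE, hvf⟩ := (s.mem_fixE h hx).1 hv
    have h0 := (s.of_eq_one (MulAut.conjNormal k ⟨v, hvE⟩ * (⟨v, hvE⟩ : E)⁻¹)).1 (by
      rw [map_mul, map_inv, mul_inv_eq_one]
      exact hvf _ hk)
    rw [Subgroup.coe_mul, Subgroup.coe_inv, MulAut.conjNormal_apply] at h0
    rcases s.mem_zpowers_z h0 with e | e
    · exact Or.inl (mul_inv_eq_one.1 e)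
    · exact Or.inr (mul_inv_eq_iff_eq_mul.1 e)
  have hg := s.growth (K := AE) (s.z_mem_fixE h hx) (s.fixE_le h hx) hmv
  rw [s.card_fixE h hx, hAE] at hg
  have hg : 2 * (16 * 8192) ≤ Nat.card (s.bigV h hx) * 128 := hg
  have hker : Nat.card ((QuotientGroup.mk' E).subgroupMap (s.bigV h hx)).ker = 128 := by
    rw [← s.card_fixE h hx, ← s.bigV_inf h hx]
    refine Nat.card_congr
      { toFun := fun k => ⟨((k : ↥(s.bigV h hx)) : H), (k : ↥(s.bigV h hx)).2,
          (QuotientGroup.eq_one_iff _).1 (congrArg Subtype.val k.2)⟩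
        invFun := fun c => ⟨⟨c, c.2.1⟩, Subtype.ext ((QuotientGroup.eq_one_iff _).2 c.2.2)⟩
        left_inv := fun _ => rfl
        right_inv := fun _ => rfl }
  have hsplit := Subgroup.card_eq_card_quotient_mul_card_subgroup
    ((QuotientGroup.mk' E).subgroupMap (s.bigV h hx)).ker
  rw [hker, Nat.card_congr (QuotientGroup.quotientKerEquivOfSurjective _
    ((QuotientGroup.mk' E).subgroupMap_surjective _)).toEquiv] at hsplit
  have hle : (s.bigV h hx).map (QuotientGroup.mk' E) ≤ h.liftSub hx :=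
    Subgroup.map_le_iff_le_comap.2 inf_le_left
  have hc := Subgroup.card_le_of_le hle
  rw [h.card_liftSub hx] at hc
  exact ⟨by omega, Subgroup.eq_of_le_of_card_ge hle (by rw [h.card_liftSub hx]; omega)⟩

theorem conj_bigV {a : H} (hL : (a : H ⧸ E) ∈ Subgroup.centralizer ({(g : H ⧸ E)} : Set (H ⧸ E)))
    (hn : ψ ⟨(a : H ⧸ E), hL⟩ ∈ Subgroup.normalizer (A : Set ↥Spor.M22)) {x : H}
    (hx' : x ∈ s.bigV h hx) : a * x * a⁻¹ ∈ s.bigV h hx := by
  refine ⟨?_, Subgroup.mem_centralizer_iff.2 fun w hw => ?_⟩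
  · show ((a * x * a⁻¹ : H) : H ⧸ E) ∈ h.liftSub hx
    rw [QuotientGroup.mk_mul, QuotientGroup.mk_mul,
      QuotientGroup.mk_inv]
    exact h.conj_liftSub hx (g := ⟨(a : H ⧸ E), hL⟩) hn hx'.1
  · have hw' : a⁻¹ * w * a ∈ s.fixE h hx := by
      have h0 := s.conj_fixE h hx (a := a⁻¹) (x := w) (by
          rw [QuotientGroup.mk_inv]; exact inv_mem hL) (by
          rw [show (⟨((a⁻¹ : H) : H ⧸ E), _⟩ : ↥(Subgroup.centralizer ({(g : H ⧸ E)} : Set (H ⧸ E)))) =
            ⟨(a : H ⧸ E), hL⟩⁻¹ from rfl, map_inv]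
          exact inv_mem hn) hw
      rwa [inv_inv] at h0
    have := Subgroup.mem_centralizer_iff.1 hx'.2 _ hw'
    calc w * (a * x * a⁻¹) = a * (a⁻¹ * w * a * x) * a⁻¹ := by group
      _ = a * (x * (a⁻¹ * w * a)) * a⁻¹ := by rw [this]
      _ = a * x * a⁻¹ * w := by group

theorem bigV_sq {x : H} (hx' : x ∈ s.bigV h hx) : x * x = 1 := by
  classical
  have hmap := (s.card_bigV h hx).2
  have hmk : ∀ y ∈ s.bigV h hx, (y : H ⧸ E) ∈ h.liftSub hx := fun y hy => hy.1
  -- an element over the identity is in the preimage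
  have hone : ∀ y ∈ s.bigV h hx, (y : H ⧸ E) = 1 → y ∈ s.fixE h hx := fun y hy e => by
    rw [← s.bigV_inf h hx]; exact ⟨hy, (QuotientGroup.eq_one_iff y).1 e⟩
  have hsq0 : ∀ y ∈ s.bigV h hx, y * y ∈ s.fixE h hx := fun y hy =>
    hone _ (mul_mem hy hy) (h.liftSub_sq hx (hmk y hy))
  -- squares lie in `⟨z⟩`
  have hsqz : ∀ y ∈ s.bigV h hx, y * y = 1 ∨ y * y = z := by
    intro y hy
    obtain ⟨hpL, hpn⟩ := s.p_data h hx
    have hy' := s.conj_bigV h hx hpL (hpn hpL) hy
    have he : y⁻¹ * (g * y * g⁻¹) ∈ s.fixE h hx := by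
      refine hone _ (mul_mem (inv_mem hy) hy') ?_
      have hc : (y : H ⧸ E) * (g : H ⧸ E) = (g : H ⧸ E) * y :=
        Subgroup.mem_centralizer_singleton_iff.1 (h.liftSub_le hx (hmk y hy))
      rw [QuotientGroup.mk_mul, QuotientGroup.mk_mul, QuotientGroup.mk_mul, QuotientGroup.mk_inv,
        QuotientGroup.mk_inv, ← hc]
      group
    set e := y⁻¹ * (g * y * g⁻¹) with hedef
    have hc : e * y = y * e := Subgroup.mem_centralizer_iff.1 hy.2 e he
    have hgg : g * (y * y) * g⁻¹ = y * y := by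
      calc g * (y * y) * g⁻¹ = y * e * (y * e) := by rw [hedef]; group
        _ = y * (e * y) * e := by group
        _ = y * (y * e) * e := by rw [hc]
        _ = y * y * (e * e) := by group
        _ = y * y := by rw [s.fixE_sq h hx he, mul_one]
    exact s.mem_zpowers_z ((s.fix _ (s.fixE_le h hx (hsq0 y hy))).1
      (mul_inv_eq_iff_eq_mul.1 hgg).symm)
  -- squares depend on the coset only
  have hcoset : ∀ y ∈ s.bigV h hx, ∀ y' ∈ s.bigV h hx, (y : H ⧸ E) = y' → y' * y' = y * y := by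
    intro y hy y' hy' e
    have hd : y⁻¹ * y' ∈ s.fixE h hx :=
      hone _ (mul_mem (inv_mem hy) hy') (by rw [QuotientGroup.mk_mul, QuotientGroup.mk_inv, e, inv_mul_cancel])
    have hc := Subgroup.mem_centralizer_iff.1 hy.2 _ hd
    calc y' * y' = y * ((y⁻¹ * y') * y) * (y⁻¹ * y') := by group
      _ = y * (y * (y⁻¹ * y')) * (y⁻¹ * y') := by rw [hc]
      _ = y * y * ((y⁻¹ * y') * (y⁻¹ * y')) := by group
      _ = y * y := by rw [s.fixE_sq h hx hd, mul_one]
  have hpre : ∀ q ∈ h.liftSub hx, ∃ y ∈ s.bigV h hx, (y : H ⧸ E) = q := fun q hq => by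
    rw [← hmap] at hq
    exact hq
  -- transitivity
  have htrans : ∀ y ∈ s.bigV h hx, ∀ y' ∈ s.bigV h hx, (y : H ⧸ E) ≠ 1 → (y' : H ⧸ E) ≠ 1 →
      y' * y' = y * y := by
    intro y hy y' hy' hy1 hy1'
    obtain ⟨hyL, hy2, hyA⟩ := hmk y hy
    obtain ⟨hyL', hy2', hyA'⟩ := hmk y' hy'
    have hne : ∀ (q : H ⧸ E) (hq : q ∈ Subgroup.centralizer ({(g : H ⧸ E)} : Set (H ⧸ E))),
        q * q = 1 → q ≠ 1 → ψ ⟨q, hq⟩ ≠ 1 := fun q hq hq2 hq1 e =>
      hq1 (congrArg Subtype.val (h.lift_unique (l := ⟨q, hq⟩) (Subtype.ext hq2) (one_mul 1)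
        (e.trans (map_one ψ).symm)))
    obtain ⟨n, hn, hne'⟩ := hx.trans _ hyA (hne _ hyL hy2 hy1) _ hyA' (hne _ hyL' hy2' hy1')
    obtain ⟨⟨l, hlL⟩, rfl⟩ := h.surj n
    obtain ⟨a, rfl⟩ := QuotientGroup.mk_surjective l
    have hay := s.conj_bigV h hx hlL hn hy
    obtain ⟨hayL, hay2, hayA⟩ := hmk _ hay
    have he : ((a * y * a⁻¹ : H) : H ⧸ E) = y' := congrArg Subtype.val (h.lift_unique
      (l := ⟨_, hayL⟩) (l' := ⟨_, hyL'⟩) (Subtype.ext hay2) (Subtype.ext hy2') (by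
        rw [← hne', ← map_inv, ← map_mul, ← map_mul]
        exact congrArg ψ (Subtype.ext (by
          show ((a * y * a⁻¹ : H) : H ⧸ E) = (a : H ⧸ E) * y * (a : H ⧸ E)⁻¹
          rw [QuotientGroup.mk_mul, QuotientGroup.mk_mul, QuotientGroup.mk_inv]))))
    rw [hcoset _ hay _ hy' he]
    rw [show a * y * a⁻¹ * (a * y * a⁻¹) = a * (y * y) * a⁻¹ by group]
    rcases hsqz y hy with e | e <;> rw [e]
    · group
    · rw [s.central a, mul_inv_cancel_right]
  by_contra hne
  have hxz : x * x = z := (hsqz x hx').resolve_left hne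
  have hx1 : (x : H ⧸ E) ≠ 1 := fun e => hne (s.fixE_sq h hx (hone x hx' e))
  have hz' : ∀ y ∈ s.bigV h hx, (y : H ⧸ E) ≠ 1 → y * y = z := fun y hy hy1 =>
    (htrans x hx' y hy hx1 hy1).trans hxz
  have hzc : ∀ a : H, a * z = z * a := s.central
  have hanti : ∀ a ∈ s.bigV h hx, ∀ b ∈ s.bigV h hx, (a : H ⧸ E) ≠ 1 → (b : H ⧸ E) ≠ 1 →
      ((a * b : H) : H ⧸ E) ≠ 1 → b * a = z * (a * b) := by
    intro a ha b hb ha1 hb1 hab1
    have h1 := hz' _ (mul_mem ha hb) hab1
    have ha' : a⁻¹ = z * a := inv_eq_of_mul_eq_one_left (by rw [mul_assoc, hz' a ha ha1, s.z_sq])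
    have hb' : b⁻¹ = z * b := inv_eq_of_mul_eq_one_left (by rw [mul_assoc, hz' b hb hb1, s.z_sq])
    calc b * a = a⁻¹ * (a * b * (a * b)) * b⁻¹ := by group
      _ = z * a * z * (z * b) := by rw [h1, ha', hb']
      _ = z * a * (z * z) * b := by group
      _ = z * (a * b) := by rw [s.z_sq, mul_one, mul_assoc]
  obtain ⟨hq1⟩ : Nonempty ((x : H ⧸ E) ∈ h.liftSub hx) := ⟨hmk x hx'⟩
  haveI : Fintype ↥(h.liftSub hx) := Fintype.ofFinite _
  have hc16 : Fintype.card ↥(h.liftSub hx) = 16 := by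
    rw [← Nat.card_eq_fintype_card, h.card_liftSub hx]
  have hpick : ∀ T : Finset ↥(h.liftSub hx), T.card ≤ 4 → ∃ q, q ∉ T := fun T hT => by
    by_contra hc
    push_neg at hc
    have := Finset.card_le_card (fun q (_ : q ∈ Finset.univ) => hc q)
    rw [Finset.card_univ, hc16] at this
    omega
  set qa : ↥(h.liftSub hx) := ⟨(x : H ⧸ E), hq1⟩
  obtain ⟨qb, hqb⟩ := hpick {1, qa} (Finset.card_le_two.trans (by norm_num))
  obtain ⟨qc, hqc⟩ := hpick {1, qa, qb, qa * qb} Finset.card_le_four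
  simp only [Finset.mem_insert, Finset.mem_singleton, not_or] at hqb hqc
  obtain ⟨b, hb, eb⟩ := hpre _ qb.2
  obtain ⟨c, hc, ec⟩ := hpre _ qc.2
  have hsq : ∀ q : ↥(h.liftSub hx), q * q = 1 := fun q => Subtype.ext (h.liftSub_sq hx q.2)
  have hval : ∀ (y : H) (q : ↥(h.liftSub hx)), (y : H ⧸ E) = q → q ≠ 1 → (y : H ⧸ E) ≠ 1 :=
    fun y q e hq e' => hq (Subtype.ext (e.symm.trans e'))
  have ea : (x : H ⧸ E) = qa := rfl
  have nab : qa * qb ≠ 1 := fun e => hqb.2 (by
    calc qb = qa * qa * qb := by rw [hsq, one_mul]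
      _ = qa := by rw [mul_assoc, e, mul_one])
  have nac : qa * qc ≠ 1 := fun e => hqc.2.1 (by
    calc qc = qa * qa * qc := by rw [hsq, one_mul]
      _ = qa := by rw [mul_assoc, e, mul_one])
  have nbc : qb * qc ≠ 1 := fun e => hqc.2.2.1 (by
    calc qc = qb * qb * qc := by rw [hsq, one_mul]
      _ = qb := by rw [mul_assoc, e, mul_one])
  have nabc : qa * (qb * qc) ≠ 1 := fun e => hqc.2.2.2 (by
    have h1 : qb * qc = qa := by
      calc qb * qc = qa * qa * (qb * qc) := by rw [hsq, one_mul]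
        _ = qa := by rw [mul_assoc qa qa, e, mul_one]
    calc qc = qb * qb * qc := by rw [hsq, one_mul]
      _ = qb * qa := by rw [mul_assoc, h1]
      _ = qa * qb := Subtype.ext (by
        have := congrArg Subtype.val (hsq (qb * qa))
        have h2 := congrArg Subtype.val (hsq qb)
        have h3 := congrArg Subtype.val (hsq qa)
        simp only [Subgroup.coe_mul, Subgroup.coe_one] at this h2 h3 ⊢
        calc (qb : H ⧸ E) * qa = ((qb : H ⧸ E) * qa)⁻¹ := (inv_eq_of_mul_eq_one_left this).symm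
          _ = qa * qb := by
            rw [mul_inv_rev, inv_eq_of_mul_eq_one_left h2, inv_eq_of_mul_eq_one_left h3]))
  have m1 := hanti x hx' b hb hx1 (hval b qb eb hqb.1)
    (hval _ (qa * qb) (by rw [QuotientGroup.mk_mul, eb]; rfl) nab)
  have m2 := hanti x hx' c hc hx1 (hval c qc ec hqc.1)
    (hval _ (qa * qc) (by rw [QuotientGroup.mk_mul, ec]; rfl) nac)
  have m3 := hanti x hx' (b * c) (mul_mem hb hc) hx1
    (hval _ (qb * qc) (by rw [QuotientGroup.mk_mul, eb, ec]; rfl) nbc)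
    (hval _ (qa * (qb * qc)) (by rw [QuotientGroup.mk_mul, QuotientGroup.mk_mul, eb, ec]; rfl) nabc)
  refine s.z_ne_one ?_
  have e1 : b * c * x = x * (b * c) := by
    calc b * c * x = b * (c * x) := mul_assoc _ _ _
      _ = b * (z * (x * c)) := by rw [m2]
      _ = z * (b * x * c) := by rw [← mul_assoc b z, hzc b]; group
      _ = z * (z * (x * b) * c) := by rw [m1]
      _ = z * z * (x * (b * c)) := by group
      _ = x * (b * c) := by rw [s.z_sq, one_mul]
  rw [e1] at m3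
  exact mul_eq_right.1 m3.symm

end Setting

end CfsgLib.JankoFourTwo
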